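import Cfsg.Agent.Th.COracle

/-!
C-ORACLE: soundness of `corc`.
-/

set_option autoImplicit false

namespace Cfsg.Agent.Th.COracleSound

open Cfsg.Agent.Th.Base Cfsg.Agent.Th.Word Cfsg.Agent.Th.RelWords Cfsg.Agent.Th.PermTab
  Cfsg.Agent.Th.KOracle Cfsg.Agent.Th.COracleDef Cfsg.Agent.Th.TabFacts Cfsg.Agent.Th.COracle

theorem isB_letter {x : ℕ} (hx : isB x = true) : x ∈ [1,3,4,5,6,7,8,9] := by
  rw [isB_iff] at hx
  obtain ⟨⟨h1, h2⟩, h3⟩ := hx
  interval_cases x <;> simp_all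

theorem labl_isB {x : ℕ} (hx : isC x = true) {p : ℕ} (hp : p < 120) : ∀ y ∈ labl x p, isB y = true :=
  (allL_iff _ _).mp ((allB_iff _ _).mp ((allG_iff _ _).mp lab_check x (mem_lettersC hx)) p hp)

theorem labW_isB {w : List ℕ} (hw : ∀ x ∈ w, isC x = true) {p : ℕ} (hp : p < 120) :
    ∀ y ∈ labW w p, isB y = true := by
  induction w generalizing p with
  | nil => simp [labW]
  | cons x w ih =>
    intro y hy
    have hx := hw x List.mem_cons_self
    rcases List.mem_append.mp hy with h | h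
    · exact labl_isB hx hp y h
    · exact ih (fun z hz => hw z (List.mem_cons_of_mem _ hz)) (isTab120.lt x hx p hp) y h

theorem act_zero {x : ℕ} (hx : isB x = true) : act x 0 = 0 :=
  Nat.beq_eq.mp ((allG_iff _ _).mp fix0_check x (isB_letter hx))

theorem tr_zero {w : List ℕ} (hw : ∀ x ∈ w, isB x = true) : tr act w 0 = 0 := by
  induction w with
  | nil => rfl
  | cons x w ih =>
    rw [tr_cons, act_zero (hw x List.mem_cons_self)]
    exact ih fun z hz => hw z (List.mem_cons_of_mem _ hz)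

/-- a B-word fixing 1, 39, 45 acts trivially on the 819 points -/
theorem tr_eq_self {w : List ℕ} (hw : ∀ x ∈ w, isB x = true) (h1 : tr act w 1 = 1)
    (h39 : tr act w 39 = 39) (h45 : tr act w 45 = 45) {y : ℕ} (hy : y < 819) : tr act w y = y := by
  have hwK : ∀ x ∈ w, isK x = true := fun x hx => isK_of_isB (hw x hx)
  have h : ev (rho isTab) w = 1 := by
    refine korc_sound boundK (rho_invCompat isTab) relK_rho ?_
    rw [korc_iff]
    exact ⟨hwK, tr_zero hw, h1, h39, h45⟩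
  have := ev_rho_inv_apply isTab hwK ⟨y, hy⟩
  rw [h] at this
  exact this.symm

theorem labW_append (v w : List ℕ) (p : ℕ) : labW (v ++ w) p = labW v p ++ labW w (tr act120 v p) := by
  induction v generalizing p with
  | nil => rfl
  | cons x v ih => simp only [List.cons_append, labW, ih, tr_cons, List.append_assoc]

theorem inv_check {x : ℕ} (hx : isC x = true) {p : ℕ} (hp : p < 120) {y : ℕ} (hy : y < 819) :
    tr act (labl (invL x) (act120 x p)) (tr act (labl x p) y) = y := by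
  have h := (allB_iff _ _).mp ((allG_iff _ _).mp labinv_check x (mem_lettersC hx)) p hp
  rw [crunG_eq, endAt_iff] at h
  obtain ⟨-, h1, h2, h3⟩ := h
  have hw : ∀ z ∈ labW [x, invL x] p, isB z = true := by
    refine labW_isB ?_ hp
    intro z hz
    simp only [List.mem_cons, List.not_mem_nil, or_false] at hz
    rcases hz with rfl | rfl
    · exact hx
    · exact isC_invL hx
  have h4 := tr_eq_self hw h1 h2 h3 hy
  have e : labW [x, invL x] p = labl x p ++ (labl (invL x) (act120 x p) ++ []) := rfl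
  rw [e, List.append_nil, tr_append] at h4
  exact h4

/-- the action of the C-letters on `120 × 819` -/
def actZ (x : ℕ) (z : Fin 120 × Fin 819) : Fin 120 × Fin 819 :=
  if hx : isC x = true then
    (⟨act120 x z.1, isTab120.lt x hx z.1 z.1.2⟩,
      ⟨tr act (labl x z.1) z.2, isTab.tr_lt (fun y hy => isK_of_isB (labl_isB hx z.1.2 y hy)) z.2.2⟩)
  else z

theorem actZ_fst {x : ℕ} (hx : isC x = true) (z : Fin 120 × Fin 819) :
    ((actZ x z).1 : ℕ) = act120 x z.1 := by unfold actZ; rw [dif_pos hx]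

theorem actZ_snd {x : ℕ} (hx : isC x = true) (z : Fin 120 × Fin 819) :
    ((actZ x z).2 : ℕ) = tr act (labl x z.1) z.2 := by unfold actZ; rw [dif_pos hx]

theorem isAct : IsAct isC actZ := by
  refine ⟨fun x hx z => ?_, fun x hx => isC_invL hx⟩
  have hx' := isC_invL hx
  refine Prod.ext (Fin.ext ?_) (Fin.ext ?_)
  · rw [actZ_fst hx', actZ_fst hx]
    exact isTab120.inv x hx z.1 z.1.2
  · rw [actZ_snd hx', actZ_fst hx, actZ_snd hx]
    exact inv_check hx z.1.2 z.2.2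

theorem trX_actZ {w : List ℕ} (hw : ∀ x ∈ w, isC x = true) (z : Fin 120 × Fin 819) :
    ((trX actZ w z).1 : ℕ) = tr act120 w z.1 ∧ ((trX actZ w z).2 : ℕ) = tr act (labW w z.1) z.2 := by
  induction w generalizing z with
  | nil => exact ⟨rfl, rfl⟩
  | cons x w ih =>
    have hx := hw x List.mem_cons_self
    obtain ⟨h1, h2⟩ := ih (fun y hy => hw y (List.mem_cons_of_mem _ hy)) (actZ x z)
    rw [actZ_fst hx] at h1 h2
    rw [actZ_snd hx] at h2
    refine ⟨h1, ?_⟩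
    have e : labW (x :: w) z.1 = labl x z.1 ++ labW w (act120 x z.1) := rfl
    rw [e, tr_append]
    exact h2

theorem relC_words_rho : ∀ r ∈ relC, ev (rhoX isAct) r = 1 := by
  intro r hr
  have h := (allG_iff _ _).mp labrel_check r hr
  rw [Bool.and_eq_true, allL_iff, allB_iff] at h
  obtain ⟨hw, h⟩ := h
  refine ev_rhoX_eq_one isAct hw fun z => ?_
  obtain ⟨h1, h2⟩ := trX_actZ hw z
  have h3 := h z.1 z.1.2
  rw [crunG_eq, endAt_iff] at h3
  obtain ⟨h4, h5, h6, h7⟩ := h3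
  exact Prod.ext (Fin.ext (h1.trans h4))
    (Fin.ext (h2.trans (tr_eq_self (labW_isB hw z.1.2) h5 h6 h7 z.2.2)))

section pair

universe u

variable {G : Type u} [Group G]

/-- the pair (element, permutation) -/
def prC (γ : ℕ → G) (x : ℕ) : G × Equiv.Perm (Fin 120 × Fin 819) := (γ x, rhoX isAct x)

theorem prC_invCompat {γ : ℕ → G} (hγ : InvCompat γ) : InvCompat (prC γ) :=
  invCompat_pair hγ (rhoX_invCompat isAct)

theorem ev_prC (γ : ℕ → G) (w : List ℕ) : ev (prC γ) w = (ev γ w, ev (rhoX isAct) w) := ev_pair _ _ w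

theorem relC_prC {γ : ℕ → G} (hγ : InvCompat γ) (h : RelC (γ 1) (γ 3) (γ 4) (γ 5) (γ 6) (γ 8) (γ 10)) :
    RelC (prC γ 1) (prC γ 3) (prC γ 4) (prC γ 5) (prC γ 6) (prC γ 8) (prC γ 10) := by
  refine relC_of_words (prC_invCompat hγ) fun r hr => ?_
  rw [ev_prC, words_of_relC hγ h r hr, relC_words_rho r hr]
  rfl

/-- the projection to the permutations -/
def alC (G : Type u) [Group G] : (G × Equiv.Perm (Fin 120 × Fin 819)) →* Equiv.Perm (Fin 120 × Fin 819) :=
  MonoidHom.snd _ _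

theorem alC_ev (γ : ℕ → G) (w : List ℕ) (hw : ∀ x ∈ w, isC x = true) (z : Fin 120 × Fin 819) :
    alC G (ev (prC γ) w)⁻¹ z = trX actZ w z := by
  rw [ev_prC]
  exact ev_rhoX_inv_apply isAct hw z

/-- the combined group -/
def SC (γ : ℕ → G) : Subgroup (G × Equiv.Perm (Fin 120 × Fin 819)) := sub (prC γ) isC

theorem SC_bound {γ : ℕ → G} (hγ : InvCompat γ)
    (h : RelC (γ 1) (γ 3) (γ 4) (γ 5) (γ 6) (γ 8) (γ 10)) :
    Finite (SC γ) ∧ Nat.card (SC γ) ≤ 92897280 := by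
  have := boundC (relC_prC hγ h)
  unfold SC
  rw [sub_isC_eq (prC_invCompat hγ)]
  exact this

/-- at the coset 0, B-words have themselves as label -/
theorem labW_zero {w : List ℕ} (hw : ∀ x ∈ w, isB x = true) : tr act120 w 0 = 0 ∧ labW w 0 = w := by
  induction w with
  | nil => exact ⟨rfl, rfl⟩
  | cons x w ih =>
    have hx := hw x List.mem_cons_self
    obtain ⟨h1, h2⟩ := ih fun z hz => hw z (List.mem_cons_of_mem _ hz)
    have h := (allG_iff _ _).mp lab0_check x (isB_letter hx)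
    rw [Bool.and_eq_true, Nat.beq_eq, Nat.beq_eq] at h
    obtain ⟨h3, h4⟩ := h
    have h5 : labl x 0 = [x] := by
      unfold labl
      rw [h4]
      rw [isB_iff] at hx
      obtain ⟨⟨h1, h2⟩, h3⟩ := hx
      interval_cases x <;> rfl
    refine ⟨?_, ?_⟩
    · rw [tr_cons, h3]; exact h1
    · show labl x 0 ++ labW w (act120 x 0) = x :: w
      rw [h3, h2, h5]
      rfl

/-- the point `(0, y)` -/
def pt (y : ℕ) (hy : y < 819) : Fin 120 × Fin 819 := (0, ⟨y, hy⟩)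

theorem trX_pt {w : List ℕ} (hw : ∀ x ∈ w, isB x = true) (y : ℕ) (hy : y < 819) :
    trX actZ w (pt y hy) = pt (tr act w y) (isTab.tr_lt (fun x hx => isK_of_isB (hw x hx)) hy) := by
  have hwC : ∀ x ∈ w, isC x = true := fun x hx => isC_of_isB (hw x hx)
  obtain ⟨h1, h2⟩ := trX_actZ hwC (pt y hy)
  have e : ((pt y hy).1 : ℕ) = 0 := rfl
  have e2 : ((pt y hy).2 : ℕ) = y := rfl
  rw [e] at h1 h2
  rw [e2] at h2
  obtain ⟨h3, h4⟩ := labW_zero hw
  rw [h3] at h1
  rw [h4] at h2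
  exact Prod.ext (Fin.ext h1) (Fin.ext h2)

/-- chain step inside `B`: orbit of `(0, b)` computed in the 819-point table -/
theorem chain_maskC {γ : ℕ → G} (S : Subgroup (G × Equiv.Perm (Fin 120 × Fin 819))) [Finite S]
    (gens : List (List ℕ)) (hg : ∀ g ∈ gens, (∀ x ∈ g, isB x = true) ∧ ev (prC γ) g ∈ S)
    (fuel : ℕ) (N b : ℕ) (hb : b < 819)
    (hN : Nat.ble N (cnt 819 (bfs act gens fuel [b] (Nat.shiftLeft 1 b))) = true) :
    N * Nat.card (S ⊓ stab (alC G) (pt b hb) : Subgroup _) ≤ Nat.card S := by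
  classical
  have hN' : N ≤ cnt 819 (bfs act gens fuel [b] (Nat.shiftLeft 1 b)) := Nat.ble_eq.mp hN
  refine le_trans (Nat.mul_le_mul_right _ hN') ?_
  rw [cnt_eq_fin]
  -- transport the set of points
  have hinj : Function.Injective (fun y : Fin 819 => ((0, y) : Fin 120 × Fin 819)) := fun x y h =>
    (Prod.ext_iff.mp h).2
  rw [← Finset.card_map ⟨_, hinj⟩]
  refine chain_step' (alC G) S (pt b hb) _ ?_
  intro z hz
  rw [Finset.mem_map] at hz
  obtain ⟨y, hy, rfl⟩ := hz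
  rw [Finset.mem_filter] at hy
  have key := bfs_spec act (fun p => ∃ hp : p < 819, ∃ g ∈ S, alC G g (pt b hb) = pt p hp) gens ?_ fuel
    [b] (Nat.shiftLeft 1 b) ?_ ?_ y hy.2
  · obtain ⟨hp, g, hg, h⟩ := key
    exact ⟨g, hg, h⟩
  · rintro w hw q ⟨hq, g, hgS, h⟩
    obtain ⟨hwf, hwS⟩ := hg w hw
    refine ⟨isTab.tr_lt (fun x hx => isK_of_isB (hwf x hx)) hq, (ev (prC γ) w)⁻¹ * g,
      S.mul_mem (S.inv_mem hwS) hgS, ?_⟩
    rw [map_mul, Equiv.Perm.mul_apply, h, alC_ev γ w (fun x hx => isC_of_isB (hwf x hx)), trX_pt hwf]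
  · intro q hq
    rw [List.mem_singleton] at hq
    subst hq
    exact ⟨hb, 1, S.one_mem, by rw [map_one]; rfl⟩
  · intro q hq
    have h0 : (Nat.lor 0 (Nat.shiftLeft 1 b)).testBit q = true := by
      have : Nat.lor 0 (Nat.shiftLeft 1 b) = Nat.shiftLeft 1 b := Nat.zero_or _
      rw [this]; exact hq
    rcases bit_set _ _ _ h0 with hq | rfl
    · simp at hq
    · exact ⟨hb, 1, S.one_mem, by rw [map_one]; rfl⟩

/-- the orbit of `(0,0)` has at least 120 points -/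
theorem chain0C {γ : ℕ → G} (S : Subgroup (G × Equiv.Perm (Fin 120 × Fin 819))) [Finite S]
    (gens : List (List ℕ)) (hg : ∀ g ∈ gens, (∀ x ∈ g, isC x = true) ∧ ev (prC γ) g ∈ S)
    (fuel : ℕ) (N : ℕ)
    (hN : Nat.ble N (cnt 120 (bfs act120 gens fuel [0] (Nat.shiftLeft 1 0))) = true) :
    N * Nat.card (S ⊓ stab (alC G) (pt 0 (by norm_num)) : Subgroup _) ≤ Nat.card S := by
  classical
  have hN' : N ≤ cnt 120 (bfs act120 gens fuel [0] (Nat.shiftLeft 1 0)) := Nat.ble_eq.mp hN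
  refine le_trans (Nat.mul_le_mul_right _ hN') ?_
  rw [cnt_eq_fin]
  have hinj : Function.Injective (fun p : Fin 120 => ((p, 0) : Fin 120 × Fin 819)) := fun x y h =>
    (Prod.ext_iff.mp h).1
  rw [← Finset.card_map ⟨_, hinj⟩]
  refine chain_step' (alC G) S (pt 0 (by norm_num)) _ ?_
  intro z hz
  rw [Finset.mem_map] at hz
  obtain ⟨y, hy, rfl⟩ := hz
  rw [Finset.mem_filter] at hy
  have key := bfs_spec act120 (fun p => ∃ hp : p < 120, ∃ g ∈ S,
    alC G g (pt 0 (by norm_num)) = (⟨p, hp⟩, 0)) gens ?_ fuel [0] (Nat.shiftLeft 1 0) ?_ ?_ y hy.2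
  · obtain ⟨hp, g, hg, h⟩ := key
    exact ⟨g, hg, h⟩
  · rintro w hw q ⟨hq, g, hgS, h⟩
    obtain ⟨hwf, hwS⟩ := hg w hw
    refine ⟨isTab120.tr_lt hwf hq, (ev (prC γ) w)⁻¹ * g, S.mul_mem (S.inv_mem hwS) hgS, ?_⟩
    rw [map_mul, Equiv.Perm.mul_apply, h, alC_ev γ w hwf]
    obtain ⟨h1, h2⟩ := trX_actZ hwf ((⟨q, hq⟩, 0) : Fin 120 × Fin 819)
    refine Prod.ext (Fin.ext h1) (Fin.ext (h2.trans ?_))
    exact tr_zero (labW_isB hwf hq)
  · intro q hq
    rw [List.mem_singleton] at hq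
    subst hq
    exact ⟨by norm_num, 1, S.one_mem, by rw [map_one]; rfl⟩
  · intro q hq
    have h0 : (Nat.lor 0 (Nat.shiftLeft 1 0)).testBit q = true := by
      have : Nat.lor 0 (Nat.shiftLeft 1 0) = Nat.shiftLeft 1 0 := Nat.zero_or _
      rw [this]; exact hq
    rcases bit_set _ _ _ h0 with hq | rfl
    · simp at hq
    · exact ⟨by norm_num, 1, S.one_mem, by rw [map_one]; rfl⟩

set_option maxRecDepth 100000 in
theorem orb_check120 : Nat.ble 120 (cnt 120 (bfs act120 [[1],[3],[4],[5],[6],[8],[10]] 120 [0] (Nat.shiftLeft 1 0))) = true := by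
  decide +kernel

/-- a B-word fixing a point of the 819-point table fixes `(0, point)` -/
theorem mem_stab_of_trC (γ : ℕ → G) {w : List ℕ} (hw : ∀ x ∈ w, isB x = true) (b : ℕ) (hb : b < 819)
    (h : tr act w b = b) : ev (prC γ) w ∈ stab (alC G) (pt b hb) := by
  have h1 : (alC G (ev (prC γ) w))⁻¹ (pt b hb) = pt b hb := by
    rw [← map_inv, alC_ev γ w (fun x hx => isC_of_isB (hw x hx)), trX_pt hw]
    congr 1
  rw [mem_stab]
  exact (Equiv.Perm.inv_eq_iff_eq.mp h1).symm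

theorem p0 : 0 < 819 := by norm_num
theorem p1 : 1 < 819 := by norm_num
theorem p39 : 39 < 819 := by norm_num
theorem p45 : 45 < 819 := by norm_num

theorem SC_chain {γ : ℕ → G} [Finite (SC γ)] :
    92897280 * Nat.card (SC γ ⊓ stab (alC G) (pt 0 p0) ⊓ stab (alC G) (pt 1 p1) ⊓ stab (alC G) (pt 39 p39) ⊓
      stab (alC G) (pt 45 p45) : Subgroup (G × Equiv.Perm (Fin 120 × Fin 819))) ≤ Nat.card (SC γ) := by
  have hf := fix_check
  simp only [Bool.and_eq_true, allG_cons, Nat.beq_eq] at hf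
  obtain ⟨⟨a0, c0, d0, e0, s0, t0, -⟩, ⟨d1, e1, s1, t1, -⟩, de39, t39⟩ := hf
  have mS : ∀ w : List ℕ, (∀ x ∈ w, isC x = true) → ev (prC γ) w ∈ SC γ := fun w hw => ev_mem_sub hw
  have kl : ∀ w : List ℕ, allL isB w = true → (∀ x ∈ w, isB x = true) := fun w hw =>
    (allL_iff _ _).mp hw
  have klC : ∀ w : List ℕ, allL isC w = true → (∀ x ∈ w, isC x = true) := fun w hw =>
    (allL_iff _ _).mp hw
  have m0 : ∀ x, isB x = true → act x 0 = 0 → ev (prC γ) [x] ∈ SC γ ⊓ stab (alC G) (pt 0 p0) := by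
    intro x hx h
    have hx' : ∀ y ∈ [x], isB y = true := by simpa using hx
    exact ⟨mS _ (fun y hy => isC_of_isB (hx' y hy)), mem_stab_of_trC γ hx' 0 p0 h⟩
  have m1 : ∀ x, isB x = true → act x 0 = 0 → act x 1 = 1 →
      ev (prC γ) [x] ∈ SC γ ⊓ stab (alC G) (pt 0 p0) ⊓ stab (alC G) (pt 1 p1) := by
    intro x hx h h'
    have hx' : ∀ y ∈ [x], isB y = true := by simpa using hx
    exact ⟨m0 x hx h, mem_stab_of_trC γ hx' 1 p1 h'⟩
  have m2 : ∀ w : List ℕ, allL isB w = true →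
      ev (prC γ) w ∈ SC γ ⊓ stab (alC G) (pt 0 p0) ⊓ stab (alC G) (pt 1 p1) →
      tr act w 39 = 39 →
      ev (prC γ) w ∈ SC γ ⊓ stab (alC G) (pt 0 p0) ⊓ stab (alC G) (pt 1 p1) ⊓ stab (alC G) (pt 39 p39) := by
    intro w hw h h'
    exact ⟨h, mem_stab_of_trC γ (kl w hw) 39 p39 h'⟩
  have e45 : ev (prC γ) [4, 5] ∈ SC γ ⊓ stab (alC G) (pt 0 p0) ⊓ stab (alC G) (pt 1 p1) := by
    have : ev (prC γ) [4, 5] = ev (prC γ) [4] * ev (prC γ) [5] := ev_append (prC γ) [4] [5]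
    rw [this]
    exact Subgroup.mul_mem _ (m1 4 rfl d0 d1) (m1 5 rfl e0 e1)
  have c0' := chain0C (γ := γ) (SC γ) [[1],[3],[4],[5],[6],[8],[10]] (by
    intro g hg
    simp only [List.mem_cons, List.not_mem_nil, or_false] at hg
    have hg' : ∀ x ∈ g, isC x = true := by
      rcases hg with rfl | rfl | rfl | rfl | rfl | rfl | rfl <;> exact klC _ rfl
    exact ⟨hg', mS g hg'⟩) 120 120 (by with_reducible exact orb_check120)
  have : Finite (SC γ ⊓ stab (alC G) (pt 0 p0) : Subgroup (G × Equiv.Perm (Fin 120 × Fin 819))) :=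
    Finite.of_injective (Subgroup.inclusion inf_le_left) (Subgroup.inclusion_injective _)
  have c1' := chain_maskC (γ := γ) (SC γ ⊓ stab (alC G) (pt 0 p0)) [[1],[3],[4],[5],[6],[8]] (by
    intro g hg
    simp only [List.mem_cons, List.not_mem_nil, or_false] at hg
    rcases hg with rfl | rfl | rfl | rfl | rfl | rfl
    · exact ⟨kl _ rfl, m0 1 rfl a0⟩
    · exact ⟨kl _ rfl, m0 3 rfl c0⟩
    · exact ⟨kl _ rfl, m0 4 rfl d0⟩
    · exact ⟨kl _ rfl, m0 5 rfl e0⟩
    · exact ⟨kl _ rfl, m0 6 rfl s0⟩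
    · exact ⟨kl _ rfl, m0 8 rfl t0⟩) 819 512 1 p1 (by with_reducible exact orb_check1)
  have : Finite (SC γ ⊓ stab (alC G) (pt 0 p0) ⊓ stab (alC G) (pt 1 p1) :
      Subgroup (G × Equiv.Perm (Fin 120 × Fin 819))) :=
    Finite.of_injective (Subgroup.inclusion inf_le_left) (Subgroup.inclusion_injective _)
  have c2' := chain_maskC (γ := γ) (SC γ ⊓ stab (alC G) (pt 0 p0) ⊓ stab (alC G) (pt 1 p1))
    [[4],[5],[6],[8]] (by
    intro g hg
    simp only [List.mem_cons, List.not_mem_nil, or_false] at hg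
    rcases hg with rfl | rfl | rfl | rfl
    · exact ⟨kl _ rfl, m1 4 rfl d0 d1⟩
    · exact ⟨kl _ rfl, m1 5 rfl e0 e1⟩
    · exact ⟨kl _ rfl, m1 6 rfl s0 s1⟩
    · exact ⟨kl _ rfl, m1 8 rfl t0 t1⟩) 819 168 39 p39 (by with_reducible exact orb_check2)
  have : Finite (SC γ ⊓ stab (alC G) (pt 0 p0) ⊓ stab (alC G) (pt 1 p1) ⊓ stab (alC G) (pt 39 p39) :
      Subgroup (G × Equiv.Perm (Fin 120 × Fin 819))) :=
    Finite.of_injective (Subgroup.inclusion inf_le_left) (Subgroup.inclusion_injective _)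
  have c3' := chain_maskC (γ := γ)
    (SC γ ⊓ stab (alC G) (pt 0 p0) ⊓ stab (alC G) (pt 1 p1) ⊓ stab (alC G) (pt 39 p39)) [[4,5],[8]] (by
    intro g hg
    simp only [List.mem_cons, List.not_mem_nil, or_false] at hg
    rcases hg with rfl | rfl
    · exact ⟨kl _ rfl, m2 _ rfl e45 de39⟩
    · exact ⟨kl _ rfl, m2 _ rfl (m1 8 rfl t0 t1) t39⟩) 819 9 45 p45 (by with_reducible exact orb_check3)
  calc _ = 120 * (512 * (168 * (9 * Nat.card (SC γ ⊓ stab (alC G) (pt 0 p0) ⊓ stab (alC G) (pt 1 p1) ⊓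
        stab (alC G) (pt 39 p39) ⊓ stab (alC G) (pt 45 p45) :
        Subgroup (G × Equiv.Perm (Fin 120 × Fin 819)))))) := by ring
    _ ≤ 120 * (512 * (168 * Nat.card (SC γ ⊓ stab (alC G) (pt 0 p0) ⊓ stab (alC G) (pt 1 p1) ⊓
        stab (alC G) (pt 39 p39) : Subgroup (G × Equiv.Perm (Fin 120 × Fin 819))))) := by gcongr
    _ ≤ 120 * (512 * Nat.card (SC γ ⊓ stab (alC G) (pt 0 p0) ⊓ stab (alC G) (pt 1 p1) :
        Subgroup (G × Equiv.Perm (Fin 120 × Fin 819)))) := by gcongr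
    _ ≤ 120 * Nat.card (SC γ ⊓ stab (alC G) (pt 0 p0) :
        Subgroup (G × Equiv.Perm (Fin 120 × Fin 819))) := by gcongr
    _ ≤ _ := c0'

/-- soundness of the C-oracle -/
theorem corc_sound {γ : ℕ → G} (hγ : InvCompat γ)
    (h : RelC (γ 1) (γ 3) (γ 4) (γ 5) (γ 6) (γ 8) (γ 10)) {w : List ℕ} (hw : corc w = true) :
    ev γ w = 1 := by
  obtain ⟨hf, hle⟩ := SC_bound hγ h
  have hc := SC_chain (γ := γ)
  rw [corc_eq] at hw
  have hwC' : allL isC w = true := by
    cases hb : allL isC w with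
    | true => rfl
    | false => rw [hb] at hw; exact absurd hw Bool.false_ne_true
  rw [hwC'] at hw
  have hwC := (allL_iff _ _).mp hwC'
  have hw' : crunG (endAt 0) w 0 1 39 45 = true := hw
  rw [crunG_eq, endAt_iff] at hw'
  obtain ⟨h0, h1, h39, h45⟩ := hw'
  have : Finite (SC γ ⊓ stab (alC G) (pt 0 p0) ⊓ stab (alC G) (pt 1 p1) ⊓ stab (alC G) (pt 39 p39) ⊓
      stab (alC G) (pt 45 p45) : Subgroup (G × Equiv.Perm (Fin 120 × Fin 819))) :=
    Finite.of_injective (Subgroup.inclusion (inf_le_left.trans (inf_le_left.trans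
      (inf_le_left.trans inf_le_left)))) (Subgroup.inclusion_injective _)
  have h1' : Nat.card (SC γ ⊓ stab (alC G) (pt 0 p0) ⊓ stab (alC G) (pt 1 p1) ⊓ stab (alC G) (pt 39 p39) ⊓
      stab (alC G) (pt 45 p45) : Subgroup (G × Equiv.Perm (Fin 120 × Fin 819))) ≤ 1 := by omega
  have hbot := Subgroup.eq_bot_of_card_le _ h1'
  have ms : ∀ (b : ℕ) (hb : b < 819), tr act (labW w 0) b = b → ev (prC γ) w ∈ stab (alC G) (pt b hb) := by
    intro b hb h
    have h1 : (alC G (ev (prC γ) w))⁻¹ (pt b hb) = pt b hb := by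
      rw [← map_inv, alC_ev γ w hwC]
      obtain ⟨h3, h4⟩ := trX_actZ hwC (pt b hb)
      exact Prod.ext (Fin.ext (h3.trans h0)) (Fin.ext (h4.trans h))
    rw [mem_stab]
    exact (Equiv.Perm.inv_eq_iff_eq.mp h1).symm
  have hm : ev (prC γ) w ∈ (SC γ ⊓ stab (alC G) (pt 0 p0) ⊓ stab (alC G) (pt 1 p1) ⊓
      stab (alC G) (pt 39 p39) ⊓ stab (alC G) (pt 45 p45) :
      Subgroup (G × Equiv.Perm (Fin 120 × Fin 819))) :=
    ⟨⟨⟨⟨ev_mem_sub hwC, ms 0 p0 (tr_zero (labW_isB hwC (by norm_num)))⟩, ms 1 p1 h1⟩,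
      ms 39 p39 h39⟩, ms 45 p45 h45⟩
  rw [hbot] at hm
  have h2 := Subgroup.mem_bot.mp hm
  rw [ev_prC] at h2
  exact (Prod.ext_iff.mp h2).1

end pair

end Cfsg.Agent.Th.COracleSound
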