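import Cfsg.Agent.Th.Bounds

/-!
`|K| ≤ 819 |B|`, `|B| ≤ 512 |L|`, `|C| ≤ 120 |B|`.
-/

set_option autoImplicit false
set_option maxRecDepth 100000

namespace Cfsg.Agent.Th.BoundsMul

open Cfsg.Agent.SporadicRecognition.CosetCert Cfsg.Agent.SporadicRecognition.CosetCertHyp
  Cfsg.Agent.SporadicRecognition.CosetChain Cfsg.Agent.Th.Base Cfsg.Agent.Th.CertTools
  Cfsg.Agent.Th.CosetTrace Cfsg.Agent.Th.Bounds

variable {G : Type*} [Group G]

theorem cardK_le_mul {a b c d e s t : G} (h : RelK a b c d e s t) :
    Nat.card (Subgroup.closure {a, b, c, d, e, s, t}) ≤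
      819 * Nat.card (Subgroup.closure {a, c, d, e, s, t}) := by
  have hB := cardB h
  have := hB.1
  have h1 := card_closure_le CertKData.C (Subgroup.closure {a, c, d, e, s, t}) (gK a b c d e s t) (hypK h)
    CertKAll.part
  have h2 : Subgroup.closure (gK a b c d e s t '' {x | x < CertKData.C.k}) =
    Subgroup.closure {a, b, c, d, e, s, t} := closure_gK a b c d e s t
  rw [h2] at h1
  exact h1.2

theorem cardB_le_mul {a b c d e s t : G} (h : RelK a b c d e s t) :
    Nat.card (Subgroup.closure {a, c, d, e, s, t}) ≤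
      512 * Nat.card (Subgroup.closure {d, e, s, t}) := by
  have hB := cardL (relB_of_relK h).L
  have := hB.1
  have h1 := card_closure_le CertBData.C (Subgroup.closure {d, e, s, t}) (gB a c d e s t)
    (hypB (relB_of_relK h) (memZ h)) CertBAll.part
  have h2 : Subgroup.closure (gB a c d e s t '' {x | x < CertBData.C.k}) =
    Subgroup.closure {a, c, d, e, s, t} := closure_gB a c d e s t
  rw [h2] at h1
  exact h1.2

theorem cardC_le_mul {a b c d e s t u : G} (hK : RelK a b c d e s t) (h : RelC a c d e s t u) :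
    Nat.card (Subgroup.closure {a, c, d, e, s, t, u}) ≤
      120 * Nat.card (Subgroup.closure {a, c, d, e, s, t}) := by
  have hB := cardB hK
  have := hB.1
  have h1 := card_closure_le CertCData.C (Subgroup.closure {a, c, d, e, s, t}) (gC a c d e s t u) (hypC h)
    CertCAll.part
  have h2 : Subgroup.closure (gC a c d e s t u '' {x | x < CertCData.C.k}) =
    Subgroup.closure {a, c, d, e, s, t, u} := closure_gC a c d e s t u
  rw [h2] at h1
  exact h1.2

end Cfsg.Agent.Th.BoundsMul
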