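import Mathlib

/-!
Subset sums of orbit lengths: if `E ≤ D` act on a finite set `X`, and `X` is covered by the `E`-orbits of points
`y i` of length at most `m i` with `∑ m i = |X|`, then every `D`-orbit has length `∑_{i ∈ J} m i` for some `J`.
-/

set_option autoImplicit false

namespace Cfsg.Agent.Th.OrbitSum

open Classical in
/-- exactness: the covering orbits are pairwise disjoint and have exactly the given lengths -/
theorem exact_of_cover {X ι : Type*} [Finite X] [Fintype ι] (O : ι → Set X) (m : ι → ℕ)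
    (hcov : ∀ x, ∃ i, x ∈ O i) (hm : ∀ i, Nat.card (O i) ≤ m i) (hsum : ∑ i, m i ≤ Nat.card X) :
    (∀ i, Nat.card (O i) = m i) ∧ ∀ i j x, x ∈ O i → x ∈ O j → i = j := by
  have : Fintype X := Fintype.ofFinite X
  -- the map Σ i, O i → X is surjective, hence bijective by cardinality
  let F : (Σ i, O i) → X := fun p => p.2.1
  have hF : Function.Surjective F := fun x => by
    obtain ⟨i, hi⟩ := hcov x
    exact ⟨⟨i, ⟨x, hi⟩⟩, rfl⟩
  have h1 : Nat.card (Σ i, O i) = ∑ i, Nat.card (O i) := by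
    rw [Nat.card_sigma]
  have h2 : Nat.card X ≤ ∑ i, Nat.card (O i) := by
    rw [← h1]
    exact Nat.card_le_card_of_surjective F hF
  have h3 : ∑ i, Nat.card (O i) ≤ ∑ i, m i := Finset.sum_le_sum fun i _ => hm i
  have h4 : ∑ i, Nat.card (O i) = ∑ i, m i := le_antisymm h3 (hsum.trans h2)
  have h5 : ∀ i, Nat.card (O i) = m i := by
    intro i
    exact (Finset.sum_eq_sum_iff_of_le fun i _ => hm i).mp h4 i (Finset.mem_univ i)
  refine ⟨h5, ?_⟩
  have h6 : Nat.card (Σ i, O i) = Nat.card X := le_antisymm (by rw [h1, h4]; exact hsum) (by rw [h1]; exact h2)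
  have h7 : Function.Bijective F := (Nat.bijective_iff_surjective_and_card F).mpr ⟨hF, h6⟩
  intro i j x hi hj
  have h8 : F ⟨i, ⟨x, hi⟩⟩ = F ⟨j, ⟨x, hj⟩⟩ := rfl
  have h9 := h7.1 h8
  exact congrArg Sigma.fst h9

/-- a set which is a union of some of the covering sets has cardinality a partial sum -/
theorem card_eq_sum {X ι : Type*} [Finite X] [Fintype ι] (O : ι → Set X) (m : ι → ℕ)
    (hcov : ∀ x, ∃ i, x ∈ O i) (hm : ∀ i, Nat.card (O i) ≤ m i) (hsum : ∑ i, m i ≤ Nat.card X)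
    (S : Set X) (hS : ∀ i, (∃ x ∈ O i, x ∈ S) → O i ⊆ S) :
    ∃ J : Finset ι, (∀ i, i ∈ J ↔ ∃ x ∈ O i, x ∈ S) ∧ Nat.card S = ∑ i ∈ J, m i := by
  classical
  obtain ⟨h1, h2⟩ := exact_of_cover O m hcov hm hsum
  refine ⟨Finset.univ.filter (fun i => ∃ x ∈ O i, x ∈ S), fun i => by simp, ?_⟩
  set J : Finset ι := Finset.univ.filter (fun i => ∃ x ∈ O i, x ∈ S) with hJ
  have hmem : ∀ i, i ∈ J ↔ ∃ x ∈ O i, x ∈ S := fun i => by simp [hJ]
  -- equivalence between Σ i : J, O i and S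
  let F : (Σ i : J, O i.1) → S := fun p => ⟨p.2.1, hS p.1.1 ((hmem _).mp p.1.2) p.2.2⟩
  have hF : Function.Bijective F := by
    constructor
    · rintro ⟨⟨i, hi⟩, ⟨x, hx⟩⟩ ⟨⟨j, hj⟩, ⟨y, hy⟩⟩ h
      have hxy : x = y := congrArg Subtype.val h
      subst hxy
      have hij : i = j := h2 i j x hx hy
      subst hij
      rfl
    · rintro ⟨x, hx⟩
      obtain ⟨i, hi⟩ := hcov x
      exact ⟨⟨⟨i, (hmem i).mpr ⟨x, hi, hx⟩⟩, ⟨x, hi⟩⟩, rfl⟩
  rw [← Nat.card_congr (Equiv.ofBijective F hF), Nat.card_sigma]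
  have h3 : ∀ p : J, Nat.card (O p.1) = m p.1 := fun p => h1 p.1
  simp only [h3]
  rw [Finset.sum_coe_sort J m]

/-- all sums of sublists, computed -/
def sums : List ℕ → List ℕ
  | [] => [0]
  | x :: l => (sums l) ++ (sums l).map (x + ·)

theorem sum_mem_sums {n : ℕ} (m : Fin n → ℕ) (J : Finset (Fin n)) :
    ∑ i ∈ J, m i ∈ sums (List.ofFn m) := by
  induction n with
  | zero =>
    have : J = ∅ := Finset.eq_empty_of_isEmpty J
    subst this
    simp [sums]
  | succ n ih =>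
    rw [List.ofFn_succ, sums, List.mem_append, List.mem_map]
    classical
    let J' : Finset (Fin n) := Finset.univ.filter (fun i => i.succ ∈ J)
    have h1 : ∑ i ∈ J', m i.succ ∈ sums (List.ofFn fun i => m i.succ) := ih (fun i => m i.succ) J'
    have h2 : ∑ i ∈ J, m i = (if (0 : Fin (n + 1)) ∈ J then m 0 else 0) + ∑ i ∈ J', m i.succ := by
      have e : ∑ i ∈ J, m i = ∑ i : Fin (n + 1), if i ∈ J then m i else 0 := by
        rw [Finset.sum_ite_mem, Finset.univ_inter]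
      rw [e, Fin.sum_univ_succ]
      congr 1
      rw [Finset.sum_filter]
    by_cases h0 : (0 : Fin (n + 1)) ∈ J
    · right
      rw [if_pos h0] at h2
      exact ⟨_, h1, h2.symm⟩
    · left
      rw [if_neg h0, zero_add] at h2
      rw [h2]; exact h1

theorem sum_of_zero_mem {n : ℕ} (m : Fin (n + 1) → ℕ) (J : Finset (Fin (n + 1))) (h0 : 0 ∈ J) :
    ∃ s ∈ sums (List.ofFn fun i : Fin n => m i.succ), ∑ i ∈ J, m i = m 0 + s := by
  classical
  let J' : Finset (Fin n) := Finset.univ.filter (fun i => i.succ ∈ J)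
  have h1 : ∑ i ∈ J', m i.succ ∈ sums (List.ofFn fun i => m i.succ) := sum_mem_sums (fun i => m i.succ) J'
  have h2 : ∑ i ∈ J, m i = (if (0 : Fin (n + 1)) ∈ J then m 0 else 0) + ∑ i ∈ J', m i.succ := by
    have e : ∑ i ∈ J, m i = ∑ i : Fin (n + 1), if i ∈ J then m i else 0 := by
      rw [Finset.sum_ite_mem, Finset.univ_inter]
    rw [e, Fin.sum_univ_succ]
    congr 1
    rw [Finset.sum_filter]
  rw [if_pos h0] at h2
  exact ⟨_, h1, h2⟩

end Cfsg.Agent.Th.OrbitSum
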