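import Cfsg.Agent.Th.KPerm
import Cfsg.Agent.Th.BoundsMul
import Cfsg.Agent.Th.OrbitSum

/-!
`K` of order 634023936: trivial centre, `|B| = 774144`, `C_K(a) = B`.
-/

set_option autoImplicit false

namespace Cfsg.Agent.Th.KFacts

open Cfsg.Agent.Th.Base Cfsg.Agent.Th.Word Cfsg.Agent.Th.RelWords Cfsg.Agent.Th.PermTab
  Cfsg.Agent.Th.KOracle Cfsg.Agent.Th.KPerm Cfsg.Agent.Th.OrbitSum

universe u

variable {G : Type u} [Group G] {γ : ℕ → G}

theorem rho_inv_apply {x : ℕ} (hx : isK x = true) (p : Fin 819) :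
    (((rho isTab x)⁻¹ p : Fin 819) : ℕ) = act x p := by
  have h := ev_rho_inv_apply isTab (w := [x]) (by simpa using hx) p
  rw [ev_singleton] at h
  exact h

/-- commuting with the permutation of a letter -/
theorem comm_apply {σ : Equiv.Perm (Fin 819)} {x : ℕ} (hx : isK x = true)
    (h : σ * rho isTab x = rho isTab x * σ) (p q : Fin 819) (hq : (q : ℕ) = act x p) :
    ((σ q : Fin 819) : ℕ) = act x (σ p) := by
  have h1 : q = (rho isTab x)⁻¹ p := Fin.ext (hq.trans (rho_inv_apply hx p).symm)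
  rw [← rho_inv_apply hx (σ p), h1]
  congr 1
  have h2 : σ * (rho isTab x)⁻¹ = (rho isTab x)⁻¹ * σ := by
    have := congrArg (fun z => (rho isTab x)⁻¹ * z * (rho isTab x)⁻¹) h
    simp only [mul_assoc, mul_inv_cancel, mul_one, inv_mul_cancel_left] at this
    exact this.symm
  exact DFunLike.congr_fun h2 p

set_option maxRecDepth 100000 in
theorem fixB_check : allB 819 (fun p => Bool.rec true (Nat.beq p 0)
    (and (Nat.beq (act 1 p) p) (and (Nat.beq (act 3 p) p) (and (Nat.beq (act 4 p) p)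
      (and (Nat.beq (act 5 p) p) (and (Nat.beq (act 6 p) p) (Nat.beq (act 8 p) p))))))) = true := by
  decide +kernel

/-- the only point fixed by the generators of `B` is 0 -/
theorem fixB {p : ℕ} (hp : p < 819) (h : ∀ x, isB x = true → act x p = p) : p = 0 := by
  have h1 := (allB_iff _ _).mp fixB_check p hp
  have h2 : (and (Nat.beq (act 1 p) p) (and (Nat.beq (act 3 p) p) (and (Nat.beq (act 4 p) p)
      (and (Nat.beq (act 5 p) p) (and (Nat.beq (act 6 p) p) (Nat.beq (act 8 p) p)))))) = true := by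
    simp only [Bool.and_eq_true, Nat.beq_eq]
    exact ⟨h 1 rfl, h 3 rfl, h 4 rfl, h 5 rfl, h 6 rfl, h 8 rfl⟩
  rw [h2] at h1
  exact Nat.eq_of_beq_eq_true h1

set_option maxRecDepth 100000 in
theorem act0_check : allG (fun x => Nat.beq (act x 0) 0) [1,3,4,5,6,7,8,9] = true := by decide +kernel

theorem act0 {x : ℕ} (h : isB x = true) : act x 0 = 0 := by
  have h1 := (allG_iff _ _).mp act0_check x (by
    rw [isB_iff] at h
    obtain ⟨⟨h2, h3⟩, h4⟩ := h
    interval_cases x <;> simp at h4 ⊢)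
  exact Nat.eq_of_beq_eq_true h1

set_option maxRecDepth 100000 in
theorem full_check : allB 819 (fun p => bit (bfs act [[1],[2],[3],[4],[5],[6],[8]] 819 [0] (Nat.shiftLeft 1 0)) p)
    = true := by
  decide +kernel

/-- induction over the 819 points from point 0 by the letters -/
theorem point_induction (P : ℕ → Prop) (h0 : P 0) (hs : ∀ x, isK x = true → ∀ q, P q → P (act x q)) :
    ∀ p < 819, P p := by
  intro p hp
  have h1 := (allB_iff _ _).mp full_check p hp
  rw [bit_eq] at h1
  refine bfs_spec act P _ ?_ 819 [0] (Nat.shiftLeft 1 0) ?_ ?_ p h1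
  · intro g hg q hq
    simp only [List.mem_cons, List.not_mem_nil, or_false] at hg
    rcases hg with rfl | rfl | rfl | rfl | rfl | rfl | rfl
    · exact hs 1 rfl q hq
    · exact hs 2 rfl q hq
    · exact hs 3 rfl q hq
    · exact hs 4 rfl q hq
    · exact hs 5 rfl q hq
    · exact hs 6 rfl q hq
    · exact hs 8 rfl q hq
  · intro q hq
    rw [List.mem_singleton] at hq
    rw [hq]; exact h0
  · intro q hq
    have h2 : (Nat.lor 0 (Nat.shiftLeft 1 0)).testBit q = true := by
      have : Nat.lor 0 (Nat.shiftLeft 1 0) = Nat.shiftLeft 1 0 := Nat.zero_or _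
      rw [this]; exact hq
    rcases bit_set _ _ _ h2 with h3 | rfl
    · simp at h3
    · exact h0

/-- a permutation commuting with all letters is trivial -/
theorem perm_eq_one {σ : Equiv.Perm (Fin 819)}
    (h : ∀ x, isK x = true → σ * rho isTab x = rho isTab x * σ) : σ = 1 := by
  have h0 : ((σ 0 : Fin 819) : ℕ) = 0 := by
    refine fixB (σ 0).2 fun x hx => ?_
    exact (comm_apply (isK_of_isB hx) (h x (isK_of_isB hx)) 0 0 (act0 hx).symm).symm
  have h1 : ∀ p < 819, ∃ hp : p < 819, ((σ ⟨p, hp⟩ : Fin 819) : ℕ) = p := by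
    refine point_induction (fun p => ∃ hp : p < 819, ((σ ⟨p, hp⟩ : Fin 819) : ℕ) = p)
      ⟨by norm_num, h0⟩ ?_
    rintro x hx q ⟨hq, hq2⟩
    refine ⟨isTab.lt x hx q hq, ?_⟩
    rw [comm_apply hx (h x hx) ⟨q, hq⟩ ⟨act x q, isTab.lt x hx q hq⟩ rfl, hq2]
  ext p
  obtain ⟨_, h2⟩ := h1 p p.2
  exact h2

/-- `K` has trivial centre -/
theorem eq_one_of_central (hγ : InvCompat γ) (h : RelK (γ 1) (γ 2) (γ 3) (γ 4) (γ 5) (γ 6) (γ 8))
    (hcard : Nat.card (sub γ isK) = 634023936) {z : G} (hz : z ∈ sub γ isK)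
    (hc : ∀ x, isK x = true → z * γ x = γ x * z) : z = 1 := by
  obtain ⟨φ, hφ, hφ2⟩ := exists_hom hγ h hcard
  have hx1 : ∀ x, isK x = true → ∀ y ∈ [x], isK y = true := fun x hx y hy => by
    rw [List.mem_singleton] at hy; rw [hy]; exact hx
  have hφ3 : ∀ x (hx : isK x = true), φ ⟨ev γ [x], ev_mem_sub (hx1 x hx)⟩ = rho isTab x := by
    intro x hx
    rw [hφ2 [x] (hx1 x hx), ev_singleton]
  have h1 : φ ⟨z, hz⟩ = 1 := by
    apply perm_eq_one
    intro x hx
    rw [← hφ3 x hx, ← map_mul, ← map_mul]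
    congr 1
    apply Subtype.ext
    change z * ev γ [x] = ev γ [x] * z
    rw [ev_singleton]
    exact hc x hx
  have h2 : (⟨z, hz⟩ : sub γ isK) = 1 := hφ (by rw [h1, map_one])
  exact congrArg Subtype.val h2

/-! ### `B` -/

/-- `sub γ isB` is generated by the six generators -/
theorem sub_isB_eq (hγ : InvCompat γ) :
    sub γ isB = Subgroup.closure {γ 1, γ 3, γ 4, γ 5, γ 6, γ 8} := by
  have i7 : γ 7 = (γ 6)⁻¹ := hγ 6
  have i9 : γ 9 = (γ 8)⁻¹ := hγ 8
  apply le_antisymm
  · unfold sub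
    rw [Subgroup.closure_le]
    rintro g ⟨x, hx, rfl⟩
    rw [isB_iff] at hx
    have h : ∀ y ∈ ({γ 1, γ 3, γ 4, γ 5, γ 6, γ 8} : Set G),
        y ∈ Subgroup.closure ({γ 1, γ 3, γ 4, γ 5, γ 6, γ 8} : Set G) :=
      fun y hy => Subgroup.subset_closure hy
    obtain ⟨⟨h1, h2⟩, h3⟩ := hx
    interval_cases x
    · exact h _ (by simp)
    · exact absurd rfl h3
    · exact h _ (by simp)
    · exact h _ (by simp)
    · exact h _ (by simp)
    · exact h _ (by simp)
    · rw [i7]; exact Subgroup.inv_mem _ (h _ (by simp))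
    · exact h _ (by simp)
    · rw [i9]; exact Subgroup.inv_mem _ (h _ (by simp))
  · rw [Subgroup.closure_le]
    intro g hg
    simp only [Set.mem_insert_iff, Set.mem_singleton_iff] at hg
    rcases hg with rfl | rfl | rfl | rfl | rfl | rfl
    · exact Subgroup.subset_closure ⟨1, rfl, rfl⟩
    · exact Subgroup.subset_closure ⟨3, rfl, rfl⟩
    · exact Subgroup.subset_closure ⟨4, rfl, rfl⟩
    · exact Subgroup.subset_closure ⟨5, rfl, rfl⟩
    · exact Subgroup.subset_closure ⟨6, rfl, rfl⟩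
    · exact Subgroup.subset_closure ⟨8, rfl, rfl⟩

theorem B_le_K : sub γ isB ≤ sub γ isK := by
  unfold sub
  apply Subgroup.closure_mono
  rintro g ⟨x, hx, rfl⟩
  exact ⟨x, isK_of_isB hx, rfl⟩

theorem card_B (hγ : InvCompat γ) (h : RelK (γ 1) (γ 2) (γ 3) (γ 4) (γ 5) (γ 6) (γ 8))
    (hcard : Nat.card (sub γ isK) = 634023936) : Nat.card (sub γ isB) = 774144 := by
  have h1 := Bounds.cardB h
  have h2 := BoundsMul.cardK_le_mul h
  rw [← sub_isB_eq hγ] at h1 h2
  rw [← sub_isK_eq hγ, hcard] at h2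
  have h3 := h1.2
  omega

/-! ### the orbits of `B` -/

/-- mask of the `B`-orbit of a point -/
def mask (p : ℕ) : ℕ := bfs act [[1],[3],[4],[5],[6],[8]] 819 [p] (Nat.shiftLeft 1 p)

/-- representatives of the `B`-orbits -/
def rp : List ℕ := [0, 25, 9, 1]

/-- their lengths -/
def ml : List ℕ := [1, 18, 288, 512]

set_option maxRecDepth 100000 in
theorem mask_check : allG (fun i => Nat.beq (cnt 819 (mask (rp.getD i 0))) (ml.getD i 0)) [0, 1, 2, 3] = true := by
  decide +kernel

set_option maxRecDepth 100000 in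
theorem cover_check : (fun m0 m1 m2 m3 => allB 819 fun p =>
    or (bit m0 p) (or (bit m1 p) (or (bit m2 p) (bit m3 p)))) (mask 0) (mask 25) (mask 9) (mask 1) = true := by
  decide +kernel

/-- induction over a `B`-orbit -/
theorem orbit_induction (P : ℕ → Prop) (p : ℕ) (h0 : P p) (hs : ∀ x, isB x = true → ∀ q, P q → P (act x q)) :
    ∀ q, (mask p).testBit q = true → P q := by
  refine bfs_spec act P _ ?_ 819 [p] (Nat.shiftLeft 1 p) ?_ ?_
  · intro g hg q hq
    simp only [List.mem_cons, List.not_mem_nil, or_false] at hg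
    rcases hg with rfl | rfl | rfl | rfl | rfl | rfl
    · exact hs 1 rfl q hq
    · exact hs 3 rfl q hq
    · exact hs 4 rfl q hq
    · exact hs 5 rfl q hq
    · exact hs 6 rfl q hq
    · exact hs 8 rfl q hq
  · intro q hq
    rw [List.mem_singleton] at hq
    rw [hq]; exact h0
  · intro q hq
    have h2 : (Nat.lor 0 (Nat.shiftLeft 1 p)).testBit q = true := by
      have : Nat.lor 0 (Nat.shiftLeft 1 p) = Nat.shiftLeft 1 p := Nat.zero_or _
      rw [this]; exact hq
    rcases bit_set _ _ _ h2 with h3 | rfl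
    · simp at h3
    · exact h0

/-- a set of points invariant under the letters of `B` and containing 0 has 1 or 819 points, if its size divides
`634023936` -/
theorem card_invariant (S : Set (Fin 819)) (h0 : (0 : Fin 819) ∈ S)
    (hS : ∀ x, isB x = true → ∀ p q : Fin 819, (q : ℕ) = act x p → (p ∈ S ↔ q ∈ S))
    (hd : Nat.card S ∣ 634023936) : Nat.card S = 1 ∨ Nat.card S = 819 := by
  classical
  let r : Fin 4 → ℕ := fun i => rp.getD i 0
  let m : Fin 4 → ℕ := fun i => ml.getD i 0
  let O : Fin 4 → Set (Fin 819) := fun i => {p | (mask (r i)).testBit (p : ℕ) = true}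
  have hr : ∀ i, r i < 819 := by decide
  have hcov : ∀ p, ∃ i, p ∈ O i := by
    intro p
    have h1 : (allB 819 fun p =>
        or (bit (mask 0) p) (or (bit (mask 25) p) (or (bit (mask 9) p) (bit (mask 1) p)))) = true := cover_check
    have h2 := (allB_iff _ _).mp h1 p p.2
    rw [Bool.or_eq_true, Bool.or_eq_true, Bool.or_eq_true, bit_eq, bit_eq, bit_eq, bit_eq] at h2
    rcases h2 with h2 | h2 | h2 | h2
    · exact ⟨0, h2⟩
    · exact ⟨1, h2⟩
    · exact ⟨2, h2⟩
    · exact ⟨3, h2⟩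
  have hm : ∀ i, Nat.card (O i) ≤ m i := by
    intro i
    have h1 := (allG_iff _ _).mp mask_check i (by fin_cases i <;> simp)
    have h2 : cnt 819 (mask (r i)) = m i := Nat.eq_of_beq_eq_true h1
    rw [← h2, cnt_eq_fin]
    have h3 : O i = ((Finset.univ.filter (fun p : Fin 819 => (mask (r i)).testBit (p : ℕ) = true) :
        Finset (Fin 819)) : Set (Fin 819)) := by
      ext p
      simp [O]
    rw [h3, Nat.card_coe_set_eq, Set.ncard_coe_finset]
  have hsum : ∑ i, m i ≤ Nat.card (Fin 819) := by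
    rw [Nat.card_eq_fintype_card, Fintype.card_fin]
    decide
  have hrep : ∀ i, ∀ p ∈ O i, (p ∈ S ↔ (⟨r i, hr i⟩ : Fin 819) ∈ S) := by
    intro i p hp
    obtain ⟨_, h1⟩ := orbit_induction (fun q => ∃ hq : q < 819, ((⟨q, hq⟩ : Fin 819) ∈ S ↔
      (⟨r i, hr i⟩ : Fin 819) ∈ S)) (r i) ⟨hr i, Iff.rfl⟩ (by
        rintro x hx q ⟨hq, h2⟩
        refine ⟨isTab.lt x (isK_of_isB hx) q hq, ?_⟩
        rw [← h2]
        exact (hS x hx ⟨q, hq⟩ ⟨act x q, isTab.lt x (isK_of_isB hx) q hq⟩ rfl).symm) p hp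
    exact h1
  obtain ⟨J, hJ, hc⟩ := card_eq_sum O m hcov hm hsum S (by
    rintro i ⟨x, hx, hxS⟩ y hy
    exact (hrep i y hy).mpr ((hrep i x hx).mp hxS))
  have h0J : (0 : Fin 4) ∈ J := by
    rw [hJ]
    refine ⟨0, ?_, h0⟩
    show (mask 0).testBit 0 = true
    rw [← bit_eq]
    decide +kernel
  obtain ⟨s, hs, hsum⟩ := sum_of_zero_mem m J h0J
  have h4 : Nat.card S = 1 + s := by rw [hc, hsum]; rfl
  have h5 : ∀ s ∈ sums [18, 288, 512], 1 + s ∣ 634023936 → 1 + s = 1 ∨ 1 + s = 819 := by decide +kernel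
  rw [h4] at hd ⊢
  exact h5 s hs hd

theorem apply_letter {K : Subgroup G} (φ : K →* Equiv.Perm (Fin 819)) {x : ℕ} (hx : isK x = true)
    (k : K) (hk : φ k = rho isTab x) (p q : Fin 819) (hq : (q : ℕ) = act x p) : φ k⁻¹ p = q := by
  rw [map_inv, hk]
  exact Fin.ext ((rho_inv_apply hx p).trans hq.symm)

/-- the centraliser of `a` in `K` is `B` -/
theorem centralizer_a (hγ : InvCompat γ) (h : RelK (γ 1) (γ 2) (γ 3) (γ 4) (γ 5) (γ 6) (γ 8))
    (hcard : Nat.card (sub γ isK) = 634023936) {k : G} (hk : k ∈ sub γ isK)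
    (hc : k * γ 1 = γ 1 * k) : k ∈ sub γ isB := by
  classical
  obtain ⟨φ, hφ, hφ2⟩ := exists_hom hγ h hcard
  have hx1 : ∀ x, isK x = true → ∀ y ∈ [x], isK y = true := fun x hx y hy => by
    rw [List.mem_singleton] at hy; rw [hy]; exact hx
  have hmem : ∀ x, isK x = true → γ x ∈ sub γ isK := fun x hx => Subgroup.subset_closure ⟨x, hx, rfl⟩
  have hφ3 : ∀ x (hx : isK x = true), φ ⟨γ x, hmem x hx⟩ = rho isTab x := by
    intro x hx
    have e : (⟨γ x, hmem x hx⟩ : sub γ isK) = ⟨ev γ [x], ev_mem_sub (hx1 x hx)⟩ :=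
      Subtype.ext (ev_singleton γ x).symm
    rw [e, hφ2 [x] (hx1 x hx), ev_singleton]
  have hfin : Finite (sub γ isK) := Nat.finite_of_card_ne_zero (by rw [hcard]; norm_num)
  letI : MulAction (sub γ isK) (Fin 819) := MulAction.compHom (Fin 819) φ
  have hsm : ∀ (k : sub γ isK) (p : Fin 819), k • p = φ k p := fun _ _ => rfl
  -- B inside K
  let B' : Subgroup (sub γ isK) := (sub γ isB).subgroupOf (sub γ isK)
  have hB' : Nat.card B' = 774144 := by
    rw [← card_B hγ h hcard]
    exact Nat.card_congr (Subgroup.subgroupOfEquivOfLe B_le_K).toEquiv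
  -- the stabiliser of 0
  have hstab : MulAction.stabilizer (sub γ isK) (0 : Fin 819) = B' := by
    have hle : B' ≤ MulAction.stabilizer (sub γ isK) (0 : Fin 819) := by
      rintro ⟨g, hg⟩ hg'
      rw [Subgroup.mem_subgroupOf] at hg'
      obtain ⟨w, hw, rfl⟩ := exists_word hγ (fun x hx => isB_invL hx) hg'
      rw [MulAction.mem_stabilizer_iff, hsm]
      have hwK : ∀ x ∈ w, isK x = true := fun x hx => isK_of_isB (hw x hx)
      have h1 := hφ2 w hwK
      have h2 : ((((ev (rho isTab) w)⁻¹ : Equiv.Perm (Fin 819)) 0 : Fin 819) : ℕ) = 0 := by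
        rw [ev_rho_inv_apply isTab hwK]
        clear h1 hg hg'
        induction w with
        | nil => rfl
        | cons x w ih =>
          rw [tr_cons]
          have : act x ((0 : Fin 819) : ℕ) = ((0 : Fin 819) : ℕ) := act0 (hw x List.mem_cons_self)
          rw [this]
          exact ih (fun y hy => hw y (List.mem_cons_of_mem _ hy)) (fun y hy => hwK y (List.mem_cons_of_mem _ hy))
      have h3 : (ev (rho isTab) w)⁻¹ 0 = 0 := Fin.ext h2
      have h4 : φ ⟨ev γ w, hg⟩ = ev (rho isTab) w := h1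
      rw [h4]
      exact ((Equiv.Perm.inv_eq_iff_eq).mp h3).symm
    -- transitive
    have horb : ∀ p : Fin 819, p ∈ MulAction.orbit (sub γ isK) (0 : Fin 819) := by
      intro p
      obtain ⟨_, h1⟩ := point_induction (fun q => ∃ hq : q < 819, (⟨q, hq⟩ : Fin 819) ∈
        MulAction.orbit (sub γ isK) (0 : Fin 819)) ⟨by norm_num, MulAction.mem_orbit_self _⟩ (by
          rintro x hx q ⟨hq, h2⟩
          refine ⟨isTab.lt x hx q hq, ?_⟩
          have h3 : (⟨γ x, hmem x hx⟩ : sub γ isK)⁻¹ • (⟨q, hq⟩ : Fin 819) =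
              ⟨act x q, isTab.lt x hx q hq⟩ := apply_letter φ hx _ (hφ3 x hx) _ _ rfl
          rw [← h3]
          exact MulAction.mem_orbit_of_mem_orbit _ h2) p p.2
      exact h1
    have h1 : Nat.card (MulAction.orbit (sub γ isK) (0 : Fin 819)) *
        Nat.card (MulAction.stabilizer (sub γ isK) (0 : Fin 819)) = Nat.card (sub γ isK) := by
      have e := MulAction.orbitProdStabilizerEquivGroup (sub γ isK) (0 : Fin 819)
      rw [← Nat.card_prod]
      exact Nat.card_congr e
    have h2 : Nat.card (MulAction.orbit (sub γ isK) (0 : Fin 819)) = 819 := by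
      have : MulAction.orbit (sub γ isK) (0 : Fin 819) = Set.univ := Set.eq_univ_of_forall horb
      rw [this, Nat.card_eq_fintype_card, Fintype.card_setUniv, Fintype.card_fin]
    rw [h2, hcard] at h1
    exact (Subgroup.eq_of_le_of_card_ge hle (by rw [hB']; omega)).symm
  -- the centraliser
  let D : Subgroup (sub γ isK) := Subgroup.centralizer {⟨γ 1, hmem 1 rfl⟩}
  have hkD : (⟨k, hk⟩ : sub γ isK) ∈ D := by
    rw [Subgroup.mem_centralizer_singleton_iff]
    exact Subtype.ext hc
  have hBD : ∀ x (hx : isB x = true), (⟨γ x, hmem x (isK_of_isB hx)⟩ : sub γ isK) ∈ D := by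
    intro x hx
    rw [Subgroup.mem_centralizer_singleton_iff]
    apply Subtype.ext
    change γ x * γ 1 = γ 1 * γ x
    have h1 : korc [x, 1, invL x, 1] = true := by
      rw [isB_iff] at hx
      obtain ⟨⟨h2, h3⟩, h4⟩ := hx
      interval_cases x
      · decide +kernel
      · exact absurd rfl h4
      all_goals decide +kernel
    have h2 := korc_sound boundK hγ h h1
    simp only [ev_cons, ev_nil, mul_one] at h2
    have h3 : γ (invL x) = (γ x)⁻¹ := hγ x
    have h4 : γ 1 = (γ 1)⁻¹ := hγ 1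
    rw [h3] at h2
    have h5 : γ x * γ 1 * (γ x)⁻¹ = (γ 1)⁻¹ := by
      rw [eq_inv_iff_mul_eq_one]; simpa [mul_assoc] using h2
    rw [← h4] at h5
    calc γ x * γ 1 = (γ x * γ 1 * (γ x)⁻¹) * γ x := by group
      _ = γ 1 * γ x := by rw [h5]
  let S : Set (Fin 819) := MulAction.orbit D (0 : Fin 819)
  have hcardD : Nat.card S * Nat.card (MulAction.stabilizer D (0 : Fin 819)) = Nat.card D := by
    have e := MulAction.orbitProdStabilizerEquivGroup D (0 : Fin 819)
    rw [← Nat.card_prod]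
    exact Nat.card_congr e
  have hSd : Nat.card S ∣ 634023936 := by
    rw [← hcard]
    exact (Dvd.intro _ hcardD).trans (Subgroup.card_subgroup_dvd_card D)
  have hinv : ∀ x, isB x = true → ∀ p q : Fin 819, (q : ℕ) = act x p → (p ∈ S ↔ q ∈ S) := by
    intro x hx p q hq
    have h1 : (⟨⟨γ x, hmem x (isK_of_isB hx)⟩, hBD x hx⟩ : D)⁻¹ • p = q :=
      apply_letter φ (isK_of_isB hx) _ (hφ3 x (isK_of_isB hx)) _ _ hq
    rw [← h1]
    refine ⟨fun h => MulAction.mem_orbit_of_mem_orbit _ h, fun h => ?_⟩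
    have h2 := MulAction.mem_orbit_of_mem_orbit (⟨⟨γ x, hmem x (isK_of_isB hx)⟩, hBD x hx⟩ : D) h
    rwa [smul_inv_smul] at h2
  rcases card_invariant S (MulAction.mem_orbit_self _) hinv hSd with h1 | h1
  · -- D fixes 0
    have h2 : (⟨k, hk⟩ : sub γ isK) • (0 : Fin 819) = 0 := by
      have h3 : (⟨⟨k, hk⟩, hkD⟩ : D) • (0 : Fin 819) ∈ S := MulAction.mem_orbit _ _
      have h4 : (0 : Fin 819) ∈ S := MulAction.mem_orbit_self _
      obtain ⟨h5, -⟩ := Nat.card_eq_one_iff_unique.mp h1
      exact congrArg Subtype.val (h5.elim ⟨_, h3⟩ ⟨_, h4⟩)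
    have h3 : (⟨k, hk⟩ : sub γ isK) ∈ MulAction.stabilizer (sub γ isK) (0 : Fin 819) := h2
    rw [hstab] at h3
    exact h3
  · exfalso
    have hB1 : B'.subgroupOf D ≤ MulAction.stabilizer D (0 : Fin 819) := by
      rintro d hd
      rw [Subgroup.mem_subgroupOf, ← hstab] at hd
      exact hd
    have hB2 : B' ≤ D := by
      rintro ⟨g, hg⟩ hg'
      rw [Subgroup.mem_subgroupOf] at hg'
      have hg'' : g ∈ sub γ isB := hg'
      rw [Subgroup.mem_centralizer_singleton_iff]
      apply Subtype.ext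
      change g * γ 1 = γ 1 * g
      have hle : sub γ isB ≤ Subgroup.centralizer {γ 1} := by
        unfold sub
        rw [Subgroup.closure_le]
        rintro y ⟨x, hx, rfl⟩
        have h2 := hBD x hx
        rw [Subgroup.mem_centralizer_singleton_iff] at h2
        rw [SetLike.mem_coe, Subgroup.mem_centralizer_singleton_iff]
        exact congrArg Subtype.val h2
      exact Subgroup.mem_centralizer_singleton_iff.mp (hle hg'')
    have h2 : 774144 ≤ Nat.card (MulAction.stabilizer D (0 : Fin 819)) := by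
      rw [← hB', ← Nat.card_congr (Subgroup.subgroupOfEquivOfLe hB2).toEquiv]
      exact Subgroup.card_le_of_le hB1
    have h3 : Nat.card D = Nat.card (sub γ isK) := by
      apply le_antisymm (Nat.card_le_card_of_injective _ D.subtype_injective)
      rw [hcard, ← hcardD, h1]
      omega
    have h4 : D = ⊤ := Subgroup.eq_top_of_card_eq D h3
    have h5 : (⟨γ 2, hmem 2 rfl⟩ : sub γ isK) ∈ D := by rw [h4]; exact Subgroup.mem_top _
    rw [Subgroup.mem_centralizer_singleton_iff] at h5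
    have h6 := congrArg φ h5
    rw [map_mul, map_mul, hφ3 2 rfl, hφ3 1 rfl] at h6
    have h7 := comm_apply (σ := rho isTab 2) (x := 1) rfl h6
    have h8 : ∀ p : Fin 819, ((rho isTab 2 p : Fin 819) : ℕ) = act 2 p := by
      intro p
      have e : rho isTab 2 = (rho isTab 2)⁻¹ := by
        have := rho_invCompat isTab 2
        exact this
      rw [e]
      exact rho_inv_apply rfl p
    have h9 := h7 0 0 (by decide +kernel)
    rw [h8] at h9
    exact absurd h9 (by decide +kernel)

end Cfsg.Agent.Th.KFacts
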