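import Cfsg.Agent.J2.ExtQuot

/-!
A group of order 512 generated by a central involution `a` and nine involutions `c i` with `[c i, c j] = a` for
`i ≠ j` is extraspecial.
-/

set_option autoImplicit false

namespace Cfsg.Agent.Th.NineExtra

variable {G : Type*} [Group G]

structure Data (a : G) (c : Fin 9 → G) : Prop where
  aa : a * a = 1
  a1 : a ≠ 1
  ac : ∀ i, a * c i = c i * a
  cc : ∀ i, c i * c i = 1
  com : ∀ i j, i ≠ j → c i * c j = a * (c j * c i)

variable {a : G} {c : Fin 9 → G} (D : Data a c)
include D

theorem comm_a {x : G} (hx : x ∈ Subgroup.closure (insert a (Set.range c))) : a * x = x * a := by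
  have h : Subgroup.closure (insert a (Set.range c)) ≤ Subgroup.centralizer {a} := by
    rw [Subgroup.closure_le]
    intro y hy
    rw [SetLike.mem_coe, Subgroup.mem_centralizer_singleton_iff]
    rcases hy with rfl | ⟨i, rfl⟩
    · rfl
    · exact (D.ac i).symm
  exact (Subgroup.mem_centralizer_singleton_iff.mp (h hx)).symm

/-- every element commutes with `c i` up to `a` -/
theorem comm_c (i : Fin 9) {x : G} (hx : x ∈ Subgroup.closure (insert a (Set.range c))) :
    x * c i = c i * x ∨ x * c i = a * (c i * x) := by
  refine Subgroup.closure_induction (p := fun x _ => x * c i = c i * x ∨ x * c i = a * (c i * x))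
    ?_ ?_ ?_ ?_ hx
  · rintro y (rfl | ⟨j, rfl⟩)
    · exact Or.inl (D.ac i)
    · by_cases h : j = i
      · subst h; exact Or.inl rfl
      · exact Or.inr (D.com j i h)
  · left; simp
  · rintro x y hx' hy' hx hy
    have ax := comm_a D hx'
    rcases hx with hx | hx <;> rcases hy with hy | hy
    · left; rw [mul_assoc, hy, ← mul_assoc, hx, mul_assoc]
    · right
      rw [mul_assoc, hy, ← mul_assoc, ← ax, mul_assoc, ← mul_assoc x, hx]
      simp only [mul_assoc]
    · right
      rw [mul_assoc, hy, ← mul_assoc, hx]
      simp only [mul_assoc]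
    · left
      rw [mul_assoc, hy, ← mul_assoc, ← ax, mul_assoc, ← mul_assoc x, hx]
      simp only [mul_assoc]
      rw [← mul_assoc a a, D.aa, one_mul]
  · rintro x hx' hx
    have ax := comm_a D hx'
    rcases hx with hx | hx
    · left
      calc x⁻¹ * c i = x⁻¹ * (c i * x) * x⁻¹ := by group
        _ = x⁻¹ * (x * c i) * x⁻¹ := by rw [hx]
        _ = c i * x⁻¹ := by group
    · right
      have hx2 : c i * x = a * (x * c i) := by rw [hx, ← mul_assoc, D.aa, one_mul]
      have ax' : x⁻¹ * a = a * x⁻¹ := by
        calc x⁻¹ * a = x⁻¹ * (a * x) * x⁻¹ := by group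
          _ = x⁻¹ * (x * a) * x⁻¹ := by rw [ax]
          _ = a * x⁻¹ := by group
      calc x⁻¹ * c i = x⁻¹ * (c i * x) * x⁻¹ := by group
        _ = x⁻¹ * (a * (x * c i)) * x⁻¹ := by rw [hx2]
        _ = (x⁻¹ * a) * x * c i * x⁻¹ := by group
        _ = (a * x⁻¹) * x * c i * x⁻¹ := by rw [ax']
        _ = a * (c i * x⁻¹) := by group

theorem sq_mem {x : G} (hx : x ∈ Subgroup.closure (insert a (Set.range c))) : x * x = 1 ∨ x * x = a := by
  refine Subgroup.closure_induction_right (p := fun x _ => x * x = 1 ∨ x * x = a) ?_ ?_ ?_ hx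
  · left; simp
  · rintro x hx' y hy ih
    have ax := comm_a D hx'
    rcases hy with rfl | ⟨i, rfl⟩
    · have : x * y * (x * y) = x * x := by
        rw [mul_assoc, ← mul_assoc y x y, ax, mul_assoc, D.aa, mul_one]
      rw [this]; exact ih
    · rcases comm_c D i hx' with h | h
      · have : x * c i * (x * c i) = x * x := by
          rw [h]
          calc c i * x * (c i * x) = c i * (x * c i) * x := by group
            _ = c i * (c i * x) * x := by rw [h]
            _ = (c i * c i) * (x * x) := by group
            _ = x * x := by rw [D.cc, one_mul]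
        rw [this]; exact ih
      · have : x * c i * (x * c i) = a * (x * x) := by
          calc x * c i * (x * c i) = x * (c i * x) * c i := by group
            _ = x * (a * (a * (c i * x))) * c i := by rw [← mul_assoc a a, D.aa, one_mul]
            _ = x * (a * (x * c i)) * c i := by rw [← h]
            _ = x * a * x * (c i * c i) := by group
            _ = a * x * x := by rw [D.cc, mul_one, ax]
            _ = a * (x * x) := by group
        rw [this]
        rcases ih with ih | ih
        · right; rw [ih, mul_one]
        · left; rw [ih, D.aa]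
  · rintro x hx' y hy ih
    have ax := comm_a D hx'
    rcases hy with rfl | ⟨i, rfl⟩
    · have hy : y⁻¹ = y := inv_eq_of_mul_eq_one_right D.aa
      rw [hy]
      have : x * y * (x * y) = x * x := by
        rw [mul_assoc, ← mul_assoc y x y, ax, mul_assoc, D.aa, mul_one]
      rw [this]; exact ih
    · have hy : (c i)⁻¹ = c i := inv_eq_of_mul_eq_one_right (D.cc i)
      rw [hy]
      rcases comm_c D i hx' with h | h
      · have : x * c i * (x * c i) = x * x := by
          rw [h]
          calc c i * x * (c i * x) = c i * (x * c i) * x := by group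
            _ = c i * (c i * x) * x := by rw [h]
            _ = (c i * c i) * (x * x) := by group
            _ = x * x := by rw [D.cc, one_mul]
        rw [this]; exact ih
      · have : x * c i * (x * c i) = a * (x * x) := by
          calc x * c i * (x * c i) = x * (c i * x) * c i := by group
            _ = x * (a * (a * (c i * x))) * c i := by rw [← mul_assoc a a, D.aa, one_mul]
            _ = x * (a * (x * c i)) * c i := by rw [← h]
            _ = x * a * x * (c i * c i) := by group
            _ = a * x * x := by rw [D.cc, mul_one, ax]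
            _ = a * (x * x) := by group
        rw [this]
        rcases ih with ih | ih
        · right; rw [ih, mul_one]
        · left; rw [ih, D.aa]

open Classical in
/-- sign of the commutation with `c i` -/
noncomputable def sg (c : Fin 9 → G) (Q : Subgroup G) (i : Fin 9) (x : Q) : ℤˣ :=
  if (x : G) * c i = c i * x then 1 else -1

omit D in
theorem sg_eq_one_iff (Q : Subgroup G) (i : Fin 9) (x : Q) :
    sg c Q i x = 1 ↔ (x : G) * c i = c i * x := by
  unfold sg
  split_ifs with h
  · exact ⟨fun _ => h, fun _ => rfl⟩
  · exact ⟨fun h' => absurd h' (by decide), fun h' => absurd h' h⟩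

theorem not_both (i : Fin 9) (x : G) (h1 : x * c i = c i * x) (h2 : x * c i = a * (c i * x)) : False := by
  rw [h1] at h2
  have h3 : 1 * (c i * x) = a * (c i * x) := by rw [one_mul]; exact h2
  exact D.a1 (mul_right_cancel h3).symm

theorem sg_mul (i : Fin 9) (x y : Subgroup.closure (insert a (Set.range c))) :
    sg c _ i (x * y) = sg c _ i x * sg c _ i y := by
  have ax := comm_a D x.2
  rcases comm_c D i x.2 with hx | hx <;> rcases comm_c D i y.2 with hy | hy
  · rw [(sg_eq_one_iff _ i x).mpr hx, (sg_eq_one_iff _ i y).mpr hy, (sg_eq_one_iff _ i (x * y)).mpr, one_mul]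
    change (x : G) * y * c i = c i * ((x : G) * y)
    rw [mul_assoc, hy, ← mul_assoc, hx, mul_assoc]
  · have h1 : sg c _ i y = -1 := if_neg fun h => not_both D i _ h hy
    have h2 : sg c _ i (x * y) = -1 := by
      refine if_neg fun h => not_both D i _ h ?_
      change (x : G) * y * c i = a * (c i * ((x : G) * y))
      rw [mul_assoc, hy, ← mul_assoc, ← ax, mul_assoc, ← mul_assoc (x : G), hx]
      simp only [mul_assoc]
    rw [h1, h2, (sg_eq_one_iff _ i x).mpr hx, one_mul]
  · have h1 : sg c _ i x = -1 := if_neg fun h => not_both D i _ h hx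
    have h2 : sg c _ i (x * y) = -1 := by
      refine if_neg fun h => not_both D i _ h ?_
      change (x : G) * y * c i = a * (c i * ((x : G) * y))
      rw [mul_assoc, hy, ← mul_assoc, hx]
      simp only [mul_assoc]
    rw [h1, h2, (sg_eq_one_iff _ i y).mpr hy, mul_one]
  · have h1 : sg c _ i x = -1 := if_neg fun h => not_both D i _ h hx
    have h3 : sg c _ i y = -1 := if_neg fun h => not_both D i _ h hy
    rw [h1, h3, (sg_eq_one_iff _ i (x * y)).mpr]
    · rfl
    change (x : G) * y * c i = c i * ((x : G) * y)
    rw [mul_assoc, hy, ← mul_assoc, ← ax, mul_assoc, ← mul_assoc (x : G), hx]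
    simp only [mul_assoc]
    rw [← mul_assoc a a, D.aa, one_mul]

/-- commutation signs with `c 0, ..., c 7` -/
noncomputable def theta : Subgroup.closure (insert a (Set.range c)) →* (Fin 8 → ℤˣ) where
  toFun x i := sg c _ i.castSucc x
  map_one' := by
    ext i
    have : sg c (Subgroup.closure (insert a (Set.range c))) i.castSucc 1 = 1 := by
      rw [sg_eq_one_iff]; simp
    rw [this]; rfl
  map_mul' x y := by
    ext i
    have := sg_mul D i.castSucc x y
    rw [this]; rfl

theorem theta_surjective : Function.Surjective (theta D) := by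
  rw [← MonoidHom.range_eq_top, eq_top_iff]
  rintro f -
  apply Subgroup.pi_mem_of_mulSingle_mem
  intro i
  rcases Int.units_eq_one_or (f i) with h | h
  · rw [h, Pi.mulSingle_one]
    exact Subgroup.one_mem _
  · rw [h]
    have m1 : c (Fin.last 8) ∈ Subgroup.closure (insert a (Set.range c)) :=
      Subgroup.subset_closure (Or.inr ⟨_, rfl⟩)
    have m2 : c i.castSucc ∈ Subgroup.closure (insert a (Set.range c)) :=
      Subgroup.subset_closure (Or.inr ⟨_, rfl⟩)
    refine ⟨⟨c (Fin.last 8), m1⟩ * ⟨c i.castSucc, m2⟩, ?_⟩
    rw [map_mul]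
    ext j
    have hneg : ∀ k l : Fin 9, k ≠ l → ∀ hk : c k ∈ Subgroup.closure (insert a (Set.range c)),
        sg c _ l (⟨c k, hk⟩ : Subgroup.closure (insert a (Set.range c))) = -1 := by
      intro k l hkl hk
      exact if_neg fun h => not_both D l _ h (D.com k l hkl)
    have hpos : ∀ k : Fin 9, ∀ hk : c k ∈ Subgroup.closure (insert a (Set.range c)),
        sg c _ k (⟨c k, hk⟩ : Subgroup.closure (insert a (Set.range c))) = 1 := by
      intro k hk
      rw [sg_eq_one_iff]
    change ((sg c _ j.castSucc ⟨c (Fin.last 8), m1⟩ * sg c _ j.castSucc ⟨c i.castSucc, m2⟩ : ℤˣ) : ℤ) = _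
    rw [hneg _ _ (Fin.castSucc_lt_last j).ne' m1]
    by_cases hij : i = j
    · subst hij
      rw [hpos _ m2, Pi.mulSingle_eq_same, mul_one]
    · rw [hneg _ _ (fun h => hij (Fin.castSucc_injective _ h)) m2, Pi.mulSingle_eq_of_ne (Ne.symm hij)]
      rfl

theorem isExtraspecial (hcard : Nat.card (Subgroup.closure (insert a (Set.range c))) = 512) :
    Cfsg.IsExtraspecial 2 (Subgroup.closure (insert a (Set.range c))) := by
  have hfin : Finite (Subgroup.closure (insert a (Set.range c))) :=
    Nat.finite_of_card_ne_zero (by rw [hcard]; norm_num)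
  have ma : a ∈ Subgroup.closure (insert a (Set.range c)) := Subgroup.subset_closure (Or.inl rfl)
  -- kernel of theta
  have hker : Nat.card (theta D).ker = 2 := by
    have h1 := Subgroup.card_mul_index (theta D).ker
    have h2 : (theta D).ker.index = 2 ^ 8 := by
      rw [Subgroup.index_ker, MonoidHom.range_eq_top.mpr (theta_surjective D), Subgroup.card_top]
      simp
    rw [h2, hcard] at h1
    omega
  have hle : Subgroup.center (Subgroup.closure (insert a (Set.range c))) ≤ (theta D).ker := by
    intro x hx
    rw [MonoidHom.mem_ker]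
    ext i
    have m2 : c i.castSucc ∈ Subgroup.closure (insert a (Set.range c)) :=
      Subgroup.subset_closure (Or.inr ⟨_, rfl⟩)
    have h1 := Subgroup.mem_center_iff.mp hx ⟨_, m2⟩
    have h2 : sg c _ i.castSucc x = 1 := by
      rw [sg_eq_one_iff]
      exact (congrArg Subtype.val h1).symm
    change ((sg c _ i.castSucc x : ℤˣ) : ℤ) = _
    rw [h2]; rfl
  have hac : (⟨a, ma⟩ : Subgroup.closure (insert a (Set.range c))) ∈ Subgroup.center _ := by
    rw [Subgroup.mem_center_iff]
    intro g
    exact Subtype.ext (comm_a D g.2).symm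
  have hZ : Nat.card (Subgroup.center (Subgroup.closure (insert a (Set.range c)))) = 2 := by
    apply le_antisymm
    · rw [← hker]; exact Subgroup.card_le_of_le hle
    · have : Nontrivial (Subgroup.center (Subgroup.closure (insert a (Set.range c)))) := by
        refine ⟨⟨⟨a, ma⟩, hac⟩, 1, ?_⟩
        intro h
        exact D.a1 (congrArg (fun z => ((z : Subgroup.center (Subgroup.closure (insert a (Set.range c)))) :
          Subgroup.closure (insert a (Set.range c))).1) h)
      exact Finite.one_lt_card_iff_nontrivial.mpr this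
  refine J2.ExtQuot.isExtraspecial_two ?_ hZ ?_ ?_
  · exact IsPGroup.of_card (n := 9) (by rw [hcard]; norm_num)
  · intro x
    have h := sq_mem D x.2
    rcases h with h | h
    · have : x ^ 2 = 1 := Subtype.ext (by rw [pow_two]; exact h)
      rw [this]; exact Subgroup.one_mem _
    · have : x ^ 2 = ⟨a, ma⟩ := Subtype.ext (by rw [pow_two]; exact h)
      rw [this]; exact hac
  · have m0 : c 0 ∈ Subgroup.closure (insert a (Set.range c)) := Subgroup.subset_closure (Or.inr ⟨_, rfl⟩)
    have m1 : c 1 ∈ Subgroup.closure (insert a (Set.range c)) := Subgroup.subset_closure (Or.inr ⟨_, rfl⟩)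
    refine ⟨⟨c 0, m0⟩, ⟨c 1, m1⟩, fun h => ?_⟩
    have h1 : c 0 * c 1 = c 1 * c 0 := congrArg Subtype.val h
    exact not_both D 1 (c 0) h1 (D.com 0 1 (by decide))

end Cfsg.Agent.Th.NineExtra
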