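import Cfsg.Agent.Th.NineAct
import Cfsg.Agent.Th.NineExtra
import Cfsg.Agent.Th.KFacts

/-!
Structure of `C = ⟨a,c,d,e,s,t,u⟩` of order 92897280 (and `|K| = 634023936`): there is a normal extraspecial
subgroup of order 2^9 with quotient `A9`.
-/

set_option autoImplicit false
set_option maxRecDepth 100000

namespace Cfsg.Agent.Th.CStruct

open Cfsg.Agent.Th.Base Cfsg.Agent.Th.Word Cfsg.Agent.Th.RelWords Cfsg.Agent.Th.PermTab
  Cfsg.Agent.Th.KOracle Cfsg.Agent.Th.KPerm Cfsg.Agent.Th.NineAct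

universe u

variable {G : Type u} [Group G] {γ : ℕ → G}

/-! ### the homomorphism to `A9` -/

/-- the pair (element, permutation of 9 points) -/
def pr9 (γ : ℕ → G) (x : ℕ) : G × Equiv.Perm (Fin 9) := (γ x, rho isTab9 x)

theorem pr9_invCompat (hγ : InvCompat γ) : InvCompat (pr9 γ) :=
  invCompat_pair hγ (rho_invCompat isTab9)

theorem ev_pr9 (γ : ℕ → G) (w : List ℕ) : ev (pr9 γ) w = (ev γ w, ev (rho isTab9) w) := ev_pair _ _ w

theorem relC_pr9 (hγ : InvCompat γ) (h : RelC (γ 1) (γ 3) (γ 4) (γ 5) (γ 6) (γ 8) (γ 10)) :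
    RelC (pr9 γ 1) (pr9 γ 3) (pr9 γ 4) (pr9 γ 5) (pr9 γ 6) (pr9 γ 8) (pr9 γ 10) := by
  refine relC_of_words (pr9_invCompat hγ) fun r hr => ?_
  rw [ev_pr9, words_of_relC hγ h r hr, relC_words_rho r hr]
  rfl

/-- `sub γ isC` is generated by the seven generators -/
theorem sub_isC_eq {G : Type*} [Group G] {γ : ℕ → G} (hγ : InvCompat γ) :
    sub γ isC = Subgroup.closure {γ 1, γ 3, γ 4, γ 5, γ 6, γ 8, γ 10} := by
  have i7 : γ 7 = (γ 6)⁻¹ := hγ 6
  have i9 : γ 9 = (γ 8)⁻¹ := hγ 8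
  have i11 : γ 11 = (γ 10)⁻¹ := hγ 10
  apply le_antisymm
  · unfold sub
    rw [Subgroup.closure_le]
    rintro g ⟨x, hx, rfl⟩
    have hm := isC_mem hx
    have h : ∀ y ∈ ({γ 1, γ 3, γ 4, γ 5, γ 6, γ 8, γ 10} : Set G),
        y ∈ Subgroup.closure ({γ 1, γ 3, γ 4, γ 5, γ 6, γ 8, γ 10} : Set G) :=
      fun y hy => Subgroup.subset_closure hy
    simp only [List.mem_cons, List.not_mem_nil, or_false] at hm
    rcases hm with rfl | rfl | rfl | rfl | rfl | rfl | rfl | rfl | rfl | rfl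
    · exact h _ (by simp)
    · exact h _ (by simp)
    · exact h _ (by simp)
    · exact h _ (by simp)
    · exact h _ (by simp)
    · rw [i7]; exact Subgroup.inv_mem _ (h _ (by simp))
    · exact h _ (by simp)
    · rw [i9]; exact Subgroup.inv_mem _ (h _ (by simp))
    · exact h _ (by simp)
    · rw [i11]; exact Subgroup.inv_mem _ (h _ (by simp))
  · rw [Subgroup.closure_le]
    intro g hg
    simp only [Set.mem_insert_iff, Set.mem_singleton_iff] at hg
    rcases hg with rfl | rfl | rfl | rfl | rfl | rfl | rfl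
    · exact Subgroup.subset_closure ⟨1, rfl, rfl⟩
    · exact Subgroup.subset_closure ⟨3, rfl, rfl⟩
    · exact Subgroup.subset_closure ⟨4, rfl, rfl⟩
    · exact Subgroup.subset_closure ⟨5, rfl, rfl⟩
    · exact Subgroup.subset_closure ⟨6, rfl, rfl⟩
    · exact Subgroup.subset_closure ⟨8, rfl, rfl⟩
    · exact Subgroup.subset_closure ⟨10, rfl, rfl⟩

theorem exists_word_C (hγ : InvCompat γ) {g : G} (hg : g ∈ sub γ isC) :
    ∃ w : List ℕ, (∀ x ∈ w, isC x = true) ∧ ev γ w = g := exists_word hγ (fun x hx => isC_invL hx) hg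

/-- homomorphism from `C` to the permutations of 9 points -/
theorem exists_hom9 (hγ : InvCompat γ) (h : RelC (γ 1) (γ 3) (γ 4) (γ 5) (γ 6) (γ 8) (γ 10))
    (hcard : Nat.card (sub γ isC) = 92897280) :
    ∃ φ : sub γ isC →* Equiv.Perm (Fin 9), φ.range = alternatingGroup (Fin 9) ∧
      ∀ (w : List ℕ) (hw : ∀ x ∈ w, isC x = true), φ ⟨ev γ w, ev_mem_sub hw⟩ = ev (rho isTab9) w := by
  have hb := BoundsC.cardC (relC_pr9 hγ h)
  rw [← sub_isC_eq (pr9_invCompat hγ)] at hb
  have := hb.1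
  let q : sub (pr9 γ) isC →* sub γ isC :=
    ((MonoidHom.fst G (Equiv.Perm (Fin 9))).comp (sub (pr9 γ) isC).subtype).codRestrict (sub γ isC) (by
      intro z
      obtain ⟨w, hw, hzw⟩ := exists_word_C (pr9_invCompat hγ) z.2
      have h1 : z.1.1 = ev γ w := by rw [← hzw, ev_pr9]
      change z.1.1 ∈ sub γ isC
      rw [h1]
      exact ev_mem_sub hw)
  have hq : Function.Surjective q := by
    rintro ⟨g, hg⟩
    obtain ⟨w, hw, rfl⟩ := exists_word_C hγ hg
    refine ⟨⟨ev (pr9 γ) w, ev_mem_sub hw⟩, Subtype.ext ?_⟩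
    change (ev (pr9 γ) w).1 = ev γ w
    rw [ev_pr9]
  have hfinC : Finite (sub γ isC) := Nat.finite_of_card_ne_zero (by rw [hcard]; norm_num)
  have hcards : Nat.card (sub (pr9 γ) isC) = Nat.card (sub γ isC) := by
    apply le_antisymm
    · rw [hcard]; exact hb.2
    · exact Nat.card_le_card_of_surjective q hq
  have hbij : Function.Bijective q := (Nat.bijective_iff_surjective_and_card q).mpr ⟨hq, hcards⟩
  let e : sub (pr9 γ) isC ≃* sub γ isC := MulEquiv.ofBijective q hbij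
  let p2 : sub (pr9 γ) isC →* Equiv.Perm (Fin 9) :=
    (MonoidHom.snd G (Equiv.Perm (Fin 9))).comp (sub (pr9 γ) isC).subtype
  have key : ∀ (w : List ℕ) (hw : ∀ x ∈ w, isC x = true),
      (p2.comp e.symm.toMonoidHom) ⟨ev γ w, ev_mem_sub hw⟩ = ev (rho isTab9) w := by
    intro w hw
    have hm : ev (pr9 γ) w ∈ sub (pr9 γ) isC := ev_mem_sub hw
    have h1 : e ⟨ev (pr9 γ) w, hm⟩ = ⟨ev γ w, ev_mem_sub hw⟩ := by
      apply Subtype.ext
      change (ev (pr9 γ) w).1 = ev γ w
      rw [ev_pr9]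
    have h2 : e.symm ⟨ev γ w, ev_mem_sub hw⟩ = ⟨ev (pr9 γ) w, hm⟩ := by
      rw [← h1, MulEquiv.symm_apply_apply]
    change p2 (e.symm ⟨ev γ w, ev_mem_sub hw⟩) = _
    rw [h2]
    change (ev (pr9 γ) w).2 = _
    rw [ev_pr9]
  refine ⟨p2.comp e.symm.toMonoidHom, ?_, key⟩
  rw [← P9_eq]
  apply le_antisymm
  · rintro σ ⟨⟨g, hg⟩, rfl⟩
    obtain ⟨w, hw, rfl⟩ := exists_word_C hγ hg
    rw [key w hw]
    exact ev_mem_sub hw
  · refine (Subgroup.closure_le _).mpr ?_
    rintro σ ⟨x, hx, rfl⟩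
    have hx1 : ∀ y ∈ [x], isC y = true := by simpa using hx
    exact ⟨⟨ev γ [x], ev_mem_sub hx1⟩, (key [x] hx1).trans (ev_singleton _ _)⟩

/-! ### the nine conjugates of `c` -/

/-- words leading from point 0 to the other points -/
def rws : List (List ℕ) := [[], [4], [4,5], [4,5,7], [4,5,6,6], [4,5,6,6,6], [4,5,6], [4,5,7,7,7], [4,5,7,7]]

def rw' (i : ℕ) : List ℕ := rws.getD i []

/-- the conjugate of `c` with number `i` -/
def wc (i : ℕ) : List ℕ := iw (rw' i) ++ (3 :: rw' i)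

theorem rw_check : allB 9 (fun i => Nat.beq (tr act9 (rw' i) 0) i) = true := by decide +kernel

theorem conj_check : allB 9 (fun i => allG (fun x => korc (invL x :: (wc i ++ (x :: wc (act9 x i)))))
    [4,5,6,7,8,9]) = true := by decide +kernel

theorem comm_check : allB 9 (fun i => allB 9 fun j => or (Nat.beq i j)
    (korc (wc i ++ (wc j ++ (wc i ++ (wc j ++ [1])))))) = true := by decide +kernel

theorem sq_check : allB 9 (fun i => korc (wc i ++ wc i)) = true := by decide +kernel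

theorem a_check : allB 9 (fun i => korc (1 :: (wc i ++ (1 :: wc i)))) = true := by decide +kernel

theorem K_check : allB 9 (fun i => allL isB (wc i)) = true := by decide +kernel

theorem nine_check : allB 9 (fun i => allB 9 fun p => Nat.beq (tr act9 (wc i) p) p) = true := by decide +kernel

/-- the nine conjugates of `c` -/
def cc (γ : ℕ → G) (i : Fin 9) : G := ev γ (wc i)

section

variable (hγ : InvCompat γ) (hK : RelK (γ 1) (γ 2) (γ 3) (γ 4) (γ 5) (γ 6) (γ 8))
include hγ hK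

theorem korc_one {w : List ℕ} (hw : korc w = true) : ev γ w = 1 := korc_sound boundK hγ hK hw

theorem cc_sq (i : Fin 9) : cc γ i * cc γ i = 1 := by
  have h := korc_one hγ hK ((allB_iff _ _).mp sq_check i i.2)
  rwa [ev_append] at h

theorem a_sq : γ 1 * γ 1 = 1 := by rw [← pow_two]; exact hK.a2

theorem cc_a (i : Fin 9) : γ 1 * cc γ i = cc γ i * γ 1 := by
  have h := korc_one hγ hK ((allB_iff _ _).mp a_check i i.2)
  rw [ev_cons, ev_append, ev_cons] at h
  have h1 := cc_sq hγ hK i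
  have h2 := a_sq hγ hK
  change γ 1 * (cc γ i * (γ 1 * cc γ i)) = 1 at h
  have h3 : cc γ i * (γ 1 * cc γ i) = γ 1 := by
    calc cc γ i * (γ 1 * cc γ i) = (γ 1 * γ 1) * (cc γ i * (γ 1 * cc γ i)) := by rw [h2, one_mul]
      _ = γ 1 * (γ 1 * (cc γ i * (γ 1 * cc γ i))) := by group
      _ = γ 1 := by rw [h, mul_one]
  calc γ 1 * cc γ i = (cc γ i * cc γ i) * (γ 1 * cc γ i) := by rw [h1, one_mul]
    _ = cc γ i * (cc γ i * (γ 1 * cc γ i)) := by group
    _ = cc γ i * γ 1 := by rw [h3]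

theorem cc_comm (i j : Fin 9) (hij : i ≠ j) : cc γ i * cc γ j = γ 1 * (cc γ j * cc γ i) := by
  have h0 := (allB_iff _ _).mp ((allB_iff _ _).mp comm_check i i.2) j j.2
  have e1 : Nat.beq i j = false := by
    cases hb : Nat.beq i j with
    | false => rfl
    | true => exact absurd (Fin.ext (Nat.eq_of_beq_eq_true hb)) hij
  rw [e1, Bool.false_or] at h0
  have h := korc_one hγ hK h0
  rw [ev_append, ev_append, ev_append, ev_append, ev_singleton] at h
  change cc γ i * (cc γ j * (cc γ i * (cc γ j * γ 1))) = 1 at h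
  have hi := cc_sq hγ hK i
  have hj := cc_sq hγ hK j
  have ha := a_sq hγ hK
  have hai := cc_a hγ hK i
  have haj := cc_a hγ hK j
  -- c_i c_j = (c_i c_j a)⁻¹ = a c_j c_i
  have h1 : (cc γ i * cc γ j) * (cc γ i * cc γ j * γ 1) = 1 := by
    rw [← h]; group
  have h2 : (cc γ i * cc γ j * γ 1) * (γ 1 * (cc γ j * cc γ i)) = 1 := by
    calc (cc γ i * cc γ j * γ 1) * (γ 1 * (cc γ j * cc γ i)) =
        cc γ i * cc γ j * (γ 1 * γ 1) * (cc γ j * cc γ i) := by group
      _ = cc γ i * (cc γ j * cc γ j) * cc γ i := by rw [ha]; group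
      _ = 1 := by rw [hj, mul_one, hi]
  rw [eq_inv_of_mul_eq_one_left h1, eq_inv_of_mul_eq_one_right h2]

theorem cc_conj (i : Fin 9) {x : ℕ} (hx : x ∈ [4,5,6,7,8,9]) (j : Fin 9) (hj : (j : ℕ) = act9 x i) :
    (γ x)⁻¹ * cc γ i * γ x = cc γ j := by
  have h := korc_one hγ hK ((allG_iff _ _).mp ((allB_iff _ _).mp conj_check i i.2) x hx)
  rw [ev_cons, ev_append, ev_cons, ← hj, hγ x] at h
  change (γ x)⁻¹ * (cc γ i * (γ x * cc γ j)) = 1 at h
  have h1 : ((γ x)⁻¹ * cc γ i * γ x) * cc γ j = 1 := by rw [← h]; group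
  have h2 := cc_sq hγ hK j
  rw [eq_inv_of_mul_eq_one_left h1]
  exact (eq_inv_of_mul_eq_one_left h2).symm

theorem nineData (ha : γ 1 ≠ 1) : NineExtra.Data (γ 1) (cc γ) :=
  ⟨a_sq hγ hK, ha, cc_a hγ hK, cc_sq hγ hK, cc_comm hγ hK⟩

end

/-- the extraspecial subgroup -/
def Q0 (γ : ℕ → G) : Subgroup G := Subgroup.closure (insert (γ 1) (Set.range (cc γ)))

theorem cc_zero : cc γ 0 = γ 3 := by
  change ev γ [3] = γ 3
  exact ev_singleton _ _

theorem Q0_le_B : Q0 γ ≤ sub γ isB := by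
  unfold Q0
  rw [Subgroup.closure_le]
  rintro y (rfl | ⟨i, rfl⟩)
  · exact Subgroup.subset_closure ⟨1, rfl, rfl⟩
  · exact ev_mem_sub ((allL_iff _ _).mp ((allB_iff _ _).mp K_check i i.2))

section

variable (hγ : InvCompat γ) (hK : RelK (γ 1) (γ 2) (γ 3) (γ 4) (γ 5) (γ 6) (γ 8))
include hγ hK

/-- `Q0` is normalised by the letters of `B` -/
theorem Q0_conj {x : ℕ} (hx : isB x = true) {y : G} (hy : y ∈ Q0 γ) : (γ x)⁻¹ * y * γ x ∈ Q0 γ := by
  have m1 : γ 1 ∈ Q0 γ := Subgroup.subset_closure (Or.inl rfl)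
  have m3 : γ 3 ∈ Q0 γ := by
    rw [← cc_zero (γ := γ)]; exact Subgroup.subset_closure (Or.inr ⟨0, rfl⟩)
  by_cases h13 : x = 1 ∨ x = 3
  · have mx : γ x ∈ Q0 γ := by
      rcases h13 with rfl | rfl
      · exact m1
      · exact m3
    exact Subgroup.mul_mem _ (Subgroup.mul_mem _ (Subgroup.inv_mem _ mx) hy) mx
  · have hx4 : x ∈ [4,5,6,7,8,9] := by
      rw [isB_iff] at hx
      obtain ⟨⟨h1, h2⟩, h3⟩ := hx
      simp only [List.mem_cons, List.not_mem_nil, or_false]
      omega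
    -- conjugation maps the generators into Q0
    let f : G →* G := (MulAut.conj (γ x)⁻¹).toMonoidHom
    have hf : ∀ z, f z = (γ x)⁻¹ * z * γ x := fun z => by simp [f]
    have hle : Q0 γ ≤ (Q0 γ).comap f := by
      conv_lhs => unfold Q0
      rw [Subgroup.closure_le]
      rintro z (rfl | ⟨i, rfl⟩)
      · change f (γ 1) ∈ Q0 γ
        rw [hf]
        -- a commutes with all letters of B
        have h1 : korc [invL x, 1, x, 1] = true := by
          simp only [List.mem_cons, List.not_mem_nil, or_false] at hx4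
          rcases hx4 with rfl | rfl | rfl | rfl | rfl | rfl <;> decide +kernel
        have h2 := korc_one hγ hK h1
        simp only [ev_cons, ev_nil, mul_one] at h2
        rw [hγ x] at h2
        have h3 : (γ x)⁻¹ * γ 1 * γ x = (γ 1)⁻¹ := by
          rw [eq_inv_iff_mul_eq_one, ← h2]; group
        rw [h3]; exact Subgroup.inv_mem _ m1
      · change f (cc γ i) ∈ Q0 γ
        have hlt : act9 x i < 9 := isTab9.lt x (isC_of_isB hx) i i.2
        rw [hf, cc_conj hγ hK i hx4 ⟨act9 x i, hlt⟩ rfl]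
        exact Subgroup.subset_closure (Or.inr ⟨_, rfl⟩)
    have := hle hy
    rw [Subgroup.mem_comap, hf] at this
    exact this

/-- `B = Q0 · L` -/
theorem B_le {y : G} (hy : y ∈ sub γ isB) :
    ∃ q ∈ Q0 γ, ∃ l ∈ Subgroup.closure {γ 4, γ 5, γ 6, γ 8}, y = l * q := by
  have hinv : ∀ x, isB x = true → isB (invL x) = true := fun x hx => isB_invL hx
  obtain ⟨w, hw, rfl⟩ := exists_word hγ hinv hy
  clear hy
  induction w using List.reverseRecOn with
  | nil => exact ⟨1, Subgroup.one_mem _, 1, Subgroup.one_mem _, by simp⟩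
  | append_singleton w x ih =>
    obtain ⟨q, hq, l, hl, h⟩ := ih (fun z hz => hw z (List.mem_append_left _ hz))
    have hx : isB x = true := hw x (by simp)
    rw [ev_append, ev_singleton, h]
    have hc := Q0_conj hγ hK hx hq
    by_cases h13 : x = 1 ∨ x = 3
    · have mx : γ x ∈ Q0 γ := by
        rcases h13 with rfl | rfl
        · exact Subgroup.subset_closure (Or.inl rfl)
        · rw [← cc_zero (γ := γ)]; exact Subgroup.subset_closure (Or.inr ⟨0, rfl⟩)
      exact ⟨q * γ x, Subgroup.mul_mem _ hq mx, l, hl, by group⟩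
    · have hl4 : γ x ∈ Subgroup.closure {γ 4, γ 5, γ 6, γ 8} := by
        have i7 : γ 7 = (γ 6)⁻¹ := hγ 6
        have i9 : γ 9 = (γ 8)⁻¹ := hγ 8
        have hm : ∀ z ∈ ({γ 4, γ 5, γ 6, γ 8} : Set G), z ∈ Subgroup.closure ({γ 4, γ 5, γ 6, γ 8} : Set G) :=
          fun z hz => Subgroup.subset_closure hz
        rw [isB_iff] at hx
        obtain ⟨⟨h1, h2⟩, h3⟩ := hx
        interval_cases x
        · exact absurd (Or.inl rfl) h13
        · exact absurd rfl h3
        · exact absurd (Or.inr rfl) h13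
        · exact hm _ (by simp)
        · exact hm _ (by simp)
        · exact hm _ (by simp)
        · rw [i7]; exact Subgroup.inv_mem _ (hm _ (by simp))
        · exact hm _ (by simp)
        · rw [i9]; exact Subgroup.inv_mem _ (hm _ (by simp))
      exact ⟨(γ x)⁻¹ * q * γ x, hc, l * γ x, Subgroup.mul_mem _ hl hl4, by group⟩

theorem card_Q0_ge (hcard : Nat.card (sub γ isK) = 634023936) : 512 ≤ Nat.card (Q0 γ) := by
  have hB := KFacts.card_B hγ hK hcard
  have hL := Bounds.cardL (CertTools.relB_of_relK hK).L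
  have := hL.1
  have hfB : Finite (sub γ isB) := Nat.finite_of_card_ne_zero (by rw [hB]; norm_num)
  have hfQ : Finite (Q0 γ) := Finite.of_injective (Subgroup.inclusion Q0_le_B) (Subgroup.inclusion_injective _)
  let F : Subgroup.closure {γ 4, γ 5, γ 6, γ 8} × Q0 γ → G := fun p => p.1.1 * p.2.1
  have h1 : ∀ y : sub γ isB, ∃ p, F p = y := by
    intro y
    obtain ⟨q, hq, l, hl, h⟩ := B_le hγ hK y.2
    exact ⟨(⟨l, hl⟩, ⟨q, hq⟩), h.symm⟩
  choose g hg using h1
  have hinj : Function.Injective g := by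
    intro x y h
    exact Subtype.ext (by rw [← hg x, ← hg y, h])
  have h2 : Nat.card (sub γ isB) ≤ Nat.card (Subgroup.closure {γ 4, γ 5, γ 6, γ 8}) * Nat.card (Q0 γ) := by
    rw [← Nat.card_prod]
    exact Nat.card_le_card_of_injective g hinj
  rw [hB] at h2
  by_contra hlt
  have h3 : Nat.card (Q0 γ) ≤ 511 := by omega
  have h4 : Nat.card (Subgroup.closure {γ 4, γ 5, γ 6, γ 8}) * Nat.card (Q0 γ) ≤ 1512 * 511 :=
    Nat.mul_le_mul hL.2 h3
  omega

end

/-- structure of `C` -/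
theorem main (hγ : InvCompat γ) (hK : RelK (γ 1) (γ 2) (γ 3) (γ 4) (γ 5) (γ 6) (γ 8))
    (hC : RelC (γ 1) (γ 3) (γ 4) (γ 5) (γ 6) (γ 8) (γ 10))
    (hcardK : Nat.card (sub γ isK) = 634023936) (hcardC : Nat.card (sub γ isC) = 92897280)
    (ha : γ 1 ≠ 1) :
    ∃ (Q : Subgroup (sub γ isC)) (_ : Q.Normal), Nat.card Q = 2 ^ 9 ∧ Cfsg.IsExtraspecial 2 Q ∧
      Nonempty (sub γ isC ⧸ Q ≃* alternatingGroup (Fin 9)) := by
  obtain ⟨φ, hφ, hφ2⟩ := exists_hom9 hγ hC hcardC
  have hfinC : Finite (sub γ isC) := Nat.finite_of_card_ne_zero (by rw [hcardC]; norm_num)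
  have hBC : sub γ isB ≤ sub γ isC := by
    unfold sub
    apply Subgroup.closure_mono
    rintro g ⟨x, hx, rfl⟩
    exact ⟨x, isC_of_isB hx, rfl⟩
  have hQC : Q0 γ ≤ sub γ isC := Q0_le_B.trans hBC
  -- order of the kernel
  have hker : Nat.card φ.ker = 512 := by
    have h1 := Subgroup.card_mul_index φ.ker
    have h2 : φ.ker.index = 181440 := by
      rw [Subgroup.index_ker, hφ, nat_card_alternatingGroup, Nat.card_eq_fintype_card, Fintype.card_fin]
      decide
    rw [h2, hcardC] at h1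
    omega
  have hle : (Q0 γ).subgroupOf (sub γ isC) ≤ φ.ker := by
    rintro ⟨y, hy⟩ hyQ
    rw [Subgroup.mem_subgroupOf] at hyQ
    have hyQ : y ∈ Q0 γ := hyQ
    -- the preimage of the kernel contains the generators
    have h1 : Q0 γ ≤ φ.ker.map (sub γ isC).subtype := by
      unfold Q0
      rw [Subgroup.closure_le]
      have key : ∀ (w : List ℕ) (hw : ∀ x ∈ w, isC x = true), (∀ p < 9, tr act9 w p = p) →
          ev γ w ∈ φ.ker.map (sub γ isC).subtype := by
        intro w hw hp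
        refine ⟨⟨ev γ w, ev_mem_sub hw⟩, ?_, rfl⟩
        rw [SetLike.mem_coe, MonoidHom.mem_ker, hφ2 w hw]
        exact ev_rho_eq_one isTab9 hw hp
      rintro z (rfl | ⟨i, rfl⟩)
      · have := key [1] (by decide +kernel) (by decide +kernel)
        rwa [ev_singleton] at this
      · refine key (wc i) (fun x hx => isC_of_isB ((allL_iff _ _).mp ((allB_iff _ _).mp K_check i i.2) x hx)) ?_
        intro p hp
        exact Nat.eq_of_beq_eq_true ((allB_iff _ _).mp ((allB_iff _ _).mp nine_check i i.2) p hp)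
    obtain ⟨z, hz, hzy⟩ := h1 hyQ
    have : (⟨y, hy⟩ : sub γ isC) = z := Subtype.ext hzy.symm
    rw [this]; exact hz
  have hcQ : Nat.card ((Q0 γ).subgroupOf (sub γ isC)) = Nat.card (Q0 γ) :=
    Nat.card_congr (Subgroup.subgroupOfEquivOfLe hQC).toEquiv
  have hge := card_Q0_ge hγ hK hcardK
  have heq : (Q0 γ).subgroupOf (sub γ isC) = φ.ker := by
    apply Subgroup.eq_of_le_of_card_ge hle
    rw [hker, hcQ]; exact hge
  have hQ512 : Nat.card (Q0 γ) = 512 := by rw [← hcQ, heq, hker]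
  refine ⟨φ.ker, inferInstance, by rw [hker]; norm_num, ?_, ?_⟩
  · have hex : Cfsg.IsExtraspecial 2 (Q0 γ) := NineExtra.isExtraspecial (nineData hγ hK ha) hQ512
    have : Finite (Q0 γ) := Nat.finite_of_card_ne_zero (by rw [hQ512]; norm_num)
    rw [← heq]
    exact J2.ExtQuot.isExtraspecial_of_equiv (Subgroup.subgroupOfEquivOfLe hQC).symm hex
  · exact ⟨(QuotientGroup.quotientKerEquivRange φ).trans (MulEquiv.subgroupCongr hφ)⟩

end Cfsg.Agent.Th.CStruct
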