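import Cfsg.Agent.Th.FlagCover
import Cfsg.Agent.Th.KFacts
import Cfsg.Agent.Th.CStruct

/-!
The centraliser of `a` in the Thompson group is `C = sub γ isC`, of order 92897280.
-/

set_option autoImplicit false
set_option maxRecDepth 100000

namespace Cfsg.Agent.Th.CentTh

open Cfsg.Agent.Th.Base (RelK RelC)
open Cfsg.Agent.Th.Word Cfsg.Agent.Th.KOracle Cfsg.Agent.Th.COracleDef Cfsg.Agent.Th.FactData
open Cfsg.Agent.Th.FlagData Cfsg.Agent.Th.FlagCover
open Cfsg.Agent.Th.IndexBound Cfsg.Agent.Th.IndexUpper Cfsg.Agent.Th.OrbitSum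
open Cfsg.Agent.Lib.PathCheck (Holds Rel)

universe u

variable {G : Type u} [Group G]

/-- the orbit of the base coset under a subgroup -/
def orbD (H D : Subgroup G) : Set (G ⧸ H) := {x | ∃ d ∈ D, x = pt H d}

theorem card_sub (H D : Subgroup G) :
    Nat.card (orbD H D) * Nat.card (D ⊓ H : Subgroup G) = Nat.card D := by
  have h1 : Nat.card (MulAction.orbit D (pt H 1)) * Nat.card (MulAction.stabilizer D (pt H 1)) = Nat.card D := by
    rw [← Nat.card_prod]
    exact Nat.card_congr (MulAction.orbitProdStabilizerEquivGroup D (pt H 1))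
  have h2 : Nat.card (MulAction.stabilizer D (pt H 1)) = Nat.card (D ⊓ H : Subgroup G) := by
    have key : ∀ d : D, d ∈ MulAction.stabilizer D (pt H 1) ↔ (d : G) ∈ H := by
      intro d
      rw [MulAction.mem_stabilizer_iff]
      show (d : G) • pt H 1 = pt H 1 ↔ _
      rw [smul_pt, pt_eq_iff, one_mul]
      show (d : G)⁻¹ * 1⁻¹ ∈ H ↔ _
      rw [inv_one, mul_one, Subgroup.inv_mem_iff]
    refine Nat.card_congr
      { toFun := fun x => ⟨x.1.1, x.1.2, (key x.1).mp x.2⟩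
        invFun := fun x => ⟨⟨x.1, x.2.1⟩, (key ⟨x.1, x.2.1⟩).mpr x.2.2⟩
        left_inv := fun x => rfl
        right_inv := fun x => rfl }
  have h3 : (MulAction.orbit D (pt H 1) : Set (G ⧸ H)) = orbD H D := by
    ext x
    constructor
    · rintro ⟨d, rfl⟩
      refine ⟨(d : G)⁻¹, D.inv_mem d.2, ?_⟩
      show (d : G) • pt H 1 = _
      rw [smul_pt, one_mul]
    · rintro ⟨d, hd, rfl⟩
      refine ⟨⟨d⁻¹, D.inv_mem hd⟩, ?_⟩
      show (d⁻¹ : G) • pt H 1 = _
      rw [smul_pt, one_mul, inv_inv]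
  rw [← h1, ← h2, ← h3]

theorem comm_check : allG (fun x => korc [1, x, 1, invL x]) [1, 3, 4, 5, 6, 7, 8, 9] = true := by
  decide +kernel

section

variable {γ g : ℕ → G} (h : Cx γ g)

include h

theorem a_mul_a : γ 1 * γ 1 = 1 := by rw [← pow_two]; exact h.K.a2

theorem comm_letter (x : ℕ) (hx : isC x = true) : γ x * γ 1 = γ 1 * γ x := by
  have ha : (γ 1)⁻¹ = γ 1 := (h.inv 1).symm
  have hu : γ 10 * γ 1 = γ 1 * γ 10 := by
    have h1 := h.C.ua
    -- u⁻¹ a⁻¹ u a = 1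
    rw [ha] at h1
    have h2 : γ 10 * ((γ 10)⁻¹ * γ 1 * γ 10 * γ 1) = γ 10 := by rw [h1, mul_one]
    have h3 : γ 1 * γ 10 * γ 1 = γ 10 := by
      have e : γ 10 * ((γ 10)⁻¹ * γ 1 * γ 10 * γ 1) = γ 1 * γ 10 * γ 1 := by group
      rw [← e]; exact h2
    calc γ 10 * γ 1 = (γ 1 * γ 10 * γ 1) * γ 1 := by rw [h3]
      _ = γ 1 * γ 10 * (γ 1 * γ 1) := by group
      _ = γ 1 * γ 10 := by rw [a_mul_a h, mul_one]
  have hk : ∀ x, x ∈ [1, 3, 4, 5, 6, 7, 8, 9] → γ x * γ 1 = γ 1 * γ x := by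
    intro x hx
    have h1 := (allG_iff _ _).mp comm_check x hx
    have h2 := korc_sound Cfsg.Agent.Th.TabFacts.boundK h.inv h.K h1
    have h3 : γ 1 * (γ x * (γ 1 * (γ x)⁻¹)) = 1 := by
      have e : γ (invL x) = (γ x)⁻¹ := h.inv x
      have h4 : γ 1 * (γ x * (γ 1 * γ (invL x))) = 1 := by simpa using h2
      rwa [e] at h4
    calc γ x * γ 1 = (γ 1)⁻¹ * (γ 1 * (γ x * (γ 1 * (γ x)⁻¹))) * γ x := by group
      _ = γ 1 * γ x := by rw [h3, mul_one, ha]
  have hm := Cfsg.Agent.Th.NineAct.isC_mem hx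
  simp only [List.mem_cons, List.not_mem_nil, or_false] at hm
  have i11 : γ 11 = (γ 10)⁻¹ := h.inv 10
  rcases hm with rfl | rfl | rfl | rfl | rfl | rfl | rfl | rfl | rfl | rfl
  · exact hk 1 (by decide)
  · exact hk 3 (by decide)
  · exact hk 4 (by decide)
  · exact hk 5 (by decide)
  · exact hk 6 (by decide)
  · exact hk 7 (by decide)
  · exact hk 8 (by decide)
  · exact hk 9 (by decide)
  · exact hu
  · rw [i11]
    have h3 : (γ 10)⁻¹ * (γ 10 * γ 1) * (γ 10)⁻¹ = (γ 10)⁻¹ * (γ 1 * γ 10) * (γ 10)⁻¹ := by rw [hu]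
    have e1 : (γ 10)⁻¹ * (γ 10 * γ 1) * (γ 10)⁻¹ = γ 1 * (γ 10)⁻¹ := by group
    have e2 : (γ 10)⁻¹ * (γ 1 * γ 10) * (γ 10)⁻¹ = (γ 10)⁻¹ * γ 1 := by group
    rw [e1, e2] at h3
    exact h3.symm

theorem C_le : sub γ isC ≤ Subgroup.centralizer ({γ 1} : Set G) := by
  unfold sub
  rw [Subgroup.closure_le]
  rintro y ⟨x, hx, rfl⟩
  rw [SetLike.mem_coe, Subgroup.mem_centralizer_singleton_iff]
  exact comm_letter h x hx

theorem g11 : g 11 ∈ sub γ isK := by
  have h1 := h.F 7 (by norm_num)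
  have e1 : (tab 7).n1 = 0 := by decide +kernel
  have e2 : (tab 7).w1 = 0 := by decide +kernel
  have e3 : (tab 7).n2 = 11 := by decide +kernel
  have e4 : (tab 7).w2 = 0 := by decide +kernel
  unfold Holds at h1
  rw [e1, e2, e3, e4] at h1
  have h2 : g 0 * (g 11)⁻¹ ∈ sub γ isK := by simpa [Cfsg.Agent.Lib.PathCheck.ev_zero] using h1
  rw [h.N.g0, one_mul, Subgroup.inv_mem_iff] at h2
  exact h2

theorem orbC_11 : orbC γ g 11 = orbD (sub γ isK) (sub γ isC) := by
  ext x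
  constructor
  · rintro ⟨c, hc, rfl⟩
    refine ⟨c, hc, (pt_eq_iff _ _ _).mpr ?_⟩
    show g 11 * c * c⁻¹ ∈ sub γ isK
    rw [mul_inv_cancel_right]
    exact g11 h
  · rintro ⟨c, hc, rfl⟩
    refine ⟨c, hc, (pt_eq_iff _ _ _).mpr ?_⟩
    show c * (g 11 * c)⁻¹ ∈ sub γ isK
    rw [mul_inv_rev, mul_inv_cancel_left, Subgroup.inv_mem_iff]
    exact g11 h

omit h in
theorem sum_m : ∑ i : Fin 13, mN (i + 11) = 143127000 := by decide +kernel

variable (hind : (sub γ isK).index = 143127000)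

include hind

theorem hyps : Finite (G ⧸ sub γ isK) ∧ (∀ x, ∃ i : Fin 13, x ∈ orbC γ g (i + 11)) ∧
    (∀ i : Fin 13, Nat.card (orbC γ g (i + 11)) ≤ mN (i + 11)) ∧
    ∑ i : Fin 13, mN (i + 11) ≤ Nat.card (G ⧸ sub γ isK) := by
  refine ⟨?_, ?_, ?_, ?_⟩
  · apply Nat.finite_of_card_ne_zero
    change (sub γ isK).index ≠ 0
    rw [hind]; norm_num
  · intro x
    obtain ⟨j, h1, h2, h3⟩ := h.cover x
    refine ⟨⟨j - 11, by omega⟩, ?_⟩
    have e : ((⟨j - 11, by omega⟩ : Fin 13) : ℕ) + 11 = j := by simp; omega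
    rw [e]; exact h3
  · intro i
    rw [Nat.card_coe_set_eq]
    exact (h.orbC_le (i + 11) (by omega) (by omega)).2
  · rw [sum_m]
    exact hind.ge

variable (hcard : Nat.card (sub γ isK) = 634023936)

include hcard

/-- the order of `C` -/
theorem card_C : Nat.card (sub γ isC) = 92897280 := by
  obtain ⟨h1, h2, h3, h4⟩ := hyps h hind
  obtain ⟨h5, -⟩ := exact_of_cover (fun i : Fin 13 => orbC γ g (i + 11)) (fun i => mN (i + 11)) h2 h3 h4
  have h6 : Nat.card (orbC γ g 11) = 120 := h5 0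
  rw [orbC_11 h] at h6
  have h7 := card_sub (sub γ isK) (sub γ isC)
  have hfK : Finite (sub γ isK) := Nat.finite_of_card_ne_zero (by rw [hcard]; norm_num)
  have hfi : Finite (sub γ isC ⊓ sub γ isK : Subgroup G) :=
    Finite.of_injective (Subgroup.inclusion inf_le_right) (Subgroup.inclusion_injective _)
  have h8 : Nat.card (sub γ isB) ≤ Nat.card (sub γ isC ⊓ sub γ isK : Subgroup G) :=
    Nat.card_le_card_of_injective (Subgroup.inclusion (le_inf B_le_C B_le_K)) (Subgroup.inclusion_injective _)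
  rw [KFacts.card_B h.inv h.K hcard] at h8
  have h9 := (BoundsC.cardC h.C).2
  rw [← CStruct.sub_isC_eq h.inv] at h9
  rw [h6] at h7
  omega

/-- `C_G(a) ∩ K = B` -/
theorem inf_eq : Subgroup.centralizer ({γ 1} : Set G) ⊓ sub γ isK = sub γ isB := by
  apply le_antisymm
  · rintro k ⟨h1, h2⟩
    exact KFacts.centralizer_a h.inv h.K hcard h2 (Subgroup.mem_centralizer_singleton_iff.mp h1)
  · exact le_inf (B_le_C.trans (C_le h)) B_le_K

omit h hind hcard in
theorem arith : allG (fun s => or (Nat.beq s 0) (or (Nat.beq s 143126880)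
    (Bool.not (Nat.beq (634023936 * 143127000 % ((120 + s) * 774144)) 0))))
    (sums (List.ofFn fun i : Fin 12 => mN ((i.succ : Fin 13) + 11))) = true := by
  decide +kernel

/-- **The centraliser of `a`.** -/
theorem centralizer_eq (hs : IsSimpleGroup G) (ha : γ 1 ≠ 1) :
    Subgroup.centralizer ({γ 1} : Set G) = sub γ isC := by
  classical
  obtain ⟨h1, h2, h3, h4⟩ := hyps h hind
  set D := Subgroup.centralizer ({γ 1} : Set G) with hD
  have hCD : sub γ isC ≤ D := C_le h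
  obtain ⟨J, hJ, hJc⟩ := card_eq_sum (fun i : Fin 13 => orbC γ g (i + 11)) (fun i => mN (i + 11)) h2 h3 h4
    (orbD (sub γ isK) D) (by
      rintro i ⟨x, ⟨c, hc, rfl⟩, ⟨d, hd, hx⟩⟩
      rintro y ⟨c', hc', rfl⟩
      rw [pt_eq_iff] at hx
      refine ⟨d * (c⁻¹ * c'), D.mul_mem hd (hCD ((sub γ isC).mul_mem ((sub γ isC).inv_mem hc) hc')), ?_⟩
      rw [pt_eq_iff]
      have h5 := Rel.mul_right hx (c⁻¹ * c')
      have e : g (i + 11) * c * (c⁻¹ * c') = g (i + 11) * c' := by group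
      rwa [e] at h5)
  have h0 : (0 : Fin 13) ∈ J := by
    rw [hJ]
    refine ⟨pt (sub γ isK) 1, ?_, ⟨1, D.one_mem, rfl⟩⟩
    show _ ∈ orbC γ g 11
    rw [orbC_11 h]
    exact ⟨1, Subgroup.one_mem _, rfl⟩
  obtain ⟨s, hs1, hs2⟩ := sum_of_zero_mem (fun i : Fin 13 => mN (i + 11)) J h0
  have hm0 : mN ((0 : Fin 13) + 11) = 120 := by decide +kernel
  rw [hs2] at hJc
  have hJc : Nat.card (orbD (sub γ isK) D) = 120 + s := by rw [hJc]; rfl
  -- order of D
  have hDc := card_sub (sub γ isK) D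
  rw [hJc, hD, inf_eq h hind hcard, KFacts.card_B h.inv h.K hcard, ← hD] at hDc
  have hG : Nat.card G = 634023936 * 143127000 := by
    rw [← (sub γ isK).card_mul_index, hcard, hind]
  have hdvd : (120 + s) * 774144 ∣ 634023936 * 143127000 := by
    rw [hDc, ← hG]
    exact Subgroup.card_subgroup_dvd_card D
  have h5 := (allG_iff _ _).mp arith s hs1
  rw [Nat.mod_eq_zero_of_dvd hdvd] at h5
  have h6 : (or (Nat.beq s 0) (or (Nat.beq s 143126880) false)) = true := h5
  rw [Bool.or_false, Bool.or_eq_true] at h6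
  have hfG : Finite G := Nat.finite_of_card_ne_zero (by rw [hG]; norm_num)
  rcases h6 with h6 | h6
  · have h6 := Nat.eq_of_beq_eq_true h6
    subst h6
    symm
    apply Subgroup.eq_of_le_of_card_ge hCD
    rw [card_C h hind hcard, ← hDc]
  · exfalso
    have h6 := Nat.eq_of_beq_eq_true h6
    subst h6
    -- D is transitive
    have h7 : orbD (sub γ isK) D = Set.univ := by
      apply Set.eq_of_subset_of_ncard_le (Set.subset_univ _) _ (Set.toFinite _)
      rw [Set.ncard_univ]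
      rw [Nat.card_coe_set_eq] at hJc
      rw [hJc]
      exact hind.le
    -- all the conjugates of a lie in K
    have h8 : ∀ x : G, x * γ 1 * x⁻¹ ∈ sub γ isK := by
      intro x
      have h9 : pt (sub γ isK) x ∈ orbD (sub γ isK) D := by rw [h7]; exact Set.mem_univ _
      obtain ⟨d, hd, hx⟩ := h9
      rw [pt_eq_iff] at hx
      have hx : x * d⁻¹ ∈ sub γ isK := hx
      have hd' : d * γ 1 = γ 1 * d := Subgroup.mem_centralizer_singleton_iff.mp hd
      have e : x * γ 1 * x⁻¹ = (x * d⁻¹) * γ 1 * (x * d⁻¹)⁻¹ := by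
        have e2 : d⁻¹ * γ 1 * d = γ 1 := by rw [mul_assoc, ← hd', inv_mul_cancel_left]
        calc x * γ 1 * x⁻¹ = x * (d⁻¹ * (d * γ 1)) * x⁻¹ := by group
          _ = x * (d⁻¹ * (γ 1 * d)) * x⁻¹ := by rw [hd']
          _ = (x * d⁻¹) * γ 1 * (x * d⁻¹)⁻¹ := by group
      rw [e]
      exact Subgroup.mul_mem _ (Subgroup.mul_mem _ hx (Subgroup.subset_closure ⟨1, rfl, rfl⟩))
        (Subgroup.inv_mem _ hx)
    have h9 : Subgroup.normalClosure ({γ 1} : Set G) ≤ sub γ isK := by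
      unfold Subgroup.normalClosure
      rw [Subgroup.closure_le]
      intro y hy
      rw [Group.mem_conjugatesOfSet_iff] at hy
      obtain ⟨z, hz, hzy⟩ := hy
      rw [Set.mem_singleton_iff] at hz
      subst hz
      obtain ⟨c, hc⟩ := isConj_iff.mp hzy
      rw [← hc]
      exact h8 c
    have h10 : Subgroup.normalClosure ({γ 1} : Set G) = ⊤ := by
      rcases hs.eq_bot_or_eq_top_of_normal (Subgroup.normalClosure ({γ 1} : Set G)) inferInstance with h | h
      · exfalso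
        apply ha
        have h11 : γ 1 ∈ Subgroup.normalClosure ({γ 1} : Set G) :=
          Subgroup.subset_normalClosure rfl
        rw [h, Subgroup.mem_bot] at h11
        exact h11
      · exact h
    rw [h10, top_le_iff] at h9
    rw [h9, Subgroup.index_top] at hind
    norm_num at hind

end

end Cfsg.Agent.Th.CentTh
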