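import Cfsg.Agent.Th.CertYChk0

set_option autoImplicit false
set_option maxRecDepth 100000

namespace Cfsg.Agent.Th.CertYAll

open Cfsg.Agent.SporadicRecognition.CosetCert Cfsg.Agent.Th.CosetTrace Cfsg.Agent.Th.CertYData

theorem part : PartT C 0 C.N := Cfsg.Agent.Th.CertYChk0.all

end Cfsg.Agent.Th.CertYAll
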