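import Cfsg.Agent.Th.Bounds
import Cfsg.Agent.Th.CertYAll

/-!
Bounds for `C = ⟨a,c,d,e,s,t,u⟩` and `B` from the relations `RelC` alone.
-/

set_option autoImplicit false
set_option maxRecDepth 100000

namespace Cfsg.Agent.Th.BoundsC

open Cfsg.Agent.SporadicRecognition.CosetCert Cfsg.Agent.SporadicRecognition.CosetCertHyp
  Cfsg.Agent.SporadicRecognition.CosetChain Cfsg.Agent.Th.Base Cfsg.Agent.Th.CertTools
  Cfsg.Agent.Th.CosetTrace Cfsg.Agent.Th.Bounds

variable {G : Type*} [Group G]

theorem hypY {a c d e s t u : G} (h : RelC a c d e s t u) :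
    Hyp CertYData.C (Subgroup.closure {d, e, s, t}) (gC a c d e s t u) := by
  refine hyp_of_ex (gC a c d e s t u) CertYData.C _ (exC 0 1 2 3 4 6 8)
    ([2, 3, 4, 6].map fun x => [x]) rfl
    (invC' h _ (by decide)) (by decide)
    (exC_val (gC a c d e s t u) (a := 0) (c := 1) (d := 2) (e := 3) (s := 4) (t := 6) (u := 8) h)
    (subs_mem _ _ _ ?_) (by decide +kernel)
  simp only [List.mem_cons, List.not_mem_nil, or_false, forall_eq_or_imp, forall_eq]
  exact ⟨Subgroup.subset_closure (by simp [gC]), Subgroup.subset_closure (by simp [gC]),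
    Subgroup.subset_closure (by simp [gC]), Subgroup.subset_closure (by simp [gC])⟩

theorem memZC {a c d e s t u : G} (h : RelC a c d e s t u) :
    (c * d * e * s) ^ 9 ∈ Subgroup.closure {d, e, s, t} := by
  have h1 := mem_of_walk CertYData.C (Subgroup.closure {d, e, s, t}) (gC a c d e s t u) (hypY h) CertYAll.part
    (CertYData.C.mask - 1) (by decide) ((exz 1 2 3 4).word CertYData.C.inv) (by decide) (by decide +kernel)
  rw [Ex.ev_word (k := 10) (invC' h CertYData.C.inv (by decide)) _
    (lt_of_ltB _ (by decide : ltB 10 (exz 1 2 3 4) = true))] at h1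
  exact h1

theorem cardB {a c d e s t u : G} (h : RelC a c d e s t u) :
    Finite (Subgroup.closure {a, c, d, e, s, t}) ∧
      Nat.card (Subgroup.closure {a, c, d, e, s, t}) ≤ 774144 :=
  cardB' (relB_of_relC h) (memZC h)

theorem cardC {a c d e s t u : G} (h : RelC a c d e s t u) :
    Finite (Subgroup.closure {a, c, d, e, s, t, u}) ∧
      Nat.card (Subgroup.closure {a, c, d, e, s, t, u}) ≤ 92897280 := by
  have hB := cardB h
  have := hB.1
  have h1 := card_closure_le CertCData.C (Subgroup.closure {a, c, d, e, s, t}) (gC a c d e s t u) (hypC h)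
    CertCAll.part
  have h2 : Subgroup.closure (gC a c d e s t u '' {x | x < CertCData.C.k}) =
    Subgroup.closure {a, c, d, e, s, t, u} := closure_gC a c d e s t u
  rw [h2] at h1
  exact ⟨h1.1, h1.2.trans ((Nat.mul_le_mul_left _ hB.2).trans (by norm_num))⟩

end Cfsg.Agent.Th.BoundsC
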