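import Cfsg.Agent.Th.KPerm
import Cfsg.Agent.Th.BoundsC

/-!
The action of `C = 2^{1+8}.A9` on 9 points: the generators `a, c` act trivially, `d, e, s, t` as `L2(8):3` on the
projective line, `u` as a double transposition. The image is the alternating group.
-/

set_option autoImplicit false
set_option maxRecDepth 100000

namespace Cfsg.Agent.Th.NineAct

open Cfsg.Agent.Th.Base Cfsg.Agent.Th.Word Cfsg.Agent.Th.RelWords Cfsg.Agent.Th.PermTab
  Cfsg.Agent.Th.KOracle Equiv Equiv.Perm

universe u

/-- packed table, entry `(x, p)` at bit `4 * (16 * x + p)` -/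
def T9 : ℕ := 0x87436521000000008743652100000000347865210000000056437821000000007524683100000000384752610000000078563412000000004537862010000000876543210000000000000000000000008765432100000000000000000

def act9 (x p : ℕ) : ℕ :=
  Nat.land (Nat.shiftRight T9 (Nat.mul 4 (Nat.add (Nat.mul 16 x) p))) 15

theorem tab_check : allG (fun x => allB 9 (fun p =>
    and (Nat.ble (act9 x p) 8) (Nat.beq (act9 (invL x) (act9 x p)) p))) [1,3,4,5,6,7,8,9,10,11] = true := by
  decide +kernel

theorem isC_mem {x : ℕ} (h : isC x = true) : x ∈ [1,3,4,5,6,7,8,9,10,11] := by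
  rw [isC_iff] at h
  obtain ⟨⟨h2, h3⟩, h4⟩ := h
  interval_cases x <;> simp at h4 ⊢

theorem isTab9 : IsTab isC 9 act9 := by
  have key : ∀ x, isC x = true → ∀ p < 9, act9 x p ≤ 8 ∧ act9 (invL x) (act9 x p) = p := by
    intro x hx p hp
    have h := (allG_iff _ _).mp tab_check x (isC_mem hx)
    have h2 := (allB_iff _ _).mp h p hp
    rw [Bool.and_eq_true, Nat.ble_eq, Nat.beq_eq] at h2
    exact h2
  exact ⟨fun x hx p hp => Nat.lt_succ_of_le (key x hx p hp).1, fun x hx p hp => (key x hx p hp).2,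
    fun x hx => isC_invL hx⟩

theorem rel_check : allG (fun r => and (allL isC r) (allB 9 (fun p => Nat.beq (tr act9 r p) p))) relC = true := by
  decide +kernel

theorem relC_words_rho : ∀ r ∈ relC, ev (rho isTab9) r = 1 := by
  intro r hr
  have h := (allG_iff _ _).mp rel_check r hr
  rw [Bool.and_eq_true, allL_iff, allB_iff] at h
  exact ev_rho_eq_one isTab9 h.1 fun p hp => Nat.beq_eq.mp (h.2 p hp)

theorem rho_inv_apply {x : ℕ} (hx : isC x = true) (p : Fin 9) :
    (((rho isTab9 x)⁻¹ p : Fin 9) : ℕ) = act9 x p := by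
  have h := ev_rho_inv_apply isTab9 (w := [x]) (by simpa using hx) p
  rw [ev_singleton] at h
  exact h

/-- the image -/
def P9 : Subgroup (Perm (Fin 9)) := sub (rho isTab9) isC

theorem sign_word (w : List ℕ) : sign (ev (rho isTab9) w) = ev (fun x => sign (rho isTab9 x)) w := by
  induction w with
  | nil => simp
  | cons x w ih => rw [ev_cons, ev_cons, map_mul, ih]

/-- all letters are even -/
theorem sign_letter {x : ℕ} (hx : isC x = true) : sign (rho isTab9 x) = 1 := by
  have hw : ∀ r ∈ relC, ev (fun x => sign (rho isTab9 x)) r = 1 := by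
    intro r hr
    rw [← sign_word, relC_words_rho r hr, map_one]
  have hi : InvCompat (fun x => sign (rho isTab9 x)) := by
    intro x
    show sign (rho isTab9 (invL x)) = (sign (rho isTab9 x))⁻¹
    rw [← map_inv]
    exact congrArg _ (rho_invCompat isTab9 x)
  have one_of : ∀ y, isC y = true → (∀ p : ℕ, p < 9 → act9 y p = p) → rho isTab9 y = 1 := by
    intro y hy h
    have : (rho isTab9 y)⁻¹ = 1 := by
      ext p
      rw [rho_inv_apply hy p, h p p.2]; rfl
    rwa [inv_eq_one] at this
  have h1 : sign (rho isTab9 1) = 1 := by rw [one_of 1 rfl (by decide +kernel), map_one]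
  have h3 : sign (rho isTab9 3) = 1 := by rw [one_of 3 rfl (by decide +kernel), map_one]
  have e6 := hw [6,6,6,6,6,6,6] (by decide +kernel)
  have e8 := hw [8,8,8] (by decide +kernel)
  have e5 := hw [5,7,5,6,7,7,7,5,6,6,6] (by decide +kernel)
  have e4 := hw [4,5,4,5,4,5] (by decide +kernel)
  have e10 := hw [1,3,7,11,7,11,7,11] (by decide +kernel)
  have i7 : sign (rho isTab9 7) = (sign (rho isTab9 6))⁻¹ := hi 6
  have i9 : sign (rho isTab9 9) = (sign (rho isTab9 8))⁻¹ := hi 8
  have i11 : sign (rho isTab9 11) = (sign (rho isTab9 10))⁻¹ := hi 10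
  simp only [ev_cons, ev_nil, i7, i11, h1, h3] at e6 e8 e5 e4 e10
  have h6 : sign (rho isTab9 6) = 1 := by
    rcases Int.units_eq_one_or (sign (rho isTab9 6)) with h | h
    · exact h
    · rw [h] at e6; exact absurd e6 (by decide)
  have h8 : sign (rho isTab9 8) = 1 := by
    rcases Int.units_eq_one_or (sign (rho isTab9 8)) with h | h
    · exact h
    · rw [h] at e8; exact absurd e8 (by decide)
  have h5 : sign (rho isTab9 5) = 1 := by
    rcases Int.units_eq_one_or (sign (rho isTab9 5)) with h | h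
    · exact h
    · rw [h, h6] at e5; exact absurd e5 (by decide)
  have h4 : sign (rho isTab9 4) = 1 := by
    rcases Int.units_eq_one_or (sign (rho isTab9 4)) with h | h
    · exact h
    · rw [h, h5] at e4; exact absurd e4 (by decide)
  have h10 : sign (rho isTab9 10) = 1 := by
    rcases Int.units_eq_one_or (sign (rho isTab9 10)) with h | h
    · exact h
    · rw [h, h6] at e10; exact absurd e10 (by decide)
  have hm := isC_mem hx
  simp only [List.mem_cons, List.not_mem_nil, or_false] at hm
  rcases hm with rfl | rfl | rfl | rfl | rfl | rfl | rfl | rfl | rfl | rfl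
  · exact h1
  · exact h3
  · exact h4
  · exact h5
  · exact h6
  · rw [i7, h6, inv_one]
  · exact h8
  · rw [i9, h8, inv_one]
  · exact h10
  · rw [i11, h10, inv_one]

theorem P9_le : P9 ≤ alternatingGroup (Fin 9) := by
  unfold P9 sub
  rw [Subgroup.closure_le]
  rintro σ ⟨x, hx, rfl⟩
  exact mem_alternatingGroup.mpr (sign_letter hx)

/-! ### 3-cycles -/

/-- action on triples -/
def act3 (x n : ℕ) : ℕ :=
  Nat.add (act9 x (Nat.mod n 9)) (Nat.add (Nat.mul 9 (act9 x (Nat.mod (Nat.div n 9) 9)))
    (Nat.mul 81 (act9 x (Nat.div n 81))))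

def tmask : ℕ := bfs act3 [[4],[5],[6],[8],[10]] 729 [696] (Nat.shiftLeft 1 696)

theorem triple_check : allB 9 (fun x => allB 9 fun y => allB 9 fun z =>
    or (Nat.beq x y) (or (Nat.beq y z) (or (Nat.beq x z) (bit tmask (Nat.add x (Nat.add (Nat.mul 9 y)
      (Nat.mul 81 z))))))) = true := by
  decide +kernel

/-- the triple `(x, y, z)` encoded by `n` gives an element of `P9` -/
def Tr3 (n : ℕ) : Prop := ∃ (x y z : Fin 9), n = x + (9 * y + 81 * z) ∧ swap x y * swap y z ∈ P9

theorem rho_mem {x : ℕ} (hx : isC x = true) : rho isTab9 x ∈ P9 := Subgroup.subset_closure ⟨x, hx, rfl⟩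

theorem tr3_step {x : ℕ} (hx : isC x = true) {n : ℕ} (h : Tr3 n) : Tr3 (act3 x n) := by
  obtain ⟨p, q, r, rfl, hm⟩ := h
  let σ : Perm (Fin 9) := (rho isTab9 x)⁻¹
  have hσ : σ ∈ P9 := Subgroup.inv_mem _ (rho_mem hx)
  refine ⟨σ p, σ q, σ r, ?_, ?_⟩
  · rw [rho_inv_apply hx p, rho_inv_apply hx q, rho_inv_apply hx r]
    have hp := p.2; have hq := q.2; have hr := r.2
    have e1 : ((p : ℕ) + (9 * q + 81 * r)) % 9 = p := by omega
    have e2 : ((p : ℕ) + (9 * q + 81 * r)) / 9 % 9 = q := by omega
    have e3 : ((p : ℕ) + (9 * q + 81 * r)) / 81 = r := by omega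
    show act9 x (((p : ℕ) + (9 * q + 81 * r)) % 9) + (9 * act9 x (((p : ℕ) + (9 * q + 81 * r)) / 9 % 9) +
      81 * act9 x (((p : ℕ) + (9 * q + 81 * r)) / 81)) = _
    rw [e1, e2, e3]
  · have e : swap (σ p) (σ q) * swap (σ q) (σ r) = σ * (swap p q * swap q r) * σ⁻¹ := by
      rw [Equiv.swap_apply_apply, Equiv.swap_apply_apply]; group
    rw [e]
    exact Subgroup.mul_mem _ (Subgroup.mul_mem _ hσ hm) (Subgroup.inv_mem _ hσ)

theorem tr3_start : Tr3 696 := by
  refine ⟨3, 5, 8, rfl, ?_⟩
  have h1 : ∀ x ∈ [4,8,10,4,10], isC x = true := by decide +kernel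
  have h2 : (ev (rho isTab9) [4,8,10,4,10])⁻¹ = swap (3 : Fin 9) 5 * swap 5 8 := by
    ext p
    rw [ev_rho_inv_apply isTab9 h1 p]
    revert p
    decide +kernel
  rw [← h2]
  exact Subgroup.inv_mem _ (ev_mem_sub h1)

theorem swap_swap_mem (x y z : Fin 9) (h1 : x ≠ y) (h2 : y ≠ z) (h3 : x ≠ z) :
    swap x y * swap y z ∈ P9 := by
  have h := (allB_iff _ _).mp ((allB_iff _ _).mp ((allB_iff _ _).mp triple_check x x.2) y y.2) z z.2
  have e1 : Nat.beq x y = false := by
    cases hb : Nat.beq x y with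
    | false => rfl
    | true => exact absurd (Fin.ext (Nat.eq_of_beq_eq_true hb)) h1
  have e2 : Nat.beq y z = false := by
    cases hb : Nat.beq y z with
    | false => rfl
    | true => exact absurd (Fin.ext (Nat.eq_of_beq_eq_true hb)) h2
  have e3 : Nat.beq x z = false := by
    cases hb : Nat.beq x z with
    | false => rfl
    | true => exact absurd (Fin.ext (Nat.eq_of_beq_eq_true hb)) h3
  rw [e1, e2, e3, bit_eq] at h
  simp only [Bool.false_or] at h
  have key : Tr3 ((x : ℕ) + (9 * y + 81 * z)) := by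
    refine bfs_spec act3 Tr3 [[4],[5],[6],[8],[10]] ?_ 729 [696] (Nat.shiftLeft 1 696) ?_ ?_ _ h
    · intro g hg q hq
      simp only [List.mem_cons, List.not_mem_nil, or_false] at hg
      rcases hg with rfl | rfl | rfl | rfl | rfl <;> exact tr3_step rfl hq
    · intro q hq
      rw [List.mem_singleton] at hq
      rw [hq]; exact tr3_start
    · intro q hq
      have h2 : (Nat.lor 0 (Nat.shiftLeft 1 696)).testBit q = true := by
        have : Nat.lor 0 (Nat.shiftLeft 1 696) = Nat.shiftLeft 1 696 := Nat.zero_or _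
        rw [this]; exact hq
      rcases bit_set _ _ _ h2 with h3 | rfl
      · simp at h3
      · exact tr3_start
  obtain ⟨p, q, r, he, hm⟩ := key
  have hx := x.2; have hy := y.2; have hz := z.2
  have hp := p.2; have hq := q.2; have hr := r.2
  have f1 : x = p := Fin.ext (by omega)
  have f2 : y = q := Fin.ext (by omega)
  have f3 : z = r := Fin.ext (by omega)
  rw [f1, f2, f3]; exact hm

theorem P9_eq : P9 = alternatingGroup (Fin 9) := by
  apply le_antisymm P9_le
  rw [← closure_three_cycles_eq_alternating, Subgroup.closure_le]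
  intro σ hσ
  have hσ : σ.IsThreeCycle := hσ
  obtain ⟨x, hx⟩ : σ.support.Nonempty := by
    rw [← Finset.card_pos, hσ.card_support]; norm_num
  have h1 := (hσ.nodup_iff_mem_support (a := x)).mpr hx
  have h2 := (hσ.eq_swap_mul_swap_iff_mem_support (a := x)).mpr hx
  rw [SetLike.mem_coe, h2]
  have h3 : x ≠ σ x ∧ σ x ≠ σ (σ x) ∧ x ≠ σ (σ x) := by
    simp only [List.nodup_cons, List.mem_cons, List.not_mem_nil, or_false, not_or] at h1
    exact ⟨h1.1.1, h1.2.1, h1.1.2⟩
  exact swap_swap_mem _ _ _ h3.1 h3.2.1 h3.2.2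

end Cfsg.Agent.Th.NineAct
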