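import Cfsg.Agent.Th.BoundsC

/-!
The table `tools/th/m120.tab`: `C` on the 120 right cosets of `B`; columns `a c d e s s⁻¹ t t⁻¹ u u⁻¹`.
-/

set_option autoImplicit false
set_option maxRecDepth 100000

namespace Cfsg.Agent.Th.TabC

open Cfsg.Agent.SporadicRecognition.CosetCert Cfsg.Agent.SporadicRecognition.CosetCertHyp
  Cfsg.Agent.SporadicRecognition.CosetChain Cfsg.Agent.Th.Base Cfsg.Agent.Th.CertTools
  Cfsg.Agent.Th.CosetTrace Cfsg.Agent.Th.Bounds

/-- 7 bits per entry, entry `(p, x)` at position `10 * p + x` -/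
def packed : Nat := 0x9f3f9ebd5815e4efdfaf5a9a31f545d7b76eddb4a2edaaa76ebd52a58ef24cacf07a7499335f7d354bd5e7cf76e94e5edb650f972952b750e090d70e3c72644883771c9c78708f1d2eaa8c7652dfbf972a1c6870da9376e64cb31a2a63717dbb5fbf3852fe6de3b66c9b37bf34da32a1d7ade3cde97af7298f56ad1a1175a5cf454d3a74e9ed535a3d28b4683871fc25ca3a62cf9da3435b7665a197366b365597cc3b5e6cb97870aa87063e1df2647af6926c9d87eac78d326a6f6bd6b19f162c182451955ef29c3870e1628fbe43f830602040c9621b098fbf7cf9f8b05f5dc31ef5e972e22ebcb25b7bb76ddb8d269b9af02e5cb972b37e546744b76d9b35f02cd8671ad5acb9542c8b6a6bbb364a9552fad44c546c589d39c3bc38ae28af5e4c96f6f14974bab5640810e4e751273ab55122d1daaefeba6a54a549ee291714bfa74e9d34d8d8e955be95262c70c8b71a0d8a345cb9e3b88eecc82850efde6cc9ce96339f3ebd774da6cfb6d274ed7ae64f993acb59b379f39f3424d50c264cbb756c35306eca972f8f173cba614f2e54aad5ae46add1daf93251a3a3863d38afa448dfbde746f21fde8f1dbb793728bb716a34618320de856643c8b161c35d76c435b6e24489125ad8909772870ca14cefe1c578f61423c7af4596be8f48305ab5b4bd6bf6172040d9b216780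fa3d37efc78fb0a5fde7b21f3ec78f15379c9f427af756ae91ddbd8515e3c74eabb88cf24d976eddbb6d3a7b6acc9d3aa14394ab8e1a2d72e5b36775dcb78cb1c388d1add6711db5d6eddc389ce9d046e9db36810183368c17cd6ad7366649d9b57339a34b569ab064d2d4f66cf6ed4ed13b3e4e9932a3451e0df48f3162c57af66d5a83813183060c205a82b9ac95ebd6adbb117e7875972e5cba1cb59022395ab55abb2a2ead9ee162c58b0be538abb9a56ad4a92a3d599a46552a54a9f58512e9e152a4b9759673a9995d4283469a3206ca5364e9f162c7492eb2a95326e9d356f4298e264a950a141c38a0abb92249123031d088623468ea54eba51a1eda11224893255449506b4286ad5e0912114341020bd78f0c3c370083e7e0c1187c11f621cf1e2c58c10367091d3a773e729b0eab4a6ce1c244898e3474b1c366d3a7db98c9be2acd1a3060b5f546872a3264c9920776971a60c1850a32ab305b9ed2e5ce9dbe64b933654b16b1607aa29b53162a56142d870995d44ca14162c71b2c52f94264cd9b1a2c5823a14912081089141401112246fdf3a607df16408107cf95151c431df1e3c68d364f28f33b070e1c385923e30c091a362c53e7868b462860c264c90d1848806162c306101c309143050a1020305142048d12244890e28487107c4080a14508100439e0e1c50a0a2428a0c2c3060e1c48602182920a148910811b4c060c2040408183609c204060c183040891e220410200000810e14082020408100000000000000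

/-- image of point `p` under letter `x` (`a c d e s s⁻¹ t t⁻¹ u u⁻¹`) -/
def tab (p x : Nat) : Nat := Nat.land (Nat.shiftRight packed (Nat.mul (Nat.add (Nat.mul p 10) x) 7)) 127

def csPacked : Nat := 0x5a4e2724e4c210703d228dd007f46ac554b7668d8fa9155d796a4675129828a5e3518cba97d647c9956910901b4fa893c40281919eb8592ec99286c31c446789b0a44c598284728950104d066349943e2a27b4d112a71aa5ae9d14ab11c3c23a3c761c10020485413981de5777161e2e42d0240e56759704c21128401c0f02034061d050080200

/-- node of the certificate `CertC` belonging to point `p` -/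
def cs (p : Nat) : Nat := Nat.land (Nat.shiftRight csPacked (Nat.mul p 9)) 511

/-- check of the table: entries `< 120`, nodes `< N` and step by letters -/
noncomputable def chk : Bool :=
  (List.range 120).all fun p => Nat.blt (cs p) 395 &&
    (List.range 10).all fun x => Nat.blt (tab p x) 120 &&
      Nat.beq (stepS CertCData.C 2097150 (cs p) x) (Nat.succ (cs (tab p x)))

theorem chk_true : chk = true := by decide +kernel

theorem tab_lt {p x : Nat} (hp : p < 120) (hx : x < 10) : tab p x < 120 := by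
  have h := chk_true
  rw [chk, List.all_eq_true] at h
  have h1 := h p (List.mem_range.mpr hp)
  rw [Bool.and_eq_true, List.all_eq_true] at h1
  have h2 := h1.2 x (List.mem_range.mpr hx)
  rw [Bool.and_eq_true] at h2
  exact Nat.le_of_ble_eq_true h2.1

theorem step_cs {p x : Nat} (hp : p < 120) (hx : x < 10) :
    cs p < 395 ∧ stepS CertCData.C 2097150 (cs p) x = cs (tab p x) + 1 := by
  have h := chk_true
  rw [chk, List.all_eq_true] at h
  have h1 := h p (List.mem_range.mpr hp)
  rw [Bool.and_eq_true, List.all_eq_true] at h1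
  have h2 := h1.2 x (List.mem_range.mpr hx)
  rw [Bool.and_eq_true] at h2
  exact ⟨Nat.le_of_ble_eq_true h1.1, Nat.eq_of_beq_eq_true h2.2⟩

variable {G : Type*} [Group G]

/-- every defined entry of the certificate is correct -/
theorem good {a c d e s t u : G} (h : RelC a c d e s t u) (i x : Nat) (hi : i < 395) (hx : x ≤ 10)
    (hl : look CertCData.C i x ≤ 2097150) :
    Good CertCData.C (Subgroup.closure {a, c, d, e, s, t}) (gC a c d e s t u)
      (trans CertCData.C (gC a c d e s t u)) i x := by
  obtain ⟨S, _, hP⟩ := CertCAll.part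
  have hall : ∀ i x, i < CertCData.C.N → x ≤ CertCData.C.k →
      look CertCData.C i x = CertCData.C.mask ∨ ∃ q, main CertCData.C i x q = true := by
    intro i x hi hx
    rcases hP i (Nat.zero_le _) hi with ⟨h, _⟩ | h
    · rcases hx.lt_or_eq with h1 | h1
      · exact Or.inr (h.2 x h1)
      · subst h1; exact Or.inl h.1
    · rcases hx.lt_or_eq with h1 | h1
      · exact h.2.2 x h1
      · subst h1; exact Or.inr h.2.1
  refine good_of_checks CertCData.C _ _ _ (hypC h) (trans_isTrans _ _) hall i x hi hx ?_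
  rcases hall i x hi hx with h1 | h1
  · exfalso
    have h2 : CertCData.C.mask = 2097151 := rfl
    rw [h1, h2] at hl
    omega
  · exact h1

/-- coset representatives for the points of the table -/
noncomputable def rep (a c d e s t u : G) (p : Nat) : G :=
  trans CertCData.C (gC a c d e s t u) (cs p)

theorem rep_zero (a c d e s t u : G) : rep a c d e s t u 0 = 1 := by
  have h : cs 0 = 0 := by decide +kernel
  rw [rep, h]
  exact (trans_isTrans CertCData.C (gC a c d e s t u)).1

theorem rep_step {a c d e s t u : G} (h : RelC a c d e s t u) {p x : Nat} (hp : p < 120) (hx : x < 10) :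
    rep a c d e s t u p * gC a c d e s t u x * (rep a c d e s t u (tab p x))⁻¹ ∈
      Subgroup.closure {a, c, d, e, s, t} := by
  obtain ⟨h1, h2⟩ := step_cs hp hx
  have h3 := stepS_sound CertCData.C (Subgroup.closure {a, c, d, e, s, t}) (gC a c d e s t u)
    (trans CertCData.C (gC a c d e s t u)) rfl 2097150 (fun i x hi hx hl => good h i x hi hx hl)
    (cs p) x (cs (tab p x)) h1 hx.le h2
  exact h3.2

/-- (248.4) -/
theorem exists_reps {a c d e s t u : G} (h : RelC a c d e s t u) :
    ∃ r : ℕ → G, r 0 = 1 ∧ ∀ p < 120, ∀ x < 10,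
      r p * gC a c d e s t u x * (r (tab p x))⁻¹ ∈ Subgroup.closure {a, c, d, e, s, t} :=
  ⟨rep a c d e s t u, rep_zero a c d e s t u, fun _ hp _ hx => rep_step h hp hx⟩

end Cfsg.Agent.Th.TabC
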