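import Cfsg.Agent.Th.KOracle
import Cfsg.Agent.Th.COracleDef
import Cfsg.Agent.Th.TabK
import Cfsg.Agent.Th.TabC

/-!
Point stabilisers of the two tables: a K-word fixing the point 0 of the 819-point table, or a C-word fixing the
point 0 of the 120-point table, lies in `B = <a,c,d,e,s,t>`.  Also `BoundK`, `BoundC`.
-/

set_option autoImplicit false

namespace Cfsg.Agent.Th.TabFacts

open Cfsg.Agent.Th.Base Cfsg.Agent.Th.Word Cfsg.Agent.Th.RelWords Cfsg.Agent.Th.PermTab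
  Cfsg.Agent.Th.KOracle Cfsg.Agent.Th.COracleDef

variable {G : Type*} [Group G]

theorem boundK.{v} : BoundK.{v} := fun _ _ _ _ _ _ _ _ _ h => Cfsg.Agent.Th.Bounds.cardK h

/-- general: a word fixing the point 0 lies in `B` -/
theorem mem_of_reps {γ : ℕ → G} {f : ℕ → Bool} {n : ℕ} {act : ℕ → ℕ → ℕ} (hT : IsTab f n act)
    (hn : 0 < n) (B : Subgroup G) (r : ℕ → G) (h0 : r 0 = 1)
    (h : ∀ p < n, ∀ x, f x = true → r p * γ x * (r (act x p))⁻¹ ∈ B)
    (w : List ℕ) (hw : ∀ x ∈ w, f x = true) (hw0 : tr act w 0 = 0) : ev γ w ∈ B := by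
  have key : ∀ (w : List ℕ), (∀ x ∈ w, f x = true) → ∀ p < n,
      r p * ev γ w * (r (tr act w p))⁻¹ ∈ B := by
    intro w
    induction w with
    | nil => intro _ p _; simp [B.one_mem]
    | cons x w ih =>
      intro hw p hp
      have hx := hw x List.mem_cons_self
      have h1 := h p hp x hx
      have h2 := ih (fun z hz => hw z (List.mem_cons_of_mem _ hz)) (act x p) (hT.lt x hx p hp)
      have h3 := B.mul_mem h1 h2
      rw [tr_cons, ev_cons]
      convert h3 using 1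
      group
  have := key w hw 0 hn
  rwa [hw0, h0, one_mul, inv_one, mul_one] at this

theorem sub_isB_eq {γ : ℕ → G} (hγ : InvCompat γ) :
    sub γ isB = Subgroup.closure {γ 1, γ 3, γ 4, γ 5, γ 6, γ 8} := by
  have i7 : γ 7 = (γ 6)⁻¹ := hγ 6
  have i9 : γ 9 = (γ 8)⁻¹ := hγ 8
  apply le_antisymm
  · unfold sub
    rw [Subgroup.closure_le]
    rintro g ⟨x, hx, rfl⟩
    rw [isB_iff] at hx
    have h : ∀ y ∈ ({γ 1, γ 3, γ 4, γ 5, γ 6, γ 8} : Set G),
        y ∈ Subgroup.closure ({γ 1, γ 3, γ 4, γ 5, γ 6, γ 8} : Set G) :=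
      fun y hy => Subgroup.subset_closure hy
    obtain ⟨⟨h1, h2⟩, h3⟩ := hx
    interval_cases x
    · exact h _ (by simp)
    · exact absurd rfl h3
    · exact h _ (by simp)
    · exact h _ (by simp)
    · exact h _ (by simp)
    · exact h _ (by simp)
    · rw [i7]; exact Subgroup.inv_mem _ (h _ (by simp))
    · exact h _ (by simp)
    · rw [i9]; exact Subgroup.inv_mem _ (h _ (by simp))
  · rw [Subgroup.closure_le]
    intro g hg
    simp only [Set.mem_insert_iff, Set.mem_singleton_iff] at hg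
    rcases hg with rfl | rfl | rfl | rfl | rfl | rfl
    · exact Subgroup.subset_closure ⟨1, rfl, rfl⟩
    · exact Subgroup.subset_closure ⟨3, rfl, rfl⟩
    · exact Subgroup.subset_closure ⟨4, rfl, rfl⟩
    · exact Subgroup.subset_closure ⟨5, rfl, rfl⟩
    · exact Subgroup.subset_closure ⟨6, rfl, rfl⟩
    · exact Subgroup.subset_closure ⟨8, rfl, rfl⟩

theorem sub_isC_eq {γ : ℕ → G} (hγ : InvCompat γ) :
    sub γ isC = Subgroup.closure {γ 1, γ 3, γ 4, γ 5, γ 6, γ 8, γ 10} := by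
  have i7 : γ 7 = (γ 6)⁻¹ := hγ 6
  have i9 : γ 9 = (γ 8)⁻¹ := hγ 8
  have i11 : γ 11 = (γ 10)⁻¹ := hγ 10
  apply le_antisymm
  · unfold sub
    rw [Subgroup.closure_le]
    rintro g ⟨x, hx, rfl⟩
    rw [isC_iff] at hx
    have h : ∀ y ∈ ({γ 1, γ 3, γ 4, γ 5, γ 6, γ 8, γ 10} : Set G),
        y ∈ Subgroup.closure ({γ 1, γ 3, γ 4, γ 5, γ 6, γ 8, γ 10} : Set G) :=
      fun y hy => Subgroup.subset_closure hy
    obtain ⟨⟨h1, h2⟩, h3⟩ := hx
    interval_cases x
    · exact h _ (by simp)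
    · exact absurd rfl h3
    · exact h _ (by simp)
    · exact h _ (by simp)
    · exact h _ (by simp)
    · exact h _ (by simp)
    · rw [i7]; exact Subgroup.inv_mem _ (h _ (by simp))
    · exact h _ (by simp)
    · rw [i9]; exact Subgroup.inv_mem _ (h _ (by simp))
    · exact h _ (by simp)
    · rw [i11]; exact Subgroup.inv_mem _ (h _ (by simp))
  · rw [Subgroup.closure_le]
    intro g hg
    simp only [Set.mem_insert_iff, Set.mem_singleton_iff] at hg
    rcases hg with rfl | rfl | rfl | rfl | rfl | rfl | rfl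
    · exact Subgroup.subset_closure ⟨1, rfl, rfl⟩
    · exact Subgroup.subset_closure ⟨3, rfl, rfl⟩
    · exact Subgroup.subset_closure ⟨4, rfl, rfl⟩
    · exact Subgroup.subset_closure ⟨5, rfl, rfl⟩
    · exact Subgroup.subset_closure ⟨6, rfl, rfl⟩
    · exact Subgroup.subset_closure ⟨8, rfl, rfl⟩
    · exact Subgroup.subset_closure ⟨10, rfl, rfl⟩

/-! ### K -/

set_option maxRecDepth 100000 in
theorem tabK_check : allB 819 (fun p => allB 9 (fun x =>
    Nat.beq (act (Nat.succ x) p) (Cfsg.Agent.Th.TabK.tab p x))) = true := by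
  decide +kernel

/-- (h0K) -/
theorem mem_B_of_fix {γ : ℕ → G} (hγ : InvCompat γ)
    (h : RelK (γ 1) (γ 2) (γ 3) (γ 4) (γ 5) (γ 6) (γ 8)) (w : List ℕ)
    (hw : ∀ x ∈ w, isK x = true) (hw0 : tr act w 0 = 0) : ev γ w ∈ sub γ isB := by
  obtain ⟨r, hr0, hr⟩ := Cfsg.Agent.Th.TabK.exists_reps h
  have i7 : γ 7 = (γ 6)⁻¹ := hγ 6
  have i9 : γ 9 = (γ 8)⁻¹ := hγ 8
  rw [sub_isB_eq hγ]
  refine mem_of_reps isTab (by norm_num) _ r hr0 ?_ w hw hw0
  intro p hp x hx
  rw [isK_iff] at hx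
  obtain ⟨y, rfl⟩ : ∃ y, x = y + 1 := ⟨x - 1, by omega⟩
  have hy : y < 9 := by omega
  have h1 := hr p hp y hy
  have h2 := Nat.beq_eq.mp ((allB_iff _ _).mp ((allB_iff _ _).mp tabK_check p hp) y hy)
  have h3 : Cfsg.Agent.Th.Bounds.gK (γ 1) (γ 2) (γ 3) (γ 4) (γ 5) (γ 6) (γ 8) y = γ (y + 1) := by
    interval_cases y
    · rfl
    · rfl
    · rfl
    · rfl
    · rfl
    · rfl
    · exact i7.symm
    · rfl
    · exact i9.symm
  rw [h3, ← h2] at h1
  exact h1

/-! ### C -/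

set_option maxRecDepth 100000 in
theorem tab120_check : allG (fun x => allB 120 (fun p =>
    and (Nat.ble (act120 x p) 119)
      (Nat.beq (act120 (invL x) (act120 x p)) p))) [1,3,4,5,6,7,8,9,10,11] = true := by
  decide +kernel

theorem isTab120 : IsTab isC 120 act120 := by
  have key : ∀ x, isC x = true → ∀ p < 120, act120 x p ≤ 119 ∧ act120 (invL x) (act120 x p) = p := by
    intro x hx p hp
    have hx' : x ∈ [1,3,4,5,6,7,8,9,10,11] := by
      rw [isC_iff] at hx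
      obtain ⟨⟨h1, h2⟩, h3⟩ := hx
      interval_cases x <;> simp_all
    have h := (allB_iff _ _).mp ((allG_iff _ _).mp tab120_check x hx') p hp
    rw [Bool.and_eq_true, Nat.ble_eq, Nat.beq_eq] at h
    exact h
  exact ⟨fun x hx p hp => Nat.lt_succ_of_le (key x hx p hp).1, fun x hx p hp => (key x hx p hp).2,
    fun x hx => isC_invL hx⟩

/-- code of the letter number `x` of `TabC` -/
def codeC (x : ℕ) : ℕ := bif Nat.beq x 0 then 1 else Nat.add x 2

set_option maxRecDepth 100000 in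
theorem tabC_check : allB 120 (fun p => allB 10 (fun x =>
    Nat.beq (act120 (codeC x) p) (Cfsg.Agent.Th.TabC.tab p x))) = true := by
  decide +kernel

/-- (h0C) -/
theorem mem_B_of_fix120 {γ : ℕ → G} (hγ : InvCompat γ)
    (h : RelC (γ 1) (γ 3) (γ 4) (γ 5) (γ 6) (γ 8) (γ 10)) (w : List ℕ)
    (hw : ∀ x ∈ w, isC x = true) (hw0 : tr act120 w 0 = 0) : ev γ w ∈ sub γ isB := by
  obtain ⟨r, hr0, hr⟩ := Cfsg.Agent.Th.TabC.exists_reps h
  have i7 : γ 7 = (γ 6)⁻¹ := hγ 6
  have i9 : γ 9 = (γ 8)⁻¹ := hγ 8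
  have i11 : γ 11 = (γ 10)⁻¹ := hγ 10
  rw [sub_isB_eq hγ]
  refine mem_of_reps isTab120 (by norm_num) _ r hr0 ?_ w hw hw0
  intro p hp x hx
  rw [isC_iff] at hx
  obtain ⟨y, hy, rfl⟩ : ∃ y, y < 10 ∧ x = codeC y := by
    rcases Nat.lt_or_ge x 2 with h1 | h1
    · exact ⟨0, by norm_num, by simp [codeC]; omega⟩
    · refine ⟨x - 2, by omega, ?_⟩
      have : x - 2 ≠ 0 := by omega
      simp only [codeC, cond_eq_ite, Nat.beq_eq, this, if_false]
      show x = (x - 2) + 2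
      omega
  have h1 := hr p hp y hy
  have h2 := Nat.beq_eq.mp ((allB_iff _ _).mp ((allB_iff _ _).mp tabC_check p hp) y hy)
  have h3 : Cfsg.Agent.Th.Bounds.gC (γ 1) (γ 3) (γ 4) (γ 5) (γ 6) (γ 8) (γ 10) y = γ (codeC y) := by
    interval_cases y
    · rfl
    · rfl
    · rfl
    · rfl
    · rfl
    · exact i7.symm
    · rfl
    · exact i9.symm
    · rfl
    · exact i11.symm
  rw [h3, ← h2] at h1
  exact h1

/-- the bound on the order of `2^{1+8}.A9` as presented -/
theorem boundC {a c d e s t u : G} (h : RelC a c d e s t u) :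
    Finite (Subgroup.closure ({a, c, d, e, s, t, u} : Set G)) ∧
      Nat.card (Subgroup.closure ({a, c, d, e, s, t, u} : Set G)) ≤ 92897280 :=
  Cfsg.Agent.Th.BoundsC.cardC h

end Cfsg.Agent.Th.TabFacts
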