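import Cfsg.Agent.Th.IndexBound
import Cfsg.Agent.Th.TabFacts

/-!
# The index of `K = <a,b,c,d,e,s,t>` in the Thompson group is at most 143127000

`Nodes γ g` is what the cover certificate provides: stabiliser facts and the covering of the group by the
double cosets `H g_i K`, `i < 11` (`H = K = sub γ isK`).
-/

set_option autoImplicit false

namespace Cfsg.Agent.Th.IndexUpper

open Cfsg.Agent.Th.Base (RelK)
open Cfsg.Agent.Th.Word Cfsg.Agent.Th.KOracle Cfsg.Agent.Th.IndexBound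
open Cfsg.Agent.Th.PathCover (unl)

/-- node data -/
def nd : ℕ → ND
  | 1 => nd1
  | 2 => nd2
  | 3 => nd3
  | 4 => nd4
  | 5 => nd5
  | 6 => nd6
  | 7 => nd7
  | 8 => nd8
  | 9 => nd9
  | 10 => nd10
  | _ => ⟨[], [], 0, 1, [], [], 0, 1⟩

/-- bounds of the numbers of `H`-cosets in `H g_i K` -/
def bN : ℕ → ℕ
  | 0 => 1
  | 1 => 45864
  | 2 => 17199
  | 3 => 2201472
  | 4 => 1304576
  | 5 => 179712
  | 6 => 8805888
  | 7 => 5031936
  | 8 => 11741184
  | 9 => 105670656
  | 10 => 8128512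
  | _ => 0

universe u

variable {G : Type u} [Group G]

/-- What the cover certificate provides. -/
structure Nodes (γ g : ℕ → G) : Prop where
  g0 : g 0 = 1
  st : ∀ i, 1 ≤ i → i ≤ 10 → ∀ z ∈ (nd i).zs, CRel (sub γ isK) (g i * ev γ (unl z)) (g i)
  cov : ∀ w : List ℕ, (∀ x ∈ w, isK x = true ∨ isC x = true) →
    ∃ i < 11, ∃ k ∈ sub γ isK, CRel (sub γ isK) (ev γ w) (g i * k)

theorem ok_nd (i : ℕ) (h1 : 1 ≤ i) (h2 : i ≤ 10) : OK (nd i) := by
  interval_cases i
  exacts [ok1, ok2, ok3, ok4, ok5, ok6, ok7, ok8, ok9, ok10]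

theorem bN_nd (i : ℕ) (h1 : 1 ≤ i) (h2 : i ≤ 10) : 634023936 < (nd i).n1 * (nd i).n2 * (bN i + 1) := by
  interval_cases i <;> decide +kernel

/-- bounds of the orbits -/
theorem Nodes.orbits {γ g : ℕ → G} (hN : Nodes γ g) (hγ : InvCompat γ)
    (h : RelK (γ 1) (γ 2) (γ 3) (γ 4) (γ 5) (γ 6) (γ 8)) (i : ℕ) (hi : i < 11) :
    (orb (sub γ isK) γ (g i)).Finite ∧ (orb (sub γ isK) γ (g i)).ncard ≤ bN i := by
  rcases Nat.eq_zero_or_pos i with rfl | hpos
  · rw [hN.g0]
    exact orb_one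
  · exact orb_bound Cfsg.Agent.Th.TabFacts.boundK hγ h (sub γ isK) (g i) (nd i) (ok_nd i hpos (by omega))
      (hN.st i hpos (by omega)) (bN i) (bN_nd i hpos (by omega))

theorem isKC_invL (x : ℕ) (hx : (isK x || isC x) = true) : (isK (invL x) || isC (invL x)) = true := by
  rw [Bool.or_eq_true] at hx ⊢
  exact hx.imp (fun h => isK_invL h) (fun h => isC_invL h)

/-- the cosets are covered by the 11 orbits -/
theorem Nodes.univ {γ g : ℕ → G} (hN : Nodes γ g) (hγ : InvCompat γ)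
    (hgen : sub γ (fun x => isK x || isC x) = ⊤) :
    (Set.univ : Set (G ⧸ sub γ isK)) = ⋃ i ∈ Finset.range 11, orb (sub γ isK) γ (g i) := by
  symm
  rw [Set.eq_univ_iff_forall]
  intro x
  obtain ⟨y, rfl⟩ := QuotientGroup.mk_surjective x
  obtain ⟨w, hw, hwy⟩ := exists_word hγ isKC_invL (show y⁻¹ ∈ sub γ (fun x => isK x || isC x) by
    rw [hgen]; exact Subgroup.mem_top _)
  obtain ⟨i, hi, k, hk, hr⟩ := hN.cov w (fun x hx => by
    have := hw x hx
    rwa [Bool.or_eq_true] at this)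
  refine Set.mem_biUnion (Finset.mem_coe.mpr (Finset.mem_range.mpr hi)) ⟨k, hk, ?_⟩
  have h1 : (QuotientGroup.mk y : G ⧸ sub γ isK) = pt (sub γ isK) y⁻¹ := by
    unfold pt
    rw [inv_inv]
  rw [h1, pt_eq_iff, ← hwy]
  exact hr

/-- **Upper bound.** -/
theorem Nodes.index_le {γ g : ℕ → G} (hN : Nodes γ g) (hγ : InvCompat γ)
    (h : RelK (γ 1) (γ 2) (γ 3) (γ 4) (γ 5) (γ 6) (γ 8))
    (hgen : sub γ (fun x => isK x || isC x) = ⊤) :
    (sub γ isK).index ≠ 0 ∧ (sub γ isK).index ≤ 143127000 := by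
  have hu := hN.univ hγ hgen
  have hfin : (Set.univ : Set (G ⧸ sub γ isK)).Finite := by
    rw [hu]
    exact Set.Finite.biUnion (Finset.finite_toSet _) fun i hi =>
      (hN.orbits hγ h i (Finset.mem_range.mp (Finset.mem_coe.mp hi))).1
  have hF : Finite (G ⧸ sub γ isK) := Set.finite_univ_iff.mp hfin
  constructor
  · unfold Subgroup.index
    exact Nat.card_pos.ne'
  · unfold Subgroup.index
    rw [← Set.ncard_univ, hu]
    calc _ ≤ ∑ i ∈ Finset.range 11, (orb (sub γ isK) γ (g i)).ncard :=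
          Finset.set_ncard_biUnion_le _ _
      _ ≤ ∑ i ∈ Finset.range 11, bN i :=
          Finset.sum_le_sum fun i hi => (hN.orbits hγ h i (Finset.mem_range.mp hi)).2
      _ = 143127000 := by
          simp only [Finset.sum_range_succ, Finset.sum_range_zero, bN]

/-! ### the presented Thompson group -/

open Cfsg.Agent.Th.Base (gen rel_th)

/-- the letters in the presented group -/
noncomputable def gTh : ℕ → Cfsg.Spor.Th :=
  gam (gen .a) (gen .b) (gen .c) (gen .d) (gen .e) (gen .s) (gen .t) (gen .u)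

theorem gTh_inv : InvCompat gTh :=
  invCompat_gam rel_th.K.a2 rel_th.K.b2 rel_th.K.c2 rel_th.K.d2 rel_th.K.e2

theorem gTh_relK : RelK (gTh 1) (gTh 2) (gTh 3) (gTh 4) (gTh 5) (gTh 6) (gTh 8) := rel_th.K

theorem gTh_top : sub gTh (fun x => isK x || isC x) = ⊤ := by
  rw [eq_top_iff, ← PresentedGroup.closure_range_of, Subgroup.closure_le]
  rintro _ ⟨x, rfl⟩
  have h : ∀ n, (isK n || isC n) = true → gTh n ∈ sub gTh (fun x => isK x || isC x) :=
    fun n hn => Subgroup.subset_closure ⟨n, hn, rfl⟩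
  cases x
  · exact h 1 rfl
  · exact h 2 rfl
  · exact h 3 rfl
  · exact h 4 rfl
  · exact h 5 rfl
  · exact h 6 rfl
  · exact h 8 rfl
  · exact h 10 rfl

theorem gTh_closure : sub gTh isK = (Subgroup.closure ({Cfsg.Spor.Th.a, Cfsg.Spor.Th.b, Cfsg.Spor.Th.c,
    Cfsg.Spor.Th.d, Cfsg.Spor.Th.e, Cfsg.Spor.Th.s, Cfsg.Spor.Th.t} :
      Set (FreeGroup Cfsg.Spor.Th.Gen))).map
      (PresentedGroup.mk (Cfsg.Spor.coxRelators Cfsg.Spor.Th.edges ∪ {r | r ∈ Cfsg.Spor.Th.extra})) := by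
  rw [sub_isK_eq gTh_inv, MonoidHom.map_closure]
  congr 1
  simp only [Set.image_insert_eq, Set.image_singleton]
  rfl

theorem card_subK_le : Finite (sub gTh isK) ∧ Nat.card (sub gTh isK) ≤ 634023936 := by
  rw [sub_isK_eq gTh_inv]
  exact Cfsg.Agent.Th.TabFacts.boundK _ _ _ _ _ _ _ _ gTh_relK

/-- the final count, from the certificate and the lower bound of the order -/
theorem final {g : ℕ → Cfsg.Spor.Th} (hN : Nodes gTh g)
    (hlow : Finite Cfsg.Spor.Th → 90745943887872000 ≤ Nat.card Cfsg.Spor.Th) :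
    Finite Cfsg.Spor.Th ∧ Nat.card Cfsg.Spor.Th = 90745943887872000 ∧
      Nat.card (sub gTh isK) = 634023936 ∧ (sub gTh isK).index = 143127000 := by
  obtain ⟨h0, hle⟩ := hN.index_le gTh_inv gTh_relK gTh_top
  obtain ⟨hf, hc⟩ := card_subK_le
  have hmul := (sub gTh isK).card_mul_index
  have hpos : 0 < Nat.card (sub gTh isK) := Nat.card_pos
  have hcard : 0 < Nat.card Cfsg.Spor.Th := by
    rw [← hmul]
    exact Nat.mul_pos hpos (Nat.pos_of_ne_zero h0)
  have hfin : Finite Cfsg.Spor.Th := (Nat.card_pos_iff.mp hcard).2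
  have hlow' := hlow hfin
  have hup : Nat.card (sub gTh isK) * (sub gTh isK).index ≤ 634023936 * 143127000 := Nat.mul_le_mul hc hle
  have e1 : Nat.card (sub gTh isK) = 634023936 := by
    by_contra hne
    have h1 : Nat.card (sub gTh isK) ≤ 634023935 := by omega
    have h2 : Nat.card (sub gTh isK) * (sub gTh isK).index ≤ 634023935 * 143127000 := Nat.mul_le_mul h1 hle
    omega
  have e2 : (sub gTh isK).index = 143127000 := by
    rw [e1] at hmul hup
    omega
  refine ⟨hfin, ?_, e1, e2⟩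
  rw [← hmul, e1, e2]

end Cfsg.Agent.Th.IndexUpper
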