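import Cfsg.Agent.Th.FactChk0
import Cfsg.Agent.Th.FactChk1
import Cfsg.Agent.Th.FactChk2
import Cfsg.Agent.Th.FactChk3
import Cfsg.Agent.Th.CoverData
import Cfsg.Agent.Th.IndexUpper

/-!
# The cover certificate of the Thompson group: `exists_nodes`

In every group with letters `γ` satisfying the relations (`Ctx2`), there are elements `g 0 = 1, g 1, …` with the
stabiliser facts and such that every word lies in some double coset `H g_i K`, `i < 11`.
-/

set_option autoImplicit false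
set_option maxRecDepth 100000

namespace Cfsg.Agent.Th.CoverMain

open Cfsg.Agent.Th.Base (RelK RelC)
open Cfsg.Agent.Th.Word Cfsg.Agent.Th.KOracle Cfsg.Agent.Th.COracleDef
open Cfsg.Agent.Th.FactCheck Cfsg.Agent.Th.FactData Cfsg.Agent.Th.CoverData
open Cfsg.Agent.Th.IndexBound Cfsg.Agent.Th.IndexUpper
open Cfsg.Agent.Th.PathCover (unl ev_unl cover)
open Cfsg.Agent.Lib.PathCheck (Fact Holds defsOk exists_nodes_aux)

universe u

variable {G : Type u} [Group G]

theorem defs_ok : defsOk tab 7 [true, false, false, true, false, true, true, true, false, false, true, false, true, true, false, true, true, false, true, true, false, true, false] [0] = true := by decide +kernel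

theorem axioms_ok : ∀ i < 7, (tab i).n1 = 0 ∧ (tab i).n2 = 0 ∧ (tab i).w2 = 0 ∧
    allL isK (unl (tab i).w1) = true := by decide +kernel

/-- all 497 facts -/
theorem exists_facts {γ : ℕ → G} (h : Ctx2 γ) :
    ∃ g : ℕ → G, g 0 = 1 ∧ ∀ i < 497, Holds (sub γ isK) γ g (tab i) := by
  obtain ⟨g, hg, hj⟩ := exists_nodes_aux (sub γ isK) γ tab _ 7 [0] defs_ok (fun _ => 1)
  have g0 : g 0 = 1 := hg 0 (by simp)
  refine ⟨g, g0, ?_⟩
  have f30 : ∀ i < 30, Holds (sub γ isK) γ g (tab i) := by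
    intro i hi
    by_cases h7 : i < 7
    · obtain ⟨a1, a2, a3, a4⟩ := axioms_ok i h7
      unfold Holds
      rw [a1, a2, a3, g0, ← ev_unl, Cfsg.Agent.Lib.PathCheck.ev_zero]
      simpa using ev_mem_sub (γ := γ) ((allL_iff _ _).mp a4)
    · have := hj (i - 7) (by simp only [List.length_cons, List.length_nil]; omega)
      rwa [show 7 + (i - 7) = i by omega] at this
  have f88 := step h FactChk0.prf30 30 58 88 rfl rfl FactChk0.chk30 f30
  have f103 := step h FactChk0.prf88 88 15 103 rfl rfl FactChk0.chk88 f88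
  have f114 := step h FactChk0.prf103 103 11 114 rfl rfl FactChk0.chk103 f103
  have f125 := step h FactChk0.prf114 114 11 125 rfl rfl FactChk0.chk114 f114
  have f139 := step h FactChk0.prf125 125 14 139 rfl rfl FactChk0.chk125 f125
  have f152 := step h FactChk0.prf139 139 13 152 rfl rfl FactChk0.chk139 f139
  have f163 := step h FactChk0.prf152 152 11 163 rfl rfl FactChk0.chk152 f152
  have f174 := step h FactChk0.prf163 163 11 174 rfl rfl FactChk0.chk163 f163
  have f185 := step h FactChk0.prf174 174 11 185 rfl rfl FactChk0.chk174 f174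
  have f197 := step h FactChk0.prf185 185 12 197 rfl rfl FactChk0.chk185 f185
  have f208 := step h FactChk0.prf197 197 11 208 rfl rfl FactChk0.chk197 f197
  have f234 := step h FactChk1.prf208 208 26 234 rfl rfl FactChk1.chk208 f208
  have f242 := step h FactChk1.prf234 234 8 242 rfl rfl FactChk1.chk234 f234
  have f250 := step h FactChk1.prf242 242 8 250 rfl rfl FactChk1.chk242 f242
  have f258 := step h FactChk1.prf250 250 8 258 rfl rfl FactChk1.chk250 f250
  have f266 := step h FactChk1.prf258 258 8 266 rfl rfl FactChk1.chk258 f258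
  have f274 := step h FactChk1.prf266 266 8 274 rfl rfl FactChk1.chk266 f266
  have f282 := step h FactChk1.prf274 274 8 282 rfl rfl FactChk1.chk274 f274
  have f289 := step h FactChk1.prf282 282 7 289 rfl rfl FactChk1.chk282 f282
  have f297 := step h FactChk1.prf289 289 8 297 rfl rfl FactChk1.chk289 f289
  have f306 := step h FactChk1.prf297 297 9 306 rfl rfl FactChk1.chk297 f297
  have f314 := step h FactChk1.prf306 306 8 314 rfl rfl FactChk1.chk306 f306
  have f324 := step h FactChk2.prf314 314 10 324 rfl rfl FactChk2.chk314 f314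
  have f335 := step h FactChk2.prf324 324 11 335 rfl rfl FactChk2.chk324 f324
  have f344 := step h FactChk2.prf335 335 9 344 rfl rfl FactChk2.chk335 f335
  have f354 := step h FactChk2.prf344 344 10 354 rfl rfl FactChk2.chk344 f344
  have f363 := step h FactChk2.prf354 354 9 363 rfl rfl FactChk2.chk354 f354
  have f371 := step h FactChk2.prf363 363 8 371 rfl rfl FactChk2.chk363 f363
  have f379 := step h FactChk2.prf371 371 8 379 rfl rfl FactChk2.chk371 f371
  have f386 := step h FactChk2.prf379 379 7 386 rfl rfl FactChk2.chk379 f379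
  have f394 := step h FactChk2.prf386 386 8 394 rfl rfl FactChk2.chk386 f386
  have f404 := step h FactChk2.prf394 394 10 404 rfl rfl FactChk2.chk394 f394
  have f413 := step h FactChk2.prf404 404 9 413 rfl rfl FactChk2.chk404 f404
  have f424 := step h FactChk3.prf413 413 11 424 rfl rfl FactChk3.chk413 f413
  have f433 := step h FactChk3.prf424 424 9 433 rfl rfl FactChk3.chk424 f424
  have f444 := step h FactChk3.prf433 433 11 444 rfl rfl FactChk3.chk433 f433
  have f455 := step h FactChk3.prf444 444 11 455 rfl rfl FactChk3.chk444 f444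
  have f464 := step h FactChk3.prf455 455 9 464 rfl rfl FactChk3.chk455 f455
  have f474 := step h FactChk3.prf464 464 10 474 rfl rfl FactChk3.chk464 f464
  have f483 := step h FactChk3.prf474 474 9 483 rfl rfl FactChk3.chk474 f474
  have f497 := step h FactChk3.prf483 483 14 497 rfl rfl FactChk3.chk483 f483
  exact f497

/-- the stabiliser facts used for the orders -/
theorem nd_ok : ∀ i < 11, 1 ≤ i → ∀ z ∈ (nd i).zs, ∃ j ∈ st i, (tab j).w1 = z := by decide +kernel

/-- **The cover certificate.** -/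
theorem exists_nodes {γ : ℕ → G} (h : Ctx2 γ) : ∃ g : ℕ → G, Nodes γ g ∧
    ∀ i < 497, Holds (sub γ isK) γ g (tab i) := by
  obtain ⟨g, g0, hf⟩ := exists_facts h
  refine ⟨g, ⟨g0, ?_, ?_⟩, hf⟩
  · intro i h1 h2 z hz
    obtain ⟨j, hj, rfl⟩ := nd_ok i (by omega) h1 z hz
    obtain ⟨a1, a2, a3, a4⟩ := hst i (by omega) j hj
    have := hf j a1
    unfold Holds at this
    rw [a2, a3, a4, Cfsg.Agent.Lib.PathCheck.ev_zero, ← ev_unl, mul_one] at this
    exact this
  · exact cover h.inv isK isC (by norm_num) (by norm_num) isTab Cfsg.Agent.Th.TabFacts.isTab120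
      (fun w hw h0 => Cfsg.Agent.Th.TabFacts.mem_B_of_fix h.inv h.K w hw h0)
      (fun w hw h0 => Cfsg.Agent.Th.TabFacts.mem_B_of_fix120 h.inv h.C w hw h0)
      (by
        unfold sub
        refine Subgroup.closure_mono ?_
        rintro x ⟨y, hy, rfl⟩
        exact ⟨y, isK_of_isB hy, rfl⟩)
      (by
        unfold sub
        refine Subgroup.closure_mono ?_
        rintro x ⟨y, hy, rfl⟩
        exact ⟨y, isC_of_isB hy, rfl⟩)
      g g0 tab 497 hf 11 13 (by norm_num) st gl fo hst hglK hglM hletK hletM hfoK hfoM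

/-! ### the presented Thompson group -/

theorem ac_comm {γ : ℕ → G} (h : Ctx γ) : γ 1 * γ 3 = γ 3 * γ 1 := by
  have h1 : ev γ [1, 3, 1, 3] = 1 :=
    korc_sound Cfsg.Agent.Th.TabFacts.boundK h.inv h.K (by decide +kernel)
  have ha : γ 1 = (γ 1)⁻¹ := h.inv 1
  have hc : γ 3 = (γ 3)⁻¹ := h.inv 3
  have h2 : γ 1 * (γ 3 * (γ 1 * γ 3)) = 1 := by simpa using h1
  calc γ 1 * γ 3 = (γ 1)⁻¹ * (γ 3)⁻¹ := by rw [← ha, ← hc]
    _ = (γ 3 * γ 1)⁻¹ := by rw [mul_inv_rev]
    _ = γ 3 * γ 1 := by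
      rw [inv_eq_iff_mul_eq_one]
      have h3 : γ 3 * γ 1 * (γ 3 * γ 1) = (γ 1)⁻¹ * (γ 1 * (γ 3 * (γ 1 * γ 3))) * γ 1 := by group
      rw [h3, h2]
      group

open Cfsg.Agent.Th.Base (gen rel_th)

theorem ctxTh : Ctx gTh := ⟨gTh_inv, rfl, rel_th.K, rel_th.C⟩

theorem r1_aux {a b c e u : G} (hb : b⁻¹ = b) (he : e⁻¹ = e) (hx : (b * (a * c) * b)⁻¹ = b * (a * c) * b)
    (h : (u⁻¹ * (b⁻¹ * (a * c) * b)⁻¹ * u * (b⁻¹ * (a * c) * b)) * (e⁻¹) = 1) :
    b * (a * (c * (b * (u * (b * (a * (c * (b * (e * (u⁻¹ * 1)))))))))) = 1 := by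
  rw [hb, he, hx] at h
  have e1 : b * (a * (c * (b * (u * (b * (a * (c * (b * (e * (u⁻¹ * 1)))))))))) =
      u * (u⁻¹ * (b * (a * c) * b) * u * (b * (a * c) * b) * e) * u⁻¹ := by group
  rw [e1, h]
  group

theorem r2_aux {a b c d e u : G} (hb : b⁻¹ = b) (hc : c⁻¹ = c) (hd : d⁻¹ = d) (he : e⁻¹ = e)
    (hx : (b * (a * c) * b)⁻¹ = b * (a * c) * b)
    (h : ((d⁻¹ * u * d)⁻¹ * (b⁻¹ * (a * c) * b)⁻¹ * (d⁻¹ * u * d) * (b⁻¹ * (a * c) * b)) *
      ((u * e * (b⁻¹ * (a * c) * b) * (d⁻¹ * u * d) * e * c)⁻¹) = 1) :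
    b * (a * (c * (b * (d * (u * (d * (b * (a * (c * (b * (c * (e * (d * (u⁻¹ * (d * (b * (a * (c * (b *
      (e * (u⁻¹ * (d * (u⁻¹ * (d * 1)))))))))))))))))))))))) = 1 := by
  rw [hb, hd, hx] at h
  have e0 : (u * e * (b * (a * c) * b) * (d * u * d) * e * c)⁻¹ =
      c⁻¹ * e⁻¹ * (d⁻¹ * u⁻¹ * d⁻¹) * (b * (a * c) * b)⁻¹ * e⁻¹ * u⁻¹ := by group
  have e2 : (d * u * d)⁻¹ = d⁻¹ * u⁻¹ * d⁻¹ := by group
  rw [e0, e2, hc, he, hd, hx] at h
  have e1 : b * (a * (c * (b * (d * (u * (d * (b * (a * (c * (b * (c * (e * (d * (u⁻¹ * (d * (b * (a * (c * (b *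
      (e * (u⁻¹ * (d * (u⁻¹ * (d * 1)))))))))))))))))))))))) =
      (d * u⁻¹ * d)⁻¹ * (d * u⁻¹ * d * (b * (a * c) * b) * (d * u * d) * (b * (a * c) * b) *
        (c * e * (d * u⁻¹ * d) * (b * (a * c) * b) * e * u⁻¹)) * (d * u⁻¹ * d) := by group
  rw [e1, h]
  group

theorem ctx2Th : Ctx2 gTh := by
  have hac := ac_comm ctxTh
  have ha : gTh 1 = (gTh 1)⁻¹ := gTh_inv 1
  have hb : gTh 2 = (gTh 2)⁻¹ := gTh_inv 2
  have hc : gTh 3 = (gTh 3)⁻¹ := gTh_inv 3
  have hd : gTh 4 = (gTh 4)⁻¹ := gTh_inv 4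
  have he : gTh 5 = (gTh 5)⁻¹ := gTh_inv 5
  have hx : (gTh 2 * (gTh 1 * gTh 3) * gTh 2)⁻¹ = gTh 2 * (gTh 1 * gTh 3) * gTh 2 := by
    rw [mul_inv_rev, mul_inv_rev, mul_inv_rev, ← ha, ← hb, ← hc, ← hac]
    simp only [mul_assoc]
  exact ⟨ctxTh, r1_aux hb.symm he.symm hx rel_th.r1, r2_aux hb.symm hc.symm hd.symm he.symm hx rel_th.r2⟩

/-- **The certificate for the presented Thompson group.** -/
theorem nodesTh : ∃ g : ℕ → Cfsg.Spor.Th, Nodes gTh g ∧
    ∀ i < 497, Holds (sub gTh isK) gTh g (tab i) := exists_nodes ctx2Th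

end Cfsg.Agent.Th.CoverMain
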