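/-
Lower bound for the order of the Thompson group: the order of the image of the 248-dimensional representation over
F_3 is divisible by 2^15 · 3^10 · 5^3 · 7^2 · 13 · 19 · 31 = 90745943887872000.
-/
import Cfsg.Agent.Th.Low2
import Cfsg.Agent.Th.Low3
import Cfsg.Agent.Th.Low5
import Cfsg.Agent.Th.Low7
import Cfsg.Agent.Th.Low13
import Cfsg.Agent.Th.Low19
import Cfsg.Agent.Th.Low31

set_option autoImplicit false

namespace Cfsg.Agent.Th.Lower

open Cfsg.Agent.Th.Words248 Cfsg.Agent.Th.Gen248 Cfsg.Agent.Th.OrbitChain Cfsg.Agent.Th.Hom248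

theorem gl_mem (l : Lt) : gl l ∈ rho.range := by
  refine ⟨PresentedGroup.mk _ (toFree (.g l)), ?_⟩
  rw [rho_mk]
  rfl

theorem glW_mem (w : List Lt) : glW w ∈ rho.range := by
  induction w with
  | nil => exact one_mem _
  | cons l w ih => exact mul_mem (gl_mem l) ih

theorem gen_le (L : List (List Lt × List ℕ)) : OrbitChain.gen L ≤ rho.range := by
  unfold OrbitChain.gen
  rw [Subgroup.closure_le]
  rintro g ⟨x, _, rfl⟩
  exact glW_mem x.1

theorem card_gen_dvd (L : List (List Lt × List ℕ)) : Nat.card (OrbitChain.gen L) ∣ Nat.card rho.range :=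
  Subgroup.card_dvd_of_le (gen_le L)

theorem dvd2 : 32768 ∣ Nat.card rho.range := Low2.div0.trans (card_gen_dvd _)

theorem dvd3 : 59049 ∣ Nat.card rho.range := Low3.div0.trans (card_gen_dvd _)

theorem dvd5 : 125 ∣ Nat.card rho.range := Low5.div0.trans (card_gen_dvd _)

theorem dvd7 : 49 ∣ Nat.card rho.range := Low7.div0.trans (card_gen_dvd _)

theorem dvd13 : 13 ∣ Nat.card rho.range := Low13.div0.trans (card_gen_dvd _)

theorem dvd19 : 19 ∣ Nat.card rho.range := Low19.div0.trans (card_gen_dvd _)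

theorem dvd31 : 31 ∣ Nat.card rho.range := Low31.div0.trans (card_gen_dvd _)

theorem combine (n : ℕ) (h2 : 32768 ∣ n) (h3 : 59049 ∣ n) (h5 : 125 ∣ n) (h7 : 49 ∣ n) (h13 : 13 ∣ n) (h19 : 19 ∣ n)
    (h31 : 31 ∣ n) : 90745943887872000 ∣ n := by
  have a1 : 32768 * 59049 ∣ n := Nat.Coprime.mul_dvd_of_dvd_of_dvd (by norm_num) h2 h3
  have a2 : 32768 * 59049 * 125 ∣ n := Nat.Coprime.mul_dvd_of_dvd_of_dvd (by norm_num) a1 h5
  have a3 : 32768 * 59049 * 125 * 49 ∣ n := Nat.Coprime.mul_dvd_of_dvd_of_dvd (by norm_num) a2 h7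
  have a4 : 32768 * 59049 * 125 * 49 * 13 ∣ n := Nat.Coprime.mul_dvd_of_dvd_of_dvd (by norm_num) a3 h13
  have a5 : 32768 * 59049 * 125 * 49 * 13 * 19 ∣ n := Nat.Coprime.mul_dvd_of_dvd_of_dvd (by norm_num) a4 h19
  have a6 : 32768 * 59049 * 125 * 49 * 13 * 19 * 31 ∣ n := Nat.Coprime.mul_dvd_of_dvd_of_dvd (by norm_num) a5 h31
  have e : 90745943887872000 = 32768 * 59049 * 125 * 49 * 13 * 19 * 31 := by norm_num
  rw [e]
  exact a6

/-- the order of the image of the 248-dimensional representation is a multiple of the order of the Thompson group -/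
theorem card_range_dvd : 90745943887872000 ∣ Nat.card rho.range :=
  combine _ dvd2 dvd3 dvd5 dvd7 dvd13 dvd19 dvd31

theorem card_range_ge : 90745943887872000 ≤ Nat.card rho.range := by
  have : Finite rho.range := finite_sub _
  exact Nat.le_of_dvd Nat.card_pos card_range_dvd

theorem card_range_dvd_card : Nat.card rho.range ∣ Nat.card Cfsg.Spor.Th := Subgroup.card_range_dvd rho

/-- divisibility of the order (true also if the group were infinite, with `Nat.card = 0`) -/
theorem card_dvd : 90745943887872000 ∣ Nat.card Cfsg.Spor.Th := card_range_dvd.trans card_range_dvd_card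

/-- the lower bound of the order of the presented Thompson group -/
theorem hlow : Finite Cfsg.Spor.Th → 90745943887872000 ≤ Nat.card Cfsg.Spor.Th := fun h =>
  have := h
  Nat.le_of_dvd Nat.card_pos card_dvd

end Cfsg.Agent.Th.Lower
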