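/-
Kernel-fast arithmetic of the 248-dimensional matrices (over F_3) of the Thompson group: product `mul` of packed
248 × 248 matrices, action `actV` of a packed matrix on a packed row vector, specifications, validity checks,
identity matrix.
-/
import Cfsg.Agent.Th.Data248

set_option autoImplicit false

namespace Cfsg.Agent.Th.Words248

open Cfsg.Agent.Th.MatEngine Cfsg.Agent.Th.Data248

/-- evaluate the argument before going on (call by value in the kernel) -/
noncomputable def force {α : Type} (n : ℕ) (k : ℕ → α) : α :=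
  Nat.rec (motive := fun _ => α) (k 0) (fun m _ => k (Nat.succ m)) n

theorem force_eq {α : Type} (n : ℕ) (k : ℕ → α) : force n k = k n := by
  cases n <;> rfl

/-- one step of the change of digit width 2 → 11 (no property of it is ever used) -/
noncomputable def expStep (s x : ℕ) : ℕ :=
  Nat.add x (Nat.mul (Nat.land (Nat.shiftRight x (Nat.pow 2 (Nat.add s 1)))
    (Nat.mul (Nat.sub (Nat.pow 2 (Nat.pow 2 (Nat.add s 1))) 1)
      (Nat.div (Nat.sub (Nat.pow 2 720896) 1) (Nat.sub (Nat.pow 2 (Nat.mul 11 (Nat.pow 2 (Nat.add s 1)))) 1))))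
    (Nat.sub (Nat.pow 2 (Nat.mul 11 (Nat.pow 2 s))) (Nat.pow 2 (Nat.mul 2 (Nat.pow 2 s)))))

/-- change of digit width 2 → 11 -/
noncomputable def expd (x : ℕ) : ℕ :=
  Nat.rec (motive := fun _ => ℕ → ℕ) (fun x => x) (fun s ih x => ih (expStep s x)) 16 x

/-- all digits one -/
noncomputable def onesOf (b n : ℕ) : ℕ := Nat.div (Nat.sub (Nat.pow 2 (Nat.mul b n)) 1) (Nat.sub (Nat.pow 2 b) 1)

theorem onesOf_eq (b n : ℕ) (hb : 0 < b) : onesOf b n = enc b (fun _ => 1) n := enc_one b n hb

attribute [irreducible] onesOf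

/-- all-one matrix -/
noncomputable def ones : ℕ := onesOf 11 61504

/-- all-one row -/
noncomputable def ones1 : ℕ := onesOf 11 248

/-- column mask -/
noncomputable def cm : ℕ := Nat.mul 2047 (onesOf 2728 248)

/-- row modulus -/
noncomputable def rm : ℕ := Nat.pow 2 2728

/-- the identity matrix -/
noncomputable def idm : ℕ := onesOf 2739 248

/-- general product, with the parameters visible -/
noncomputable def mulG (b bn cm rm ones x y : ℕ) : ℕ :=
  force x fun x' => force y fun y' => mulN b bn cm rm 3 ones 9 248 x' y'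

theorem mulG_eq (b bn cm rm ones x y : ℕ) : mulG b bn cm rm ones x y = mulN b bn cm rm 3 ones 9 248 x y := by
  unfold mulG
  rw [force_eq, force_eq]

/-- product of packed 248 × 248 matrices over F_3, digit width 11 -/
noncomputable def mul (x y : ℕ) : ℕ := mulG 11 2728 cm rm ones x y

/-- product of a packed row vector and a packed 248 × 248 matrix over F_3, digit width 11 (the matrix is left
unevaluated: its rows are then cached by the kernel) -/
noncomputable def actV (x y : ℕ) : ℕ := force x fun x' => mulN 11 2728 2047 rm 3 ones1 9 248 x' y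

theorem ones_gen (b N n m : ℕ) (hb : 0 < b) (h : N = n * m) : onesOf b N = enc b (fun _ => 1) (n * m) := by
  subst h; exact onesOf_eq b _ hb

theorem cm_gen (b bn n m c : ℕ) (hb : 0 < bn) (h : bn = b * n) (hc : c = 2 ^ b - 1) :
    Nat.mul c (onesOf bn m) = enc (b * n) (fun _ => 2 ^ b - 1) m := by
  subst h hc
  rw [onesOf_eq (b * n) m hb]
  change (2 ^ b - 1) * _ = _
  rw [mul_enc]
  apply enc_congr
  intro i _
  rw [mul_one]

theorem rm_gen (b n bn : ℕ) (h : bn = b * n) : Nat.pow 2 bn = 2 ^ (b * n) := by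
  subst h
  exact Nat.pow_eq

theorem ones_eq : ones = enc 11 (fun _ => 1) (248 * 248) :=
  ones_gen 11 61504 248 248 (by norm_num) (by norm_num)

theorem ones1_eq : ones1 = enc 11 (fun _ => 1) (248 * 1) :=
  ones_gen 11 248 248 1 (by norm_num) (by norm_num)

theorem cm_eq : cm = enc (11 * 248) (fun _ => 2 ^ 11 - 1) 248 := by
  unfold cm
  exact cm_gen 11 2728 248 248 2047 (by norm_num) (by norm_num) (by norm_num)

theorem cm1_eq : 2047 = enc (11 * 248) (fun _ => 2 ^ 11 - 1) 1 := by
  rw [enc_succ, enc_zero]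
  norm_num

theorem rm_eq : rm = 2 ^ (11 * 248) := by
  unfold rm
  exact rm_gen 11 248 2728 (by norm_num)

theorem mulG_spec {b n m p k : ℕ} (hP : Params b n p k) {bn cmv rmv onesv x y : ℕ} (hbn : bn = b * n)
    (hcm : cmv = enc (b * n) (fun _ => 2 ^ b - 1) m) (hrm : rmv = 2 ^ (b * n))
    (ho : onesv = enc b (fun _ => 1) (n * m)) (hx : RValid b n m p x) (hy : RValid b n n p y) :
    RValid b n m p (mulN b bn cmv rmv p onesv k n x y) ∧
    toRMat b n m p (mulN b bn cmv rmv p onesv k n x y) = toRMat b n m p x * toRMat b n n p y := by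
  subst hbn hcm hrm ho
  exact mulN_spec hP hx hy

theorem params : Params 11 248 3 9 := by
  constructor <;> norm_num

/-- validity of a packed 248 × 248 matrix -/
def Ok (x : ℕ) : Prop := RValid 11 248 248 3 x

/-- validity of a packed row vector -/
def VOk (x : ℕ) : Prop := RValid 11 248 1 3 x

/-- the matrix over F_3 -/
noncomputable def mat (x : ℕ) : Matrix (Fin 248) (Fin 248) (ZMod 3) := toRMat 11 248 248 3 x

/-- the row vector over F_3 -/
noncomputable def vec (x : ℕ) : Fin 248 → ZMod 3 := toRMat 11 248 1 3 x 0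

theorem mul_spec {x y : ℕ} (hx : Ok x) (hy : Ok y) : Ok (mul x y) ∧ mat (mul x y) = mat x * mat y := by
  unfold Ok mat mul
  rw [mulG_eq]
  exact mulG_spec params (by norm_num) cm_eq rm_eq ones_eq hx hy

theorem actV_spec {x y : ℕ} (hx : VOk x) (hy : Ok y) :
    VOk (actV x y) ∧ vec (actV x y) = Matrix.vecMul (vec x) (mat y) := by
  unfold VOk vec mat actV
  rw [force_eq]
  have := mulG_spec (b := 11) (n := 248) (m := 1) params (bn := 2728) (by norm_num) cm1_eq rm_eq ones1_eq hx hy
  refine ⟨this.1, ?_⟩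
  rw [this.2]
  exact Matrix.mul_apply_eq_vecMul _ _ _

/-- product of a packed `m × 248` matrix and a packed 248 × 248 matrix over F_3, digit width 11 -/
noncomputable def actR (m x y : ℕ) : ℕ := force x fun x' =>
  mulN 11 2728 (Nat.mul 2047 (onesOf 2728 m)) rm 3 (onesOf 11 (Nat.mul 248 m)) 9 248 x' y

/-- validity of a packed `m × 248` matrix -/
def ROk (m x : ℕ) : Prop := RValid 11 248 m 3 x

/-- the `m × 248` matrix over F_3 -/
noncomputable def rmat (m x : ℕ) : Matrix (Fin m) (Fin 248) (ZMod 3) := toRMat 11 248 m 3 x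

theorem actR_spec {m x y : ℕ} (hx : ROk m x) (hy : Ok y) :
    ROk m (actR m x y) ∧ rmat m (actR m x y) = rmat m x * mat y := by
  unfold ROk rmat mat actR
  rw [force_eq]
  exact mulG_spec (b := 11) (n := 248) (m := m) params (bn := 2728) (by norm_num)
    (cm_gen 11 2728 248 m 2047 (by norm_num) (by norm_num) (by norm_num)) rm_eq
    (ones_gen 11 (Nat.mul 248 m) 248 m (by norm_num) rfl) hx hy

theorem rmat_injective {m x y : ℕ} (hx : ROk m x) (hy : ROk m y) (h : rmat m x = rmat m y) : x = y :=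
  toRMat_injective hx hy h

attribute [irreducible] mul actV actR

theorem vec_injective {x y : ℕ} (hx : VOk x) (hy : VOk y) (h : vec x = vec y) : x = y := by
  apply toRMat_injective hx hy
  ext i j
  have hi : i = 0 := Subsingleton.elim _ _
  subst hi
  exact congrFun h j

theorem mat_injective {x y : ℕ} (hx : Ok x) (hy : Ok y) (h : mat x = mat y) : x = y := toRMat_injective hx hy h

theorem pow_conv (m : ℕ) : Nat.pow 2 m = 2 ^ m := Nat.pow_eq

theorem ok_gen {b n m p N c1 c2 onesv x : ℕ} (hb : 0 < b) (hp : p ≤ 2 ^ (b - 1)) (e : N = b * (n * m))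
    (e1 : c1 = 2 ^ (b - 1)) (e2 : c2 = 2 ^ (b - 1) - p)
    (ho : onesv = enc b (fun _ => 1) (n * m)) (h0 : Nat.ble (Nat.succ x) (Nat.pow 2 N) = true)
    (h1 : Nat.beq (Nat.land x (Nat.mul c1 onesv)) 0 = true)
    (h2 : Nat.beq (Nat.land (Nat.add x (Nat.mul c2 onesv)) (Nat.mul c1 onesv)) 0 = true) : RValid b n m p x := by
  subst e e1 e2 ho
  have h0' := Nat.le_of_ble_eq_true h0
  rw [pow_conv] at h0'
  exact valid_of_check hb hp h0' (Nat.eq_of_beq_eq_true h1) (Nat.eq_of_beq_eq_true h2)

theorem ok_of {x : ℕ} (h0 : Nat.ble (Nat.succ x) (Nat.pow 2 676544) = true)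
    (h1 : Nat.beq (Nat.land x (Nat.mul 1024 ones)) 0 = true)
    (h2 : Nat.beq (Nat.land (Nat.add x (Nat.mul 1021 ones)) (Nat.mul 1024 ones)) 0 = true) : Ok x :=
  ok_gen (b := 11) (n := 248) (p := 3) (by norm_num) (by norm_num) (by norm_num) (by norm_num) (by norm_num)
    ones_eq h0 h1 h2

theorem vok_of {x : ℕ} (h0 : Nat.ble (Nat.succ x) (Nat.pow 2 2728) = true)
    (h1 : Nat.beq (Nat.land x (Nat.mul 1024 ones1)) 0 = true)
    (h2 : Nat.beq (Nat.land (Nat.add x (Nat.mul 1021 ones1)) (Nat.mul 1024 ones1)) 0 = true) : VOk x :=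
  ok_gen (b := 11) (n := 248) (m := 1) (p := 3) (by norm_num) (by norm_num) (by norm_num) (by norm_num)
    (by norm_num) ones1_eq h0 h1 h2

theorem rok_of {m x : ℕ} (h0 : Nat.ble (Nat.succ x) (Nat.pow 2 (Nat.mul 11 (Nat.mul 248 m))) = true)
    (h1 : Nat.beq (Nat.land x (Nat.mul 1024 (onesOf 11 (Nat.mul 248 m)))) 0 = true)
    (h2 : Nat.beq (Nat.land (Nat.add x (Nat.mul 1021 (onesOf 11 (Nat.mul 248 m))))
      (Nat.mul 1024 (onesOf 11 (Nat.mul 248 m)))) 0 = true) : ROk m x :=
  ok_gen (b := 11) (n := 248) (m := m) (p := 3) (by norm_num) (by norm_num) rfl (by norm_num)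
    (by norm_num) (ones_gen 11 (Nat.mul 248 m) 248 m (by norm_num) rfl) h0 h1 h2

theorem idm_eq : idm = enc 2739 (fun _ => 1) 248 := onesOf_eq 2739 248 (by norm_num)

theorem idm_row : idm = enc (11 * 248) (fun i => enc 11 (fun j => if i = j then 1 else 0) 248) 248 := by
  rw [idm_eq]
  unfold enc
  apply Finset.sum_congr rfl
  intro i hi
  change 1 * 2 ^ (2739 * i) = (∑ j ∈ Finset.range 248, (if i = j then 1 else 0) * 2 ^ (11 * j)) * 2 ^ (11 * 248 * i)
  rw [Finset.sum_eq_single i]
  · simp only [if_true, one_mul]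
    rw [← pow_add]; congr 1; ring
  · intro j _ hj; simp [Ne.symm hj]
  · intro h; exact absurd hi h

theorem idm_spec : Ok idm ∧ mat idm = 1 := by
  have hin : ∀ i < 248, enc 11 (fun j => if i = j then 1 else 0) 248 < 2 ^ (11 * 248) := by
    intro i _
    apply enc_lt
    intro j _
    split <;> norm_num
  have hent : ∀ i < 248, ∀ j < 248, ent 11 248 idm i j = if i = j then 1 else 0 := by
    intro i hi j hj
    unfold ent
    rw [idm_row, dg_enc _ _ _ hin i hi, dg_enc]
    · intro j _
      split <;> norm_num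
    · exact hj
  refine ⟨⟨?_, ?_⟩, ?_⟩
  · rw [idm_row]
    exact enc_lt _ _ _ hin
  · intro i hi j hj
    rw [hent i hi j hj]
    split <;> norm_num
  · ext i j
    unfold mat toRMat
    rw [hent i i.2 j j.2, Matrix.one_apply]
    by_cases h : i = j
    · subst h; simp
    · have : ¬ ((i : ℕ) = j) := fun h' => h (Fin.ext h')
      simp [h, this]

attribute [irreducible] idm

end Cfsg.Agent.Th.Words248
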