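/-
The generators a, b, c, d, e, s, t, u of the Thompson group as elements `gl l` of GL(248, 3), group words `Wd`
with their kernel evaluation, and the action of words (lists of letters) on packed row vectors.
-/
import Cfsg.Agent.Th.Words248

set_option autoImplicit false

namespace Cfsg.Agent.Th.Gen248

open Cfsg.Agent.Th.MatEngine Cfsg.Agent.Th.Data248 Cfsg.Agent.Th.Words248

/-- letters; S, T, U are the inverses of s, t, u -/
inductive Lt
  | a | b | c | d | e | s | t | u | S | T | U

/-- packed matrix of a letter -/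
noncomputable def pm : Lt → ℕ
  | .a => expd m_a
  | .b => expd m_b
  | .c => expd m_c
  | .d => expd m_d
  | .e => expd m_e
  | .s => expd m_s
  | .t => expd m_t
  | .u => expd m_u
  | .S => expd m_si
  | .T => expd m_ti
  | .U => expd m_ui

/-- inverse letter -/
def linv : Lt → Lt
  | .a => .a
  | .b => .b
  | .c => .c
  | .d => .d
  | .e => .e
  | .s => .S
  | .t => .T
  | .u => .U
  | .S => .s
  | .T => .t
  | .U => .u

theorem linv_linv (l : Lt) : linv (linv l) = l := by cases l <;> rfl

set_option maxRecDepth 100000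
set_option maxHeartbeats 400000

theorem ok_a : Ok (pm .a) := ok_of (by decide +kernel) (by decide +kernel) (by decide +kernel)
theorem ok_b : Ok (pm .b) := ok_of (by decide +kernel) (by decide +kernel) (by decide +kernel)
theorem ok_c : Ok (pm .c) := ok_of (by decide +kernel) (by decide +kernel) (by decide +kernel)
theorem ok_d : Ok (pm .d) := ok_of (by decide +kernel) (by decide +kernel) (by decide +kernel)
theorem ok_e : Ok (pm .e) := ok_of (by decide +kernel) (by decide +kernel) (by decide +kernel)
theorem ok_s : Ok (pm .s) := ok_of (by decide +kernel) (by decide +kernel) (by decide +kernel)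
theorem ok_t : Ok (pm .t) := ok_of (by decide +kernel) (by decide +kernel) (by decide +kernel)
theorem ok_u : Ok (pm .u) := ok_of (by decide +kernel) (by decide +kernel) (by decide +kernel)
theorem ok_S : Ok (pm .S) := ok_of (by decide +kernel) (by decide +kernel) (by decide +kernel)
theorem ok_T : Ok (pm .T) := ok_of (by decide +kernel) (by decide +kernel) (by decide +kernel)
theorem ok_U : Ok (pm .U) := ok_of (by decide +kernel) (by decide +kernel) (by decide +kernel)

theorem ok_pm (l : Lt) : Ok (pm l) := by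
  cases l
  exacts [ok_a, ok_b, ok_c, ok_d, ok_e, ok_s, ok_t, ok_u, ok_S, ok_T, ok_U]

theorem inv_a : Nat.beq (mul (pm .a) (pm .a)) idm = true := by decide +kernel
theorem inv_b : Nat.beq (mul (pm .b) (pm .b)) idm = true := by decide +kernel
theorem inv_c : Nat.beq (mul (pm .c) (pm .c)) idm = true := by decide +kernel
theorem inv_d : Nat.beq (mul (pm .d) (pm .d)) idm = true := by decide +kernel
theorem inv_e : Nat.beq (mul (pm .e) (pm .e)) idm = true := by decide +kernel
theorem inv_s : Nat.beq (mul (pm .s) (pm .S)) idm = true := by decide +kernel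
theorem inv_t : Nat.beq (mul (pm .t) (pm .T)) idm = true := by decide +kernel
theorem inv_u : Nat.beq (mul (pm .u) (pm .U)) idm = true := by decide +kernel

attribute [irreducible] pm

theorem mat_inv_of {x y : ℕ} (hx : Ok x) (hy : Ok y) (h : Nat.beq (mul x y) idm = true) : mat x * mat y = 1 := by
  rw [← (mul_spec hx hy).2, Nat.eq_of_beq_eq_true h, idm_spec.2]

theorem comm_one_gen {m : Type} [Fintype m] [DecidableEq m] {R : Type} [CommRing R] (A B : Matrix m m R)
    (h : A * B = 1) : B * A = 1 := mul_eq_one_comm.mp h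

theorem mat_comm_one {x y : ℕ} (h : mat x * mat y = 1) : mat y * mat x = 1 := comm_one_gen _ _ h

theorem pm_linv (l : Lt) : mat (pm l) * mat (pm (linv l)) = 1 := by
  cases l
  · exact mat_inv_of ok_a ok_a inv_a
  · exact mat_inv_of ok_b ok_b inv_b
  · exact mat_inv_of ok_c ok_c inv_c
  · exact mat_inv_of ok_d ok_d inv_d
  · exact mat_inv_of ok_e ok_e inv_e
  · exact mat_inv_of ok_s ok_S inv_s
  · exact mat_inv_of ok_t ok_T inv_t
  · exact mat_inv_of ok_u ok_U inv_u
  · exact mat_comm_one (mat_inv_of ok_s ok_S inv_s)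
  · exact mat_comm_one (mat_inv_of ok_t ok_T inv_t)
  · exact mat_comm_one (mat_inv_of ok_u ok_U inv_u)

/-- the letter as an element of GL(248, 3) -/
noncomputable def gl (l : Lt) : GL (Fin 248) (ZMod 3) :=
  ⟨mat (pm l), mat (pm (linv l)), pm_linv l, mat_comm_one (pm_linv l)⟩

theorem gl_val (l : Lt) : (gl l : Matrix (Fin 248) (Fin 248) (ZMod 3)) = mat (pm l) := rfl

theorem gl_linv (l : Lt) : gl (linv l) = (gl l)⁻¹ := by
  apply Units.ext
  rfl

/-! ### words -/

/-- group words -/
inductive Wd
  | one
  | g (l : Lt)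
  | mul (x y : Wd)
  | inv (x : Wd)
  | pow (x : Wd) (n : ℕ)

/-- value of a word in GL(248, 3) -/
noncomputable def evG : Wd → GL (Fin 248) (ZMod 3)
  | .one => 1
  | .g l => gl l
  | .mul x y => evG x * evG y
  | .inv x => (evG x)⁻¹
  | .pow x n => evG x ^ n

/-- powers of packed matrices -/
noncomputable def powN (x : ℕ) : ℕ → ℕ
  | 0 => idm
  | 1 => x
  | n + 2 => Words248.mul (powN x (n + 1)) x

/-- packed matrix of a word (`false`) or of its inverse (`true`) -/
noncomputable def evN : Bool → Wd → ℕ
  | _, .one => idm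
  | false, .g l => pm l
  | true, .g l => pm (linv l)
  | false, .mul x y => Words248.mul (evN false x) (evN false y)
  | true, .mul x y => Words248.mul (evN true y) (evN true x)
  | false, .inv x => evN true x
  | true, .inv x => evN false x
  | false, .pow x n => powN (evN false x) n
  | true, .pow x n => powN (evN true x) n

theorem powN_spec {x : ℕ} (hx : Ok x) (n : ℕ) : Ok (powN x n) ∧ mat (powN x n) = mat x ^ n := by
  induction n with
  | zero => exact ⟨idm_spec.1, by rw [pow_zero]; exact idm_spec.2⟩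
  | succ n ih =>
    cases n with
    | zero => exact ⟨hx, by rw [zero_add, pow_one]; rfl⟩
    | succ n =>
      have := mul_spec ih.1 hx
      refine ⟨this.1, ?_⟩
      rw [pow_succ, ← ih.2]
      exact this.2

theorem evN_spec (w : Wd) : (Ok (evN false w) ∧ mat (evN false w) = (evG w : Matrix (Fin 248) (Fin 248) (ZMod 3))) ∧
    (Ok (evN true w) ∧ mat (evN true w) = ((evG w)⁻¹ : GL (Fin 248) (ZMod 3))) := by
  induction w with
  | one =>
    refine ⟨⟨idm_spec.1, idm_spec.2⟩, ⟨idm_spec.1, ?_⟩⟩
    change mat idm = ((1 : GL (Fin 248) (ZMod 3))⁻¹ : GL (Fin 248) (ZMod 3))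
    rw [inv_one]; exact idm_spec.2
  | g l =>
    refine ⟨⟨ok_pm l, rfl⟩, ⟨ok_pm (linv l), ?_⟩⟩
    change mat (pm (linv l)) = ((gl l)⁻¹ : GL (Fin 248) (ZMod 3))
    rw [← gl_linv]; rfl
  | mul x y hx hy =>
    have h1 := mul_spec hx.1.1 hy.1.1
    have h2 := mul_spec hy.2.1 hx.2.1
    refine ⟨⟨h1.1, ?_⟩, ⟨h2.1, ?_⟩⟩
    · change mat (Words248.mul (evN false x) (evN false y)) = _
      rw [h1.2, hx.1.2, hy.1.2]; rfl
    · change mat (Words248.mul (evN true y) (evN true x)) = ((evG x * evG y)⁻¹ : GL (Fin 248) (ZMod 3))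
      rw [h2.2, hx.2.2, hy.2.2, mul_inv_rev]; rfl
  | inv x hx =>
    refine ⟨hx.2, ⟨hx.1.1, ?_⟩⟩
    change mat (evN false x) = (((evG x)⁻¹)⁻¹ : GL (Fin 248) (ZMod 3))
    rw [inv_inv]; exact hx.1.2
  | pow x n hx =>
    have h1 := powN_spec hx.1.1 n
    have h2 := powN_spec hx.2.1 n
    refine ⟨⟨h1.1, ?_⟩, ⟨h2.1, ?_⟩⟩
    · change mat (powN (evN false x) n) = _
      rw [h1.2, hx.1.2]; rfl
    · change mat (powN (evN true x) n) = ((evG x ^ n)⁻¹ : GL (Fin 248) (ZMod 3))
      rw [h2.2, hx.2.2, ← inv_pow]; rfl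

/-- equality of two words, checked by the kernel on packed matrices -/
theorem evG_eq {v w : Wd} (h : Nat.beq (evN false v) (evN false w) = true) : evG v = evG w := by
  apply Units.ext
  rw [← (evN_spec v).1.2, ← (evN_spec w).1.2, Nat.eq_of_beq_eq_true h]

/-- inequality of two words, checked by the kernel on packed matrices -/
theorem evG_ne {v w : Wd} (h : Nat.beq (evN false v) (evN false w) = false) : evG v ≠ evG w := by
  intro he
  have : evN false v = evN false w := by
    apply mat_injective (evN_spec v).1.1 (evN_spec w).1.1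
    rw [(evN_spec v).1.2, (evN_spec w).1.2, he]
  rw [this] at h
  simp at h

/-! ### action of lists of letters on packed row vectors -/

/-- product of the letters of a list in GL(248, 3) -/
noncomputable def glW : List Lt → GL (Fin 248) (ZMod 3)
  | [] => 1
  | l :: w => gl l * glW w

/-- image of the packed row vector `v` under the word `w` (`v * l1 * l2 * ...`) -/
noncomputable def actW (w : List Lt) (v : ℕ) : ℕ :=
  List.rec (motive := fun _ => ℕ → ℕ) (fun v => v) (fun l _ ih v => ih (actV v (pm l))) w v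

theorem actW_nil (v : ℕ) : actW [] v = v := rfl

theorem actW_cons (l : Lt) (w : List Lt) (v : ℕ) : actW (l :: w) v = actW w (actV v (pm l)) := rfl

theorem actW_spec (w : List Lt) {v : ℕ} (hv : VOk v) :
    VOk (actW w v) ∧ vec (actW w v) = Matrix.vecMul (vec v) (glW w : Matrix (Fin 248) (Fin 248) (ZMod 3)) := by
  induction w generalizing v with
  | nil =>
    refine ⟨hv, ?_⟩
    rw [actW_nil]
    change _ = Matrix.vecMul (vec v) 1
    rw [Matrix.vecMul_one]
  | cons l w ih =>
    have h := actV_spec hv (ok_pm l)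
    rw [actW_cons]
    refine ⟨(ih h.1).1, ?_⟩
    rw [(ih h.1).2, h.2]
    change _ = Matrix.vecMul (vec v) (mat (pm l) * (glW w : Matrix (Fin 248) (Fin 248) (ZMod 3)))
    rw [Matrix.vecMul_vecMul]

/-- image of the packed `m × 248` matrix `v` (m row vectors) under the word `w` -/
noncomputable def actRW (m : ℕ) (w : List Lt) (v : ℕ) : ℕ :=
  List.rec (motive := fun _ => ℕ → ℕ) (fun v => v) (fun l _ ih v => ih (actR m v (pm l))) w v

theorem actRW_nil (m v : ℕ) : actRW m [] v = v := rfl

theorem actRW_cons (m : ℕ) (l : Lt) (w : List Lt) (v : ℕ) : actRW m (l :: w) v = actRW m w (actR m v (pm l)) := rfl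

theorem actRW_spec (m : ℕ) (w : List Lt) {v : ℕ} (hv : ROk m v) :
    ROk m (actRW m w v) ∧ rmat m (actRW m w v) = rmat m v * (glW w : Matrix (Fin 248) (Fin 248) (ZMod 3)) := by
  induction w generalizing v with
  | nil =>
    refine ⟨hv, ?_⟩
    rw [actRW_nil]
    change _ = rmat m v * 1
    rw [Matrix.mul_one]
  | cons l w ih =>
    have h := actR_spec hv (ok_pm l)
    rw [actRW_cons]
    refine ⟨(ih h.1).1, ?_⟩
    rw [(ih h.1).2, h.2]
    change _ = rmat m v * (mat (pm l) * (glW w : Matrix (Fin 248) (Fin 248) (ZMod 3)))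
    rw [Matrix.mul_assoc]

end Cfsg.Agent.Th.Gen248
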