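/-
The 248 × 248 matrices over F_3 satisfy all relators of the presented Thompson group: homomorphism
`rho : Cfsg.Spor.Th →* GL (Fin 248) (ZMod 3)`.
-/
import Cfsg.Agent.Th.Gen248
import Cfsg.Prelude.Def_Spor_Th

set_option autoImplicit false
set_option Elab.async false

namespace Cfsg.Agent.Th.Hom248

open Cfsg.Agent.Th.MatEngine Cfsg.Agent.Th.Data248 Cfsg.Agent.Th.Words248 Cfsg.Agent.Th.Gen248

set_option maxRecDepth 100000
set_option maxHeartbeats 400000

/-- relator 1: a ^ 2 -/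
def w1 : Wd := .pow (.g .a) 2

theorem ck1 : Nat.beq (evN false w1) (evN false .one) = true := by decide +kernel

/-- relator 2: b ^ 2 -/
def w2 : Wd := .pow (.g .b) 2

theorem ck2 : Nat.beq (evN false w2) (evN false .one) = true := by decide +kernel

/-- relator 3: c ^ 2 -/
def w3 : Wd := .pow (.g .c) 2

theorem ck3 : Nat.beq (evN false w3) (evN false .one) = true := by decide +kernel

/-- relator 4: d ^ 2 -/
def w4 : Wd := .pow (.g .d) 2

theorem ck4 : Nat.beq (evN false w4) (evN false .one) = true := by decide +kernel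

/-- relator 5: e ^ 2 -/
def w5 : Wd := .pow (.g .e) 2

theorem ck5 : Nat.beq (evN false w5) (evN false .one) = true := by decide +kernel

/-- relator 6: (a * b) ^ 3 -/
def w6 : Wd := .pow (.mul (.g .a) (.g .b)) 3

theorem ck6 : Nat.beq (evN false w6) (evN false .one) = true := by decide +kernel

/-- relator 7: (a * e) ^ 2 -/
def w7 : Wd := .pow (.mul (.g .a) (.g .e)) 2

theorem ck7 : Nat.beq (evN false w7) (evN false .one) = true := by decide +kernel

/-- relator 8: (b * c) ^ 3 -/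
def w8 : Wd := .pow (.mul (.g .b) (.g .c)) 3

theorem ck8 : Nat.beq (evN false w8) (evN false .one) = true := by decide +kernel

/-- relator 9: (b * d) ^ 2 -/
def w9 : Wd := .pow (.mul (.g .b) (.g .d)) 2

theorem ck9 : Nat.beq (evN false w9) (evN false .one) = true := by decide +kernel

/-- relator 10: (b * e) ^ 2 -/
def w10 : Wd := .pow (.mul (.g .b) (.g .e)) 2

theorem ck10 : Nat.beq (evN false w10) (evN false .one) = true := by decide +kernel

/-- relator 11: a * (((c * d) ^ 4)⁻¹) -/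
def w11 : Wd := .mul (.g .a) (.inv (.pow (.mul (.g .c) (.g .d)) 4))

theorem ck11 : Nat.beq (evN false w11) (evN false .one) = true := by decide +kernel

/-- relator 12: (c * e) ^ 2 -/
def w12 : Wd := .pow (.mul (.g .c) (.g .e)) 2

theorem ck12 : Nat.beq (evN false w12) (evN false .one) = true := by decide +kernel

/-- relator 13: (d * e) ^ 3 -/
def w13 : Wd := .pow (.mul (.g .d) (.g .e)) 3

theorem ck13 : Nat.beq (evN false w13) (evN false .one) = true := by decide +kernel

/-- relator 14: (b * c * d * e) ^ 8 -/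
def w14 : Wd := .pow (.mul (.mul (.mul (.g .b) (.g .c)) (.g .d)) (.g .e)) 8

theorem ck14 : Nat.beq (evN false w14) (evN false .one) = true := by decide +kernel

/-- relator 15: s ^ 7 -/
def w15 : Wd := .pow (.g .s) 7

theorem ck15 : Nat.beq (evN false w15) (evN false .one) = true := by decide +kernel

/-- relator 16: s⁻¹ * a⁻¹ * s * a -/
def w16 : Wd := .mul (.mul (.mul (.inv (.g .s)) (.inv (.g .a))) (.g .s)) (.g .a)

theorem ck16 : Nat.beq (evN false w16) (evN false .one) = true := by decide +kernel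

/-- relator 17: s⁻¹ * b⁻¹ * s * b -/
def w17 : Wd := .mul (.mul (.mul (.inv (.g .s)) (.inv (.g .b))) (.g .s)) (.g .b)

theorem ck17 : Nat.beq (evN false w17) (evN false .one) = true := by decide +kernel

/-- relator 18: s⁻¹ * c⁻¹ * s * c -/
def w18 : Wd := .mul (.mul (.mul (.inv (.g .s)) (.inv (.g .c))) (.g .s)) (.g .c)

theorem ck18 : Nat.beq (evN false w18) (evN false .one) = true := by decide +kernel

/-- relator 19: (s * d) ^ 2 -/
def w19 : Wd := .pow (.mul (.g .s) (.g .d)) 2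

theorem ck19 : Nat.beq (evN false w19) (evN false .one) = true := by decide +kernel

/-- relator 20: (e⁻¹ * s⁻¹ * e * s) * (((s ^ 3)⁻¹ * e * (s ^ 3))⁻¹) -/
def w20 : Wd := .mul (.mul (.mul (.mul (.inv (.g .e)) (.inv (.g .s))) (.g .e)) (.g .s)) (.inv (.mul (.mul (.inv (.pow (.g .s) 3)) (.g .e)) (.pow (.g .s) 3)))

theorem ck20 : Nat.beq (evN false w20) (evN false .one) = true := by decide +kernel

/-- relator 21: t ^ 3 -/
def w21 : Wd := .pow (.g .t) 3

theorem ck21 : Nat.beq (evN false w21) (evN false .one) = true := by decide +kernel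

/-- relator 22: t⁻¹ * a⁻¹ * t * a -/
def w22 : Wd := .mul (.mul (.mul (.inv (.g .t)) (.inv (.g .a))) (.g .t)) (.g .a)

theorem ck22 : Nat.beq (evN false w22) (evN false .one) = true := by decide +kernel

/-- relator 23: t⁻¹ * b⁻¹ * t * b -/
def w23 : Wd := .mul (.mul (.mul (.inv (.g .t)) (.inv (.g .b))) (.g .t)) (.g .b)

theorem ck23 : Nat.beq (evN false w23) (evN false .one) = true := by decide +kernel

/-- relator 24: t⁻¹ * c⁻¹ * t * c -/
def w24 : Wd := .mul (.mul (.mul (.inv (.g .t)) (.inv (.g .c))) (.g .t)) (.g .c)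

theorem ck24 : Nat.beq (evN false w24) (evN false .one) = true := by decide +kernel

/-- relator 25: t⁻¹ * d⁻¹ * t * d -/
def w25 : Wd := .mul (.mul (.mul (.inv (.g .t)) (.inv (.g .d))) (.g .t)) (.g .d)

theorem ck25 : Nat.beq (evN false w25) (evN false .one) = true := by decide +kernel

/-- relator 26: t⁻¹ * e⁻¹ * t * e -/
def w26 : Wd := .mul (.mul (.mul (.inv (.g .t)) (.inv (.g .e))) (.g .t)) (.g .e)

theorem ck26 : Nat.beq (evN false w26) (evN false .one) = true := by decide +kernel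

/-- relator 27: (t⁻¹ * s * t) * ((s ^ 2)⁻¹) -/
def w27 : Wd := .mul (.mul (.mul (.inv (.g .t)) (.g .s)) (.g .t)) (.inv (.pow (.g .s) 2))

theorem ck27 : Nat.beq (evN false w27) (evN false .one) = true := by decide +kernel

/-- relator 28: (u ^ 2) * ((a * c)⁻¹) -/
def w28 : Wd := .mul (.pow (.g .u) 2) (.inv (.mul (.g .a) (.g .c)))

theorem ck28 : Nat.beq (evN false w28) (evN false .one) = true := by decide +kernel

/-- relator 29: u⁻¹ * a⁻¹ * u * a -/
def w29 : Wd := .mul (.mul (.mul (.inv (.g .u)) (.inv (.g .a))) (.g .u)) (.g .a)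

theorem ck29 : Nat.beq (evN false w29) (evN false .one) = true := by decide +kernel

/-- relator 30: u⁻¹ * c⁻¹ * u * c -/
def w30 : Wd := .mul (.mul (.mul (.inv (.g .u)) (.inv (.g .c))) (.g .u)) (.g .c)

theorem ck30 : Nat.beq (evN false w30) (evN false .one) = true := by decide +kernel

/-- relator 31: u⁻¹ * e⁻¹ * u * e -/
def w31 : Wd := .mul (.mul (.mul (.inv (.g .u)) (.inv (.g .e))) (.g .u)) (.g .e)

theorem ck31 : Nat.beq (evN false w31) (evN false .one) = true := by decide +kernel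

/-- relator 32: (d * e * (u⁻¹ * d * u)) ^ 2 -/
def w32 : Wd := .pow (.mul (.mul (.g .d) (.g .e)) (.mul (.mul (.inv (.g .u)) (.g .d)) (.g .u))) 2

theorem ck32 : Nat.beq (evN false w32) (evN false .one) = true := by decide +kernel

/-- relator 33: (u⁻¹ * (b⁻¹ * (a * c) * b)⁻¹ * u * (b⁻¹ * (a * c) * b)) * (e⁻¹) -/
def w33 : Wd := .mul (.mul (.mul (.mul (.inv (.g .u)) (.inv (.mul (.mul (.inv (.g .b)) (.mul (.g .a) (.g .c))) (.g .b)))) (.g .u)) (.mul (.mul (.inv (.g .b)) (.mul (.g .a) (.g .c))) (.g .b))) (.inv (.g .e))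

theorem ck33 : Nat.beq (evN false w33) (evN false .one) = true := by decide +kernel

/-- relator 34: ((d⁻¹ * u * d)⁻¹ * (b⁻¹ * (a * c) * b)⁻¹ * (d⁻¹ * u * d) * (b⁻¹ * (a * c) * b)) * ((u * e * (b⁻¹ * (a * c) * b) * (d⁻¹ * u * d) * e * c)⁻¹) -/
def w34 : Wd := .mul (.mul (.mul (.mul (.inv (.mul (.mul (.inv (.g .d)) (.g .u)) (.g .d))) (.inv (.mul (.mul (.inv (.g .b)) (.mul (.g .a) (.g .c))) (.g .b)))) (.mul (.mul (.inv (.g .d)) (.g .u)) (.g .d))) (.mul (.mul (.inv (.g .b)) (.mul (.g .a) (.g .c))) (.g .b))) (.inv (.mul (.mul (.mul (.mul (.mul (.g .u) (.g .e)) (.mul (.mul (.inv (.g .b)) (.mul (.g .a) (.g .c))) (.g .b))) (.mul (.mul (.inv (.g .d)) (.g .u)) (.g .d))) (.g .e)) (.g .c)))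

theorem ck34 : Nat.beq (evN false w34) (evN false .one) = true := by decide +kernel

/-- relator 35: (u⁻¹ * t * u) * ((t⁻¹)⁻¹) -/
def w35 : Wd := .mul (.mul (.mul (.inv (.g .u)) (.g .t)) (.g .u)) (.inv (.inv (.g .t)))

theorem ck35 : Nat.beq (evN false w35) (evN false .one) = true := by decide +kernel

/-- relator 36: e⁻¹ * ((s ^ 2)⁻¹ * u * (s ^ 2))⁻¹ * e * ((s ^ 2)⁻¹ * u * (s ^ 2)) -/
def w36 : Wd := .mul (.mul (.mul (.inv (.g .e)) (.inv (.mul (.mul (.inv (.pow (.g .s) 2)) (.g .u)) (.pow (.g .s) 2)))) (.g .e)) (.mul (.mul (.inv (.pow (.g .s) 2)) (.g .u)) (.pow (.g .s) 2))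

theorem ck36 : Nat.beq (evN false w36) (evN false .one) = true := by decide +kernel

/-- relator 37: (a * c) * (((u * s) ^ 3)⁻¹) -/
def w37 : Wd := .mul (.mul (.g .a) (.g .c)) (.inv (.pow (.mul (.g .u) (.g .s)) 3))

theorem ck37 : Nat.beq (evN false w37) (evN false .one) = true := by decide +kernel

/-- relator 38: (a * c) * (((u⁻¹ * s⁻¹ * u * s) ^ 4)⁻¹) -/
def w38 : Wd := .mul (.mul (.g .a) (.g .c)) (.inv (.pow (.mul (.mul (.mul (.inv (.g .u)) (.inv (.g .s))) (.g .u)) (.g .s)) 4))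

theorem ck38 : Nat.beq (evN false w38) (evN false .one) = true := by decide +kernel

/-- relator 39: ((d * ((s ^ 2)⁻¹ * u * (s ^ 2))) ^ 4) * ((a * c * (d⁻¹ * c * d) * ((d * e * (s⁻¹))⁻¹ * c * (d * e * (s⁻¹))) * ((d * e * (s ^ 2))⁻¹ * c * (d * e * (s ^ 2))))⁻¹) -/
def w39 : Wd := .mul (.pow (.mul (.g .d) (.mul (.mul (.inv (.pow (.g .s) 2)) (.g .u)) (.pow (.g .s) 2))) 4) (.inv (.mul (.mul (.mul (.mul (.g .a) (.g .c)) (.mul (.mul (.inv (.g .d)) (.g .c)) (.g .d))) (.mul (.mul (.inv (.mul (.mul (.g .d) (.g .e)) (.inv (.g .s)))) (.g .c)) (.mul (.mul (.g .d) (.g .e)) (.inv (.g .s))))) (.mul (.mul (.inv (.mul (.mul (.g .d) (.g .e)) (.pow (.g .s) 2))) (.g .c)) (.mul (.mul (.g .d) (.g .e)) (.pow (.g .s) 2)))))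

theorem ck39 : Nat.beq (evN false w39) (evN false .one) = true := by decide +kernel

/-- all relators -/
def ws : List Wd := [w1, w2, w3, w4, w5, w6, w7, w8, w9, w10, w11, w12, w13, w14, w15, w16, w17, w18, w19, w20, w21, w22, w23, w24, w25, w26, w27, w28, w29, w30, w31, w32, w33, w34, w35, w36, w37, w38, w39]

theorem ws_one : ∀ w ∈ ws, evG w = 1 := by
  intro w hw
  simp only [ws, List.mem_cons, List.not_mem_nil, or_false] at hw
  rcases hw with rfl | rfl | rfl | rfl | rfl | rfl | rfl | rfl | rfl | rfl | rfl | rfl | rfl | rfl | rfl | rfl | rfl | rfl | rfl | rfl | rfl | rfl | rfl | rfl | rfl | rfl | rfl | rfl | rfl | rfl | rfl | rfl | rfl | rfl | rfl | rfl | rfl | rfl | rfl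

  · exact evG_eq ck1
  · exact evG_eq ck2
  · exact evG_eq ck3
  · exact evG_eq ck4
  · exact evG_eq ck5
  · exact evG_eq ck6
  · exact evG_eq ck7
  · exact evG_eq ck8
  · exact evG_eq ck9
  · exact evG_eq ck10
  · exact evG_eq ck11
  · exact evG_eq ck12
  · exact evG_eq ck13
  · exact evG_eq ck14
  · exact evG_eq ck15
  · exact evG_eq ck16
  · exact evG_eq ck17
  · exact evG_eq ck18
  · exact evG_eq ck19
  · exact evG_eq ck20
  · exact evG_eq ck21
  · exact evG_eq ck22
  · exact evG_eq ck23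
  · exact evG_eq ck24
  · exact evG_eq ck25
  · exact evG_eq ck26
  · exact evG_eq ck27
  · exact evG_eq ck28
  · exact evG_eq ck29
  · exact evG_eq ck30
  · exact evG_eq ck31
  · exact evG_eq ck32
  · exact evG_eq ck33
  · exact evG_eq ck34
  · exact evG_eq ck35
  · exact evG_eq ck36
  · exact evG_eq ck37
  · exact evG_eq ck38
  · exact evG_eq ck39

/-- image of a presentation generator -/
noncomputable def gen : Cfsg.Spor.Th.Gen → GL (Fin 248) (ZMod 3)
  | .a => gl .a
  | .b => gl .b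
  | .c => gl .c
  | .d => gl .d
  | .e => gl .e
  | .s => gl .s
  | .t => gl .t
  | .u => gl .u

/-- a letter as an element of the free group -/
def toF : Lt → FreeGroup Cfsg.Spor.Th.Gen
  | .a => Cfsg.Spor.Th.a
  | .b => Cfsg.Spor.Th.b
  | .c => Cfsg.Spor.Th.c
  | .d => Cfsg.Spor.Th.d
  | .e => Cfsg.Spor.Th.e
  | .s => Cfsg.Spor.Th.s
  | .t => Cfsg.Spor.Th.t
  | .u => Cfsg.Spor.Th.u
  | .S => (Cfsg.Spor.Th.s)⁻¹
  | .T => (Cfsg.Spor.Th.t)⁻¹
  | .U => (Cfsg.Spor.Th.u)⁻¹

/-- a word as an element of the free group -/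
def toFree : Wd → FreeGroup Cfsg.Spor.Th.Gen
  | .one => 1
  | .g l => toF l
  | .mul x y => toFree x * toFree y
  | .inv x => (toFree x)⁻¹
  | .pow x n => toFree x ^ n

theorem lift_toF (l : Lt) : FreeGroup.lift gen (toF l) = gl l := by
  cases l <;> simp [toF, gen, FreeGroup.lift_apply_of] <;> exact (gl_linv _).symm

theorem lift_toFree (w : Wd) : FreeGroup.lift gen (toFree w) = evG w := by
  induction w with
  | one => exact map_one _
  | g l => exact lift_toF l
  | mul x y hx hy =>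
    change FreeGroup.lift gen (toFree x * toFree y) = evG x * evG y
    rw [map_mul, hx, hy]
  | inv x hx =>
    change FreeGroup.lift gen (toFree x)⁻¹ = (evG x)⁻¹
    rw [map_inv, hx]
  | pow x n hx =>
    change FreeGroup.lift gen (toFree x ^ n) = evG x ^ n
    rw [map_pow, hx]

theorem extra_eq : Cfsg.Spor.Th.extra = ws.map toFree := rfl

theorem rel_one : ∀ r ∈ Cfsg.Spor.coxRelators Cfsg.Spor.Th.edges ∪ {r | r ∈ Cfsg.Spor.Th.extra},
    FreeGroup.lift gen r = 1 := by
  rintro r (hr | hr)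
  · obtain ⟨x, hx, -⟩ := hr
    exact absurd hx (by simp [Cfsg.Spor.coxNodes, Cfsg.Spor.Th.edges])
  · have hr' : r ∈ Cfsg.Spor.Th.extra := hr
    rw [extra_eq, List.mem_map] at hr'
    obtain ⟨w, hw, rfl⟩ := hr'
    rw [lift_toFree]
    exact ws_one w hw

/-- the 248-dimensional representation over F_3 of the presented Thompson group -/
noncomputable def rho : Cfsg.Spor.Th →* GL (Fin 248) (ZMod 3) := PresentedGroup.toGroup rel_one

theorem rho_of (x : Cfsg.Spor.Th.Gen) : rho (PresentedGroup.of x) = gen x := PresentedGroup.toGroup.of rel_one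

theorem rho_mk (w : Wd) : rho (PresentedGroup.mk _ (toFree w)) = evG w := by
  rw [← lift_toFree]
  rfl

end Cfsg.Agent.Th.Hom248
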