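/-
Simplicity of the presented Thompson group from its order, the faithfulness of the 248-dimensional representation and
the triviality of its centre (coprime action of an element of order 19).
-/
import Cfsg.Agent.Th.Hom248
import Cfsg.Agent.Th.Base
import Cfsg.Agent.Lib.SimpleByPrime

set_option autoImplicit false
set_option maxHeartbeats 400000

namespace Cfsg.Agent.Th.Simple19

open Cfsg.Agent.Th.Base hiding gen
open Cfsg.Agent.Th.Gen248
open Cfsg.Agent.Th.Hom248 hiding gen

/-- `t = 1` kills everything -/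
theorem rel_trivial {G : Type*} [Group G] {a b c d e s t u : G} (h : Rel a b c d e s t u) (ht : t = 1) :
    a = 1 ∧ b = 1 ∧ c = 1 ∧ d = 1 ∧ e = 1 ∧ s = 1 ∧ t = 1 ∧ u = 1 := by
  have cube : ∀ {x : G}, x ^ 2 = 1 → x ^ 3 = 1 → x = 1 := by
    intro x h2 h3
    calc x = x ^ 3 * (x ^ 2)⁻¹ := by group
      _ = 1 := by rw [h2, h3]; group
  subst ht
  have hs : s = 1 := by
    have h1 := h.K.st
    have h2 : (1 : G)⁻¹ * s * 1 * (s ^ 2)⁻¹ = s⁻¹ := by group
    rw [h2] at h1
    exact inv_eq_one.mp h1
  subst hs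
  have he : e = 1 := by
    have h1 := h.K.es
    have h2 : e⁻¹ * (1 : G)⁻¹ * e * 1 * (((1 : G) ^ 3)⁻¹ * e * 1 ^ 3)⁻¹ = e⁻¹ := by group
    rw [h2] at h1
    exact inv_eq_one.mp h1
  subst he
  have hd : d = 1 := by
    have h1 := h.K.de3
    rw [mul_one] at h1
    exact cube h.K.d2 h1
  subst hd
  have ha : a = 1 := by
    have h1 := h.K.acd
    have h2 : (c * 1) ^ 4 = (c ^ 2) ^ 2 := by rw [mul_one, ← pow_mul]
    rw [h2, h.K.c2] at h1
    simpa using h1
  subst ha
  have hb : b = 1 := by
    have h1 := h.K.ab3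
    rw [one_mul] at h1
    exact cube h.K.b2 h1
  subst hb
  have hc : c = 1 := by
    have h1 := h.K.bc3
    rw [one_mul] at h1
    exact cube h.K.c2 h1
  subst hc
  have hu2 : u ^ 2 = 1 := by
    have h1 := h.C.u2
    simpa using h1
  have hu3 : u ^ 3 = 1 := by
    have h1 := h.C.us3
    simpa using h1
  exact ⟨rfl, rfl, rfl, rfl, rfl, rfl, rfl, cube hu2 hu3⟩

theorem Rel_map {G H : Type*} [Group G] [Group H] (f : G →* H) {a b c d e s t u : G} (h : Rel a b c d e s t u) :
    Rel (f a) (f b) (f c) (f d) (f e) (f s) (f t) (f u) := by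
  constructor
  · constructor <;> rw [← map_one f]
    · rw [← h.K.a2]; simp only [map_mul, map_inv, map_pow]
    · rw [← h.K.b2]; simp only [map_mul, map_inv, map_pow]
    · rw [← h.K.c2]; simp only [map_mul, map_inv, map_pow]
    · rw [← h.K.d2]; simp only [map_mul, map_inv, map_pow]
    · rw [← h.K.e2]; simp only [map_mul, map_inv, map_pow]
    · rw [← h.K.ab3]; simp only [map_mul, map_inv, map_pow]
    · rw [← h.K.ae2]; simp only [map_mul, map_inv, map_pow]
    · rw [← h.K.bc3]; simp only [map_mul, map_inv, map_pow]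
    · rw [← h.K.bd2]; simp only [map_mul, map_inv, map_pow]
    · rw [← h.K.be2]; simp only [map_mul, map_inv, map_pow]
    · rw [← h.K.acd]; simp only [map_mul, map_inv, map_pow]
    · rw [← h.K.ce2]; simp only [map_mul, map_inv, map_pow]
    · rw [← h.K.de3]; simp only [map_mul, map_inv, map_pow]
    · rw [← h.K.bcde]; simp only [map_mul, map_inv, map_pow]
    · rw [← h.K.s7]; simp only [map_mul, map_inv, map_pow]
    · rw [← h.K.sa]; simp only [map_mul, map_inv, map_pow]
    · rw [← h.K.sb]; simp only [map_mul, map_inv, map_pow]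
    · rw [← h.K.sc]; simp only [map_mul, map_inv, map_pow]
    · rw [← h.K.sd2]; simp only [map_mul, map_inv, map_pow]
    · rw [← h.K.es]; simp only [map_mul, map_inv, map_pow]
    · rw [← h.K.t3]; simp only [map_mul, map_inv, map_pow]
    · rw [← h.K.ta]; simp only [map_mul, map_inv, map_pow]
    · rw [← h.K.tb]; simp only [map_mul, map_inv, map_pow]
    · rw [← h.K.tc]; simp only [map_mul, map_inv, map_pow]
    · rw [← h.K.td]; simp only [map_mul, map_inv, map_pow]
    · rw [← h.K.te]; simp only [map_mul, map_inv, map_pow]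
    · rw [← h.K.st]; simp only [map_mul, map_inv, map_pow]
  · constructor <;> rw [← map_one f]
    · rw [← h.C.a2]; simp only [map_mul, map_inv, map_pow]
    · rw [← h.C.c2]; simp only [map_mul, map_inv, map_pow]
    · rw [← h.C.d2]; simp only [map_mul, map_inv, map_pow]
    · rw [← h.C.e2]; simp only [map_mul, map_inv, map_pow]
    · rw [← h.C.ae2]; simp only [map_mul, map_inv, map_pow]
    · rw [← h.C.acd]; simp only [map_mul, map_inv, map_pow]
    · rw [← h.C.ce2]; simp only [map_mul, map_inv, map_pow]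
    · rw [← h.C.de3]; simp only [map_mul, map_inv, map_pow]
    · rw [← h.C.s7]; simp only [map_mul, map_inv, map_pow]
    · rw [← h.C.sa]; simp only [map_mul, map_inv, map_pow]
    · rw [← h.C.sc]; simp only [map_mul, map_inv, map_pow]
    · rw [← h.C.sd2]; simp only [map_mul, map_inv, map_pow]
    · rw [← h.C.es]; simp only [map_mul, map_inv, map_pow]
    · rw [← h.C.t3]; simp only [map_mul, map_inv, map_pow]
    · rw [← h.C.ta]; simp only [map_mul, map_inv, map_pow]
    · rw [← h.C.tc]; simp only [map_mul, map_inv, map_pow]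
    · rw [← h.C.td]; simp only [map_mul, map_inv, map_pow]
    · rw [← h.C.te]; simp only [map_mul, map_inv, map_pow]
    · rw [← h.C.st]; simp only [map_mul, map_inv, map_pow]
    · rw [← h.C.u2]; simp only [map_mul, map_inv, map_pow]
    · rw [← h.C.ua]; simp only [map_mul, map_inv, map_pow]
    · rw [← h.C.uc]; simp only [map_mul, map_inv, map_pow]
    · rw [← h.C.ue]; simp only [map_mul, map_inv, map_pow]
    · rw [← h.C.dedu]; simp only [map_mul, map_inv, map_pow]
    · rw [← h.C.tu]; simp only [map_mul, map_inv, map_pow]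
    · rw [← h.C.eus]; simp only [map_mul, map_inv, map_pow]
    · rw [← h.C.us3]; simp only [map_mul, map_inv, map_pow]
    · rw [← h.C.us4]; simp only [map_mul, map_inv, map_pow]
    · rw [← h.C.dus]; simp only [map_mul, map_inv, map_pow]
  · rw [← map_one f, ← h.r1]; simp only [map_mul, map_inv, map_pow]
  · rw [← map_one f, ← h.r2]; simp only [map_mul, map_inv, map_pow]

theorem mem_of_quot {G : Type*} [Group G] (N : Subgroup G) [N.Normal] {x : G}
    (h : (QuotientGroup.mk' N) x = 1) : x ∈ N := by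
  rwa [← MonoidHom.mem_ker, QuotientGroup.ker_mk'] at h

/-- the normal closure of `t⁻¹` is everything -/
theorem normal_top (N : Subgroup Cfsg.Spor.Th) [N.Normal] (ht : (Base.gen .t)⁻¹ ∈ N) : N = ⊤ := by
  have h1 := Rel_map (QuotientGroup.mk' N) rel_th
  have ht' : Base.gen .t ∈ N := by simpa using N.inv_mem ht
  have h2 : (QuotientGroup.mk' N) (Base.gen .t) = 1 := by
    rw [← MonoidHom.mem_ker, QuotientGroup.ker_mk']; exact ht'
  obtain ⟨ha, hb, hc, hd, he, hs, -, hu⟩ := rel_trivial h1 h2
  rw [eq_top_iff, ← PresentedGroup.closure_range_of, Subgroup.closure_le]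
  rintro x ⟨y, rfl⟩
  cases y
  · exact mem_of_quot N ha
  · exact mem_of_quot N hb
  · exact mem_of_quot N hc
  · exact mem_of_quot N hd
  · exact mem_of_quot N he
  · exact mem_of_quot N hs
  · exact ht'
  · exact mem_of_quot N hu

/-- an element of order 19 -/
def w1 : Wd := .mul (.mul (.mul (.mul (.mul (.mul (.mul (.g .b) (.g .S)) (.g .e)) (.g .a)) (.g .b)) (.g .c)) (.g .u)) (.g .d)

/-- another one -/
def w2 : Wd := .mul w1 (.g .T)

/-- 19th power -/
def p19 (w : Wd) : Wd := .mul (.pow (.pow (.pow w 2) 3) 3) w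

set_option maxRecDepth 100000 in
theorem w1_19 : Nat.beq (evN false (p19 w1)) (evN false .one) = true := by decide +kernel

set_option maxRecDepth 100000 in
theorem w2_19 : Nat.beq (evN false (p19 w2)) (evN false .one) = true := by decide +kernel

set_option maxRecDepth 100000 in
theorem w1_ne : Nat.beq (evN false w1) (evN false .one) = false := by decide +kernel

set_option maxRecDepth 100000 in
theorem w2_ne : Nat.beq (evN false w2) (evN false .one) = false := by decide +kernel

theorem order19 (hinj : Function.Injective Hom248.rho) {w : Wd}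
    (h : Nat.beq (evN false (p19 w)) (evN false .one) = true) (hne : Nat.beq (evN false w) (evN false .one) = false) :
    orderOf (PresentedGroup.mk (Cfsg.Spor.coxRelators Cfsg.Spor.Th.edges ∪ {r | r ∈ Cfsg.Spor.Th.extra})
      (toFree w) : Cfsg.Spor.Th) = 19 := by
  have : Fact (Nat.Prime 19) := ⟨by norm_num⟩
  apply orderOf_eq_prime
  · apply hinj
    rw [map_pow, rho_mk, map_one]
    have h1 := evG_eq h
    have h2 : evG (p19 w) = ((evG w ^ 2) ^ 3) ^ 3 * evG w := rfl
    have h3 : evG .one = 1 := rfl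
    rw [h2, h3, ← pow_mul, ← pow_mul, ← pow_succ] at h1
    exact h1
  · intro h0
    have h1 := congrArg Hom248.rho h0
    rw [rho_mk, map_one] at h1
    exact evG_ne hne h1

theorem isSimple (hinj : Function.Injective Hom248.rho) (hcard : Nat.card Cfsg.Spor.Th = 90745943887872000)
    (hZ : Subgroup.center Cfsg.Spor.Th = ⊥) : IsSimpleGroup Cfsg.Spor.Th := by
  have hfin : Finite Cfsg.Spor.Th := Nat.finite_of_card_ne_zero (by rw [hcard]; norm_num)
  have o1 := order19 hinj w1_19 w1_ne
  have o2 := order19 hinj w2_19 w2_ne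
  have hmk : (PresentedGroup.mk (Cfsg.Spor.coxRelators Cfsg.Spor.Th.edges ∪ {r | r ∈ Cfsg.Spor.Th.extra})
      (toFree w2) : Cfsg.Spor.Th) = PresentedGroup.mk _ (toFree w1) * (Base.gen .t)⁻¹ := rfl
  rw [hmk] at o2
  set w : Cfsg.Spor.Th := PresentedGroup.mk (Cfsg.Spor.coxRelators Cfsg.Spor.Th.edges ∪
    {r | r ∈ Cfsg.Spor.Th.extra}) (toFree w1) with hw
  have hconj : ∀ x y : Cfsg.Spor.Th, orderOf (x * y * x⁻¹) = orderOf y := by
    intro x y
    have := (MulAut.conj x).orderOf_eq y
    simpa using this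
  apply Cfsg.Agent.Lib.SimpleByPrime.isSimpleGroup_of_prime_list 19 (by norm_num)
    [(2, 15), (3, 10), (5, 3), (7, 2), (13, 1), (31, 1)]
    (by rw [hcard]; norm_num)
    (by
      intro q hq
      simp only [List.mem_cons, List.not_mem_nil, or_false] at hq
      rcases hq with rfl | rfl | rfl | rfl | rfl | rfl <;> norm_num)
    (by decide) (by decide)
    (Group.conjugatesOfSet {(Base.gen .t)⁻¹})
  · exact normal_top (Subgroup.normalClosure {(Base.gen .t)⁻¹}) (Subgroup.subset_normalClosure rfl)
  · intro s hs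
    rw [Group.mem_conjugatesOfSet_iff] at hs
    obtain ⟨z, hz, hzs⟩ := hs
    rw [Set.mem_singleton_iff] at hz
    subst hz
    rw [isConj_iff] at hzs
    obtain ⟨g, rfl⟩ := hzs
    refine ⟨g * w * g⁻¹, ?_, ?_⟩
    · rw [hconj]; exact o1
    · have : g * w * g⁻¹ * (g * (Base.gen .t)⁻¹ * g⁻¹) = g * (w * (Base.gen .t)⁻¹) * g⁻¹ := by group
      rw [this, hconj]; exact o2
  · exact hZ

end Cfsg.Agent.Th.Simple19
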