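import Cfsg.Agent.Th.CStruct

/-!
Structure of `C`: the extraspecial subgroup contains its centraliser.
-/

set_option autoImplicit false
set_option maxRecDepth 100000

namespace Cfsg.Agent.Th.CStructCent

open Cfsg.Agent.Th.Base Cfsg.Agent.Th.Word Cfsg.Agent.Th.RelWords Cfsg.Agent.Th.PermTab
  Cfsg.Agent.Th.KOracle Cfsg.Agent.Th.KPerm Cfsg.Agent.Th.NineAct Cfsg.Agent.Th.CStruct

universe u

variable {G : Type u} [Group G] {γ : ℕ → G}

/-- elements of `Q0` act on `c_i` up to `a` -/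
theorem Q0_act (hγ : InvCompat γ) (hK : RelK (γ 1) (γ 2) (γ 3) (γ 4) (γ 5) (γ 6) (γ 8)) (i : Fin 9)
    {q : G} (hq : q ∈ Q0 γ) : q * cc γ i * q⁻¹ = cc γ i ∨ q * cc γ i * q⁻¹ = γ 1 * cc γ i := by
  have ha2 := a_sq hγ hK
  have haz : ∀ q ∈ Q0 γ, q * γ 1 = γ 1 * q := by
    intro q hq
    refine Subgroup.closure_induction (p := fun q _ => q * γ 1 = γ 1 * q) ?_ ?_ ?_ ?_ hq
    · rintro y (rfl | ⟨j, rfl⟩)
      · rfl
      · exact (cc_a hγ hK j).symm
    · rw [one_mul, mul_one]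
    · intro x y _ _ hx hy
      rw [mul_assoc, hy, ← mul_assoc, hx, mul_assoc]
    · intro x _ hx
      calc x⁻¹ * γ 1 = x⁻¹ * (γ 1 * x) * x⁻¹ := by group
        _ = x⁻¹ * (x * γ 1) * x⁻¹ := by rw [hx]
        _ = γ 1 * x⁻¹ := by group
  refine Subgroup.closure_induction
    (p := fun q _ => q * cc γ i * q⁻¹ = cc γ i ∨ q * cc γ i * q⁻¹ = γ 1 * cc γ i) ?_ ?_ ?_ ?_ hq
  · rintro y (rfl | ⟨j, rfl⟩)
    · left
      rw [cc_a hγ hK i, mul_inv_cancel_right]
    · by_cases hij : j = i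
      · subst hij
        left
        rw [mul_inv_cancel_right]
      · right
        rw [cc_comm hγ hK j i hij]
        group
  · left
    group
  · intro x y hxm hym hx hy
    have hxa := haz x hxm
    have e : x * y * cc γ i * (x * y)⁻¹ = x * (y * cc γ i * y⁻¹) * x⁻¹ := by group
    rw [e]
    rcases hy with h | h <;> rw [h]
    · exact hx
    · have e2 : x * (γ 1 * cc γ i) * x⁻¹ = γ 1 * (x * cc γ i * x⁻¹) := by
        calc x * (γ 1 * cc γ i) * x⁻¹ = (x * γ 1) * cc γ i * x⁻¹ := by group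
          _ = γ 1 * x * cc γ i * x⁻¹ := by rw [hxa]
          _ = _ := by group
      rw [e2]
      rcases hx with h' | h' <;> rw [h']
      · exact Or.inr rfl
      · left
        rw [← mul_assoc, ha2, one_mul]
  · intro x hxm hx
    have hxa := haz x hxm
    rcases hx with h | h
    · left
      calc x⁻¹ * cc γ i * x⁻¹⁻¹ = x⁻¹ * (x * cc γ i * x⁻¹) * x := by rw [h]; group
        _ = cc γ i := by group
    · right
      have h2 : cc γ i = γ 1 * (x⁻¹ * cc γ i * x) := by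
        calc cc γ i = x⁻¹ * (x * cc γ i * x⁻¹) * x := by group
          _ = x⁻¹ * (γ 1 * cc γ i) * x := by rw [h]
          _ = x⁻¹ * (γ 1 * x) * (x⁻¹ * cc γ i * x) := by group
          _ = x⁻¹ * (x * γ 1) * (x⁻¹ * cc γ i * x) := by rw [hxa]
          _ = γ 1 * (x⁻¹ * cc γ i * x) := by group
      calc x⁻¹ * cc γ i * x⁻¹⁻¹ = (γ 1 * γ 1) * (x⁻¹ * cc γ i * x) := by rw [ha2, inv_inv, one_mul]
        _ = γ 1 * (γ 1 * (x⁻¹ * cc γ i * x)) := by group
        _ = γ 1 * cc γ i := by rw [← h2]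

theorem move_check : act9 4 0 = 1 := by decide +kernel

/-- structure of `C` -/
theorem main (hγ : InvCompat γ) (hK : RelK (γ 1) (γ 2) (γ 3) (γ 4) (γ 5) (γ 6) (γ 8))
    (hC : RelC (γ 1) (γ 3) (γ 4) (γ 5) (γ 6) (γ 8) (γ 10))
    (hcardK : Nat.card (sub γ isK) = 634023936) (hcardC : Nat.card (sub γ isC) = 92897280)
    (ha : γ 1 ≠ 1) :
    ∃ (Q : Subgroup (sub γ isC)) (_ : Q.Normal), Nat.card Q = 2 ^ 9 ∧ Cfsg.IsExtraspecial 2 Q ∧
      Subgroup.centralizer (Q : Set (sub γ isC)) ≤ Q ∧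
      Nonempty (sub γ isC ⧸ Q ≃* alternatingGroup (Fin 9)) := by
  obtain ⟨φ, hφ, hφ2⟩ := exists_hom9 hγ hC hcardC
  have hfinC : Finite (sub γ isC) := Nat.finite_of_card_ne_zero (by rw [hcardC]; norm_num)
  have hBC : sub γ isB ≤ sub γ isC := by
    unfold sub
    apply Subgroup.closure_mono
    rintro g ⟨x, hx, rfl⟩
    exact ⟨x, isC_of_isB hx, rfl⟩
  have hQC : Q0 γ ≤ sub γ isC := Q0_le_B.trans hBC
  -- order of the kernel
  have hker : Nat.card φ.ker = 512 := by
    have h1 := Subgroup.card_mul_index φ.ker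
    have h2 : φ.ker.index = 181440 := by
      rw [Subgroup.index_ker, hφ, nat_card_alternatingGroup, Nat.card_eq_fintype_card, Fintype.card_fin]
      decide
    rw [h2, hcardC] at h1
    omega
  have hle : (Q0 γ).subgroupOf (sub γ isC) ≤ φ.ker := by
    rintro ⟨y, hy⟩ hyQ
    rw [Subgroup.mem_subgroupOf] at hyQ
    have hyQ : y ∈ Q0 γ := hyQ
    -- the preimage of the kernel contains the generators
    have h1 : Q0 γ ≤ φ.ker.map (sub γ isC).subtype := by
      unfold Q0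
      rw [Subgroup.closure_le]
      have key : ∀ (w : List ℕ) (hw : ∀ x ∈ w, isC x = true), (∀ p < 9, tr act9 w p = p) →
          ev γ w ∈ φ.ker.map (sub γ isC).subtype := by
        intro w hw hp
        refine ⟨⟨ev γ w, ev_mem_sub hw⟩, ?_, rfl⟩
        rw [SetLike.mem_coe, MonoidHom.mem_ker, hφ2 w hw]
        exact ev_rho_eq_one isTab9 hw hp
      rintro z (rfl | ⟨i, rfl⟩)
      · have := key [1] (by decide +kernel) (by decide +kernel)
        rwa [ev_singleton] at this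
      · refine key (wc i) (fun x hx => isC_of_isB ((allL_iff _ _).mp ((allB_iff _ _).mp K_check i i.2) x hx)) ?_
        intro p hp
        exact Nat.eq_of_beq_eq_true ((allB_iff _ _).mp ((allB_iff _ _).mp nine_check i i.2) p hp)
    obtain ⟨z, hz, hzy⟩ := h1 hyQ
    have : (⟨y, hy⟩ : sub γ isC) = z := Subtype.ext hzy.symm
    rw [this]; exact hz
  have hcQ : Nat.card ((Q0 γ).subgroupOf (sub γ isC)) = Nat.card (Q0 γ) :=
    Nat.card_congr (Subgroup.subgroupOfEquivOfLe hQC).toEquiv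
  have hge := card_Q0_ge hγ hK hcardK
  have heq : (Q0 γ).subgroupOf (sub γ isC) = φ.ker := by
    apply Subgroup.eq_of_le_of_card_ge hle
    rw [hker, hcQ]; exact hge
  have hQ512 : Nat.card (Q0 γ) = 512 := by rw [← hcQ, heq, hker]
  let e9 : sub γ isC ⧸ φ.ker ≃* alternatingGroup (Fin 9) :=
    (QuotientGroup.quotientKerEquivRange φ).trans (MulEquiv.subgroupCongr hφ)
  refine ⟨φ.ker, inferInstance, by rw [hker]; norm_num, ?_, ?_, ⟨e9⟩⟩
  · have hex : Cfsg.IsExtraspecial 2 (Q0 γ) := NineExtra.isExtraspecial (nineData hγ hK ha) hQ512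
    have : Finite (Q0 γ) := Nat.finite_of_card_ne_zero (by rw [hQ512]; norm_num)
    rw [← heq]
    exact J2.ExtQuot.isExtraspecial_of_equiv (Subgroup.subgroupOfEquivOfLe hQC).symm hex
  · -- the centraliser
    have hsimp : IsSimpleGroup (alternatingGroup (Fin 9)) :=
      alternatingGroup.isSimpleGroup (by simp)
    have hsimp' : IsSimpleGroup (sub γ isC ⧸ φ.ker) := (MulEquiv.isSimpleGroup_congr e9).2 hsimp
    set D := Subgroup.centralizer (φ.ker : Set (sub γ isC)) with hD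
    have hDn : (D.map (QuotientGroup.mk' φ.ker)).Normal :=
      (inferInstance : D.Normal).map _ (QuotientGroup.mk'_surjective _)
    rcases hDn.eq_bot_or_eq_top with h | h
    · rwa [Subgroup.map_eq_bot_iff, QuotientGroup.ker_mk'] at h
    · exfalso
      have m4 : γ 4 ∈ sub γ isC := Subgroup.subset_closure ⟨4, by decide, rfl⟩
      have h1 : ((⟨γ 4, m4⟩ : sub γ isC) : sub γ isC ⧸ φ.ker) ∈ D.map (QuotientGroup.mk' φ.ker) := by
        rw [h]; trivial
      obtain ⟨d, hd, hd2⟩ := h1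
      have h2 : (d : sub γ isC ⧸ φ.ker) = ((⟨γ 4, m4⟩ : sub γ isC) : sub γ isC ⧸ φ.ker) := hd2
      rw [QuotientGroup.eq, ← heq, Subgroup.mem_subgroupOf] at h2
      -- `γ 4 = d q` with `q ∈ Q0`
      have h3 : (d : G)⁻¹ * γ 4 ∈ Q0 γ := h2
      set q := (d : G)⁻¹ * γ 4 with hq
      have e4 : γ 4 = d * q := by rw [hq]; group
      have c0 : cc γ 0 ∈ Q0 γ := Subgroup.subset_closure (Or.inr ⟨0, rfl⟩)
      have h5 : (⟨cc γ 0, hQC c0⟩ : sub γ isC) ∈ φ.ker := by
        rw [← heq, Subgroup.mem_subgroupOf]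
        exact c0
      have h6 : (d : G) * cc γ 0 = cc γ 0 * d := by
        have := (Subgroup.mem_centralizer_iff.1 hd) _ h5
        exact (congrArg Subtype.val this).symm
      have h7 : (γ 4)⁻¹ * cc γ 0 * γ 4 = cc γ 1 := cc_conj hγ hK 0 (by simp) 1 move_check.symm
      have h8 : q⁻¹ * cc γ 0 * q⁻¹⁻¹ = cc γ 1 := by
        rw [← h7, e4, inv_inv]
        calc q⁻¹ * cc γ 0 * q = q⁻¹ * (d : G)⁻¹ * (d * cc γ 0) * q := by group
          _ = q⁻¹ * (d : G)⁻¹ * (cc γ 0 * d) * q := by rw [h6]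
          _ = _ := by group
      have h9 := Q0_act hγ hK 0 (Subgroup.inv_mem _ h3)
      rw [h8] at h9
      have h10 := cc_comm hγ hK 0 1 (by decide)
      have haa := cc_a hγ hK 0
      rcases h9 with h9 | h9 <;> rw [h9] at h10
      · exact ha (mul_eq_right.1 h10.symm)
      · apply ha
        have e1 : cc γ 0 * (γ 1 * cc γ 0) = γ 1 * (cc γ 0 * cc γ 0) := by
          calc cc γ 0 * (γ 1 * cc γ 0) = (cc γ 0 * γ 1) * cc γ 0 := by group
            _ = (γ 1 * cc γ 0) * cc γ 0 := by rw [haa]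
            _ = _ := by group
        have e2 : γ 1 * cc γ 0 * cc γ 0 = γ 1 * (cc γ 0 * cc γ 0) := by group
        rw [e1, e2] at h10
        exact mul_eq_right.1 h10.symm

end Cfsg.Agent.Th.CStructCent
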