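import Cfsg.Prelude.Def_Sporadic
import Cfsg.Agent.Th.CenterTh
import Cfsg.Agent.Th.CoverMain
import Cfsg.Agent.Th.Simple19
import Cfsg.Agent.Th.Lower

/-!
The presented Thompson group is simple of order 90745943887872000.
-/

set_option autoImplicit false

namespace Cfsg.Agent.Th.Main1700

open Cfsg.Agent.Th.Base Cfsg.Agent.Th.Word Cfsg.Agent.Th.KOracle Cfsg.Agent.Th.IndexUpper

theorem final : Finite Cfsg.Spor.Th ∧ Nat.card Cfsg.Spor.Th = 90745943887872000 ∧
    Nat.card (sub gTh isK) = 634023936 ∧ (sub gTh isK).index = 143127000 := by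
  obtain ⟨g, hN, -⟩ := CoverMain.nodesTh
  exact IndexUpper.final hN Lower.hlow

theorem center_eq_bot : Subgroup.center Cfsg.Spor.Th = ⊥ := by
  obtain ⟨g, hN, -⟩ := CoverMain.nodesTh
  exact CenterTh.center_Th hN Lower.hlow

theorem rho_injective : Function.Injective Hom248.rho := by
  obtain ⟨hf, hc, -, -⟩ := final
  have h1 : Nat.card Hom248.rho.range = Nat.card Cfsg.Spor.Th := by
    apply le_antisymm
    · exact Nat.card_le_card_of_surjective Hom248.rho.rangeRestrict Hom248.rho.rangeRestrict_surjective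
    · rw [hc]; exact Lower.card_range_ge
  have h2 : Function.Bijective Hom248.rho.rangeRestrict :=
    (Nat.bijective_iff_surjective_and_card _).mpr ⟨Hom248.rho.rangeRestrict_surjective, h1.symm⟩
  intro x y hxy
  apply h2.1
  exact Subtype.ext hxy

theorem isTh : Cfsg.IsTh Cfsg.Spor.Th :=
  ⟨Simple19.isSimple rho_injective final.2.1 center_eq_bot, final.2.1⟩

end Cfsg.Agent.Th.Main1700
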