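import Cfsg.Agent.Th.CertTools
import Cfsg.Agent.Th.CertLAll
import Cfsg.Agent.Th.CertBAll
import Cfsg.Agent.Th.CertKAll
import Cfsg.Agent.Th.CertCAll
import Cfsg.Agent.Th.CertZAll

/-!
Upper bounds for the orders of the subgroups `L = ⟨d,e,s,t⟩`, `B = ⟨a,c,d,e,s,t⟩`,
`K = ⟨a,b,c,d,e,s,t⟩`, `C = ⟨a,c,d,e,s,t,u⟩` of a group satisfying the relations of the presented Thompson
group: `|L| ≤ 1512`, `|B| ≤ 774144`, `|K| ≤ 634023936`, `|C| ≤ 92897280`.
-/

set_option autoImplicit false
set_option maxRecDepth 100000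
set_option linter.unusedSectionVars false

namespace Cfsg.Agent.Th.Bounds

open Cfsg.Agent.SporadicRecognition.CosetCert Cfsg.Agent.SporadicRecognition.CosetCertHyp
  Cfsg.Agent.SporadicRecognition.CosetChain Cfsg.Agent.Th.Base Cfsg.Agent.Th.CertTools
  Cfsg.Agent.Th.CosetTrace

variable {G : Type*} [Group G]

theorem closure_getD (l : List G) (k : Nat) (hk : l.length = k) :
    Subgroup.closure ((fun n => l.getD n 1) '' {x | x < k}) = Subgroup.closure {x | x ∈ l} := by
  congr 1
  ext x
  simp only [Set.mem_image, Set.mem_setOf_eq]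
  constructor
  · rintro ⟨n, hn, rfl⟩
    rw [List.getD_eq_getElem _ _ (hk ▸ hn)]
    exact List.getElem_mem _
  · intro hx
    obtain ⟨n, hn, rfl⟩ := List.getElem_of_mem hx
    exact ⟨n, hk ▸ hn, List.getD_eq_getElem _ _ hn⟩

theorem sq_mul {x : G} (h : x ^ 2 = 1) : x * x = 1 := by rw [← pow_two]; exact h

theorem a2_of_relB {a c d e s t : G} (h : RelB a c d e s t) : a ^ 2 = 1 := h.a2

/-! ### `L` -/

def gL (d e s t : G) : Nat → G := fun n => [d, e, s, s⁻¹, t, t⁻¹].getD n 1

theorem closure_gL (d e s t : G) :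
    Subgroup.closure (gL d e s t '' {x | x < 6}) = Subgroup.closure {d, e, s, t} := by
  unfold gL
  rw [closure_getD _ 6 rfl]
  apply le_antisymm
  · rw [Subgroup.closure_le]
    intro x hx
    simp only [List.mem_cons, List.not_mem_nil, or_false, Set.mem_setOf_eq] at hx
    rcases hx with rfl | rfl | rfl | rfl | rfl | rfl
    · exact Subgroup.subset_closure (by simp)
    · exact Subgroup.subset_closure (by simp)
    · exact Subgroup.subset_closure (by simp)
    · exact Subgroup.inv_mem _ (Subgroup.subset_closure (by simp))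
    · exact Subgroup.subset_closure (by simp)
    · exact Subgroup.inv_mem _ (Subgroup.subset_closure (by simp))
  · apply Subgroup.closure_mono
    intro x hx
    simp only [Set.mem_insert_iff, Set.mem_singleton_iff] at hx
    simp only [List.mem_cons, List.not_mem_nil, or_false, Set.mem_setOf_eq]
    rcases hx with rfl | rfl | rfl | rfl <;> simp

theorem invL {d e s t : G} (h : RelL d e s t) : ∀ x, x < CertLData.C.k → CertLData.C.inv x < CertLData.C.k ∧
    gL d e s t x * gL d e s t (CertLData.C.inv x) = 1 := by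
  intro x hx
  have hx : x < 6 := hx
  interval_cases x
  · exact ⟨by decide, sq_mul h.d2⟩
  · exact ⟨by decide, sq_mul h.e2⟩
  · exact ⟨by decide, mul_inv_cancel s⟩
  · exact ⟨by decide, inv_mul_cancel s⟩
  · exact ⟨by decide, mul_inv_cancel t⟩
  · exact ⟨by decide, inv_mul_cancel t⟩

theorem hypL {d e s t : G} (h : RelL d e s t) : Hyp CertLData.C ⊥ (gL d e s t) :=
  hyp_of_ex (gL d e s t) CertLData.C ⊥ (exL 0 1 2 4) [] rfl (invL h) (by decide)
    (exL_val (gL d e s t) (d := 0) (e := 1) (s := 2) (t := 4) h) (by simp) (by decide +kernel)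

theorem cardL {d e s t : G} (h : RelL d e s t) :
    Finite (Subgroup.closure {d, e, s, t}) ∧ Nat.card (Subgroup.closure {d, e, s, t}) ≤ 1512 := by
  have h1 := card_closure_le CertLData.C ⊥ (gL d e s t) (hypL h) CertLAll.part
  have h2 : Subgroup.closure (gL d e s t '' {x | x < CertLData.C.k}) = Subgroup.closure {d, e, s, t} :=
    closure_gL d e s t
  rw [h2, Subgroup.card_bot, mul_one] at h1
  exact h1

/-! ### `(c d e s)^9 ∈ L` -/

def gK (a b c d e s t : G) : Nat → G := fun n => [a, b, c, d, e, s, s⁻¹, t, t⁻¹].getD n 1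

theorem closure_gK (a b c d e s t : G) :
    Subgroup.closure (gK a b c d e s t '' {x | x < 9}) = Subgroup.closure {a, b, c, d, e, s, t} := by
  unfold gK
  rw [closure_getD _ 9 rfl]
  apply le_antisymm
  · rw [Subgroup.closure_le]
    intro x hx
    simp only [List.mem_cons, List.not_mem_nil, or_false, Set.mem_setOf_eq] at hx
    rcases hx with rfl | rfl | rfl | rfl | rfl | rfl | rfl | rfl | rfl
    · exact Subgroup.subset_closure (by simp)
    · exact Subgroup.subset_closure (by simp)
    · exact Subgroup.subset_closure (by simp)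
    · exact Subgroup.subset_closure (by simp)
    · exact Subgroup.subset_closure (by simp)
    · exact Subgroup.subset_closure (by simp)
    · exact Subgroup.inv_mem _ (Subgroup.subset_closure (by simp))
    · exact Subgroup.subset_closure (by simp)
    · exact Subgroup.inv_mem _ (Subgroup.subset_closure (by simp))
  · apply Subgroup.closure_mono
    intro x hx
    simp only [Set.mem_insert_iff, Set.mem_singleton_iff] at hx
    simp only [List.mem_cons, List.not_mem_nil, or_false, Set.mem_setOf_eq]
    rcases hx with rfl | rfl | rfl | rfl | rfl | rfl | rfl <;> simp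

theorem invK' {a b c d e s t : G} (h : RelK a b c d e s t) (inv : Nat → Nat)
    (hi : ([0, 1, 2, 3, 4, 5, 6, 7, 8].map inv) = [0, 1, 2, 3, 4, 6, 5, 8, 7]) :
    ∀ x, x < 9 → inv x < 9 ∧ gK a b c d e s t x * gK a b c d e s t (inv x) = 1 := by
  simp only [List.map_cons, List.map_nil, List.cons.injEq, and_true] at hi
  obtain ⟨h0, h1, h2, h3, h4, h5, h6, h7, h8⟩ := hi
  intro x hx
  interval_cases x
  · rw [h0]; exact ⟨by decide, sq_mul h.a2⟩
  · rw [h1]; exact ⟨by decide, sq_mul h.b2⟩
  · rw [h2]; exact ⟨by decide, sq_mul h.c2⟩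
  · rw [h3]; exact ⟨by decide, sq_mul h.d2⟩
  · rw [h4]; exact ⟨by decide, sq_mul h.e2⟩
  · rw [h5]; exact ⟨by decide, mul_inv_cancel s⟩
  · rw [h6]; exact ⟨by decide, inv_mul_cancel s⟩
  · rw [h7]; exact ⟨by decide, mul_inv_cancel t⟩
  · rw [h8]; exact ⟨by decide, inv_mul_cancel t⟩

theorem subs_mem (H : Subgroup G) (g : Nat → G) (l : List Nat) (h : ∀ x ∈ l, g x ∈ H) :
    ∀ w ∈ l.map (fun x => [x]), ev g w ∈ H := by
  intro w hw
  obtain ⟨x, hx, rfl⟩ := List.mem_map.mp hw
  rw [ev_cons, ev_nil, mul_one]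
  exact h x hx

theorem hypZ {a b c d e s t : G} (h : RelK a b c d e s t) :
    Hyp CertZData.C (Subgroup.closure {d, e, s, t}) (gK a b c d e s t) := by
  refine hyp_of_ex (gK a b c d e s t) CertZData.C _ (exK 0 1 2 3 4 5 7) ([3, 4, 5, 7].map fun x => [x]) rfl
    (invK' h _ (by decide)) (by decide)
    (exK_val (gK a b c d e s t) (a := 0) (b := 1) (c := 2) (d := 3) (e := 4) (s := 5) (t := 7) h)
    (subs_mem _ _ _ ?_) (by decide +kernel)
  simp only [List.mem_cons, List.not_mem_nil, or_false, forall_eq_or_imp, forall_eq]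
  exact ⟨Subgroup.subset_closure (by simp [gK]), Subgroup.subset_closure (by simp [gK]),
    Subgroup.subset_closure (by simp [gK]), Subgroup.subset_closure (by simp [gK])⟩

/-- `(c d e s)^9` -/
def exz (c d e s : Nat) : Ex := .p (.m (.m (.m (.g c) (.g d)) (.g e)) (.g s)) 9

theorem memZ {a b c d e s t : G} (h : RelK a b c d e s t) :
    (c * d * e * s) ^ 9 ∈ Subgroup.closure {d, e, s, t} := by
  have h1 := mem_of_walk CertZData.C (Subgroup.closure {d, e, s, t}) (gK a b c d e s t) (hypZ h) CertZAll.part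
    268435454 (by decide) ((exz 2 3 4 5).word CertZData.C.inv) (by decide) (by decide +kernel)
  rw [Ex.ev_word (k := 9) (invK' h CertZData.C.inv (by decide)) _
    (lt_of_ltB _ (by decide : ltB 9 (exz 2 3 4 5) = true))] at h1
  exact h1

/-! ### `B` -/

def gB (a c d e s t : G) : Nat → G := fun n => [a, c, d, e, s, s⁻¹, t, t⁻¹].getD n 1

theorem closure_gB (a c d e s t : G) :
    Subgroup.closure (gB a c d e s t '' {x | x < 8}) = Subgroup.closure {a, c, d, e, s, t} := by
  unfold gB
  rw [closure_getD _ 8 rfl]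
  apply le_antisymm
  · rw [Subgroup.closure_le]
    intro x hx
    simp only [List.mem_cons, List.not_mem_nil, or_false, Set.mem_setOf_eq] at hx
    rcases hx with rfl | rfl | rfl | rfl | rfl | rfl | rfl | rfl
    · exact Subgroup.subset_closure (by simp)
    · exact Subgroup.subset_closure (by simp)
    · exact Subgroup.subset_closure (by simp)
    · exact Subgroup.subset_closure (by simp)
    · exact Subgroup.subset_closure (by simp)
    · exact Subgroup.inv_mem _ (Subgroup.subset_closure (by simp))
    · exact Subgroup.subset_closure (by simp)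
    · exact Subgroup.inv_mem _ (Subgroup.subset_closure (by simp))
  · apply Subgroup.closure_mono
    intro x hx
    simp only [Set.mem_insert_iff, Set.mem_singleton_iff] at hx
    simp only [List.mem_cons, List.not_mem_nil, or_false, Set.mem_setOf_eq]
    rcases hx with rfl | rfl | rfl | rfl | rfl | rfl <;> simp

theorem invB' {a c d e s t : G} (h : RelB a c d e s t) (inv : Nat → Nat)
    (hi : ([0, 1, 2, 3, 4, 5, 6, 7].map inv) = [0, 1, 2, 3, 5, 4, 7, 6]) :
    ∀ x, x < 8 → inv x < 8 ∧ gB a c d e s t x * gB a c d e s t (inv x) = 1 := by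
  simp only [List.map_cons, List.map_nil, List.cons.injEq, and_true] at hi
  obtain ⟨h0, h1, h2, h3, h4, h5, h6, h7⟩ := hi
  intro x hx
  interval_cases x
  · rw [h0]; exact ⟨by decide, sq_mul h.a2⟩
  · rw [h1]; exact ⟨by decide, sq_mul h.c2⟩
  · rw [h2]; exact ⟨by decide, sq_mul h.L.d2⟩
  · rw [h3]; exact ⟨by decide, sq_mul h.L.e2⟩
  · rw [h4]; exact ⟨by decide, mul_inv_cancel s⟩
  · rw [h5]; exact ⟨by decide, inv_mul_cancel s⟩
  · rw [h6]; exact ⟨by decide, mul_inv_cancel t⟩
  · rw [h7]; exact ⟨by decide, inv_mul_cancel t⟩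

theorem hypB {a c d e s t : G} (h : RelB a c d e s t)
    (hz : (c * d * e * s) ^ 9 ∈ Subgroup.closure {d, e, s, t}) :
    Hyp CertBData.C (Subgroup.closure {d, e, s, t}) (gB a c d e s t) := by
  have hinv := invB' h CertBData.C.inv (by decide)
  refine hyp_of_ex (gB a c d e s t) CertBData.C _ (exB 0 1 2 3 4 6)
    ((exz 1 2 3 4).word CertBData.C.inv :: ([2, 3, 4, 6].map fun x => [x])) rfl hinv (by decide)
    (exB_val (gB a c d e s t) (a := 0) (c := 1) (d := 2) (e := 3) (s := 4) (t := 6) h) ?_
    (by decide +kernel)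
  intro w hw
  rcases List.mem_cons.mp hw with rfl | hw
  · rw [Ex.ev_word (k := 8) hinv _ (lt_of_ltB _ (by decide : ltB 8 (exz 1 2 3 4) = true))]
    exact hz
  · refine subs_mem _ _ _ ?_ w hw
    simp only [List.mem_cons, List.not_mem_nil, or_false, forall_eq_or_imp, forall_eq]
    exact ⟨Subgroup.subset_closure (by simp [gB]), Subgroup.subset_closure (by simp [gB]),
      Subgroup.subset_closure (by simp [gB]), Subgroup.subset_closure (by simp [gB])⟩

theorem cardB' {a c d e s t : G} (h : RelB a c d e s t)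
    (hz : (c * d * e * s) ^ 9 ∈ Subgroup.closure {d, e, s, t}) :
    Finite (Subgroup.closure {a, c, d, e, s, t}) ∧
      Nat.card (Subgroup.closure {a, c, d, e, s, t}) ≤ 774144 := by
  have hL := cardL h.L
  have := hL.1
  have h1 := card_closure_le CertBData.C (Subgroup.closure {d, e, s, t}) (gB a c d e s t) (hypB h hz)
    CertBAll.part
  have h2 : Subgroup.closure (gB a c d e s t '' {x | x < CertBData.C.k}) =
    Subgroup.closure {a, c, d, e, s, t} := closure_gB a c d e s t
  rw [h2] at h1
  exact ⟨h1.1, h1.2.trans ((Nat.mul_le_mul_left _ hL.2).trans (by norm_num))⟩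

theorem cardB {a b c d e s t : G} (h : RelK a b c d e s t) :
    Finite (Subgroup.closure {a, c, d, e, s, t}) ∧
      Nat.card (Subgroup.closure {a, c, d, e, s, t}) ≤ 774144 :=
  cardB' (relB_of_relK h) (memZ h)

/-! ### `K` -/

theorem hypK {a b c d e s t : G} (h : RelK a b c d e s t) :
    Hyp CertKData.C (Subgroup.closure {a, c, d, e, s, t}) (gK a b c d e s t) := by
  refine hyp_of_ex (gK a b c d e s t) CertKData.C _ (exK 0 1 2 3 4 5 7)
    ([0, 2, 3, 4, 5, 7].map fun x => [x]) rfl
    (invK' h _ (by decide)) (by decide)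
    (exK_val (gK a b c d e s t) (a := 0) (b := 1) (c := 2) (d := 3) (e := 4) (s := 5) (t := 7) h)
    (subs_mem _ _ _ ?_) (by decide +kernel)
  simp only [List.mem_cons, List.not_mem_nil, or_false, forall_eq_or_imp, forall_eq]
  exact ⟨Subgroup.subset_closure (by simp [gK]), Subgroup.subset_closure (by simp [gK]),
    Subgroup.subset_closure (by simp [gK]), Subgroup.subset_closure (by simp [gK]),
    Subgroup.subset_closure (by simp [gK]), Subgroup.subset_closure (by simp [gK])⟩

theorem cardK {a b c d e s t : G} (h : RelK a b c d e s t) :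
    Finite (Subgroup.closure {a, b, c, d, e, s, t}) ∧
      Nat.card (Subgroup.closure {a, b, c, d, e, s, t}) ≤ 634023936 := by
  have hB := cardB h
  have := hB.1
  have h1 := card_closure_le CertKData.C (Subgroup.closure {a, c, d, e, s, t}) (gK a b c d e s t) (hypK h)
    CertKAll.part
  have h2 : Subgroup.closure (gK a b c d e s t '' {x | x < CertKData.C.k}) =
    Subgroup.closure {a, b, c, d, e, s, t} := closure_gK a b c d e s t
  rw [h2] at h1
  exact ⟨h1.1, h1.2.trans ((Nat.mul_le_mul_left _ hB.2).trans (by norm_num))⟩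

/-! ### `C` -/

def gC (a c d e s t u : G) : Nat → G := fun n => [a, c, d, e, s, s⁻¹, t, t⁻¹, u, u⁻¹].getD n 1

theorem closure_gC (a c d e s t u : G) :
    Subgroup.closure (gC a c d e s t u '' {x | x < 10}) = Subgroup.closure {a, c, d, e, s, t, u} := by
  unfold gC
  rw [closure_getD _ 10 rfl]
  apply le_antisymm
  · rw [Subgroup.closure_le]
    intro x hx
    simp only [List.mem_cons, List.not_mem_nil, or_false, Set.mem_setOf_eq] at hx
    rcases hx with rfl | rfl | rfl | rfl | rfl | rfl | rfl | rfl | rfl | rfl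
    · exact Subgroup.subset_closure (by simp)
    · exact Subgroup.subset_closure (by simp)
    · exact Subgroup.subset_closure (by simp)
    · exact Subgroup.subset_closure (by simp)
    · exact Subgroup.subset_closure (by simp)
    · exact Subgroup.inv_mem _ (Subgroup.subset_closure (by simp))
    · exact Subgroup.subset_closure (by simp)
    · exact Subgroup.inv_mem _ (Subgroup.subset_closure (by simp))
    · exact Subgroup.subset_closure (by simp)
    · exact Subgroup.inv_mem _ (Subgroup.subset_closure (by simp))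
  · apply Subgroup.closure_mono
    intro x hx
    simp only [Set.mem_insert_iff, Set.mem_singleton_iff] at hx
    simp only [List.mem_cons, List.not_mem_nil, or_false, Set.mem_setOf_eq]
    rcases hx with rfl | rfl | rfl | rfl | rfl | rfl | rfl <;> simp

theorem invC' {a c d e s t u : G} (h : RelC a c d e s t u) (inv : Nat → Nat)
    (hi : ([0, 1, 2, 3, 4, 5, 6, 7, 8, 9].map inv) = [0, 1, 2, 3, 5, 4, 7, 6, 9, 8]) :
    ∀ x, x < 10 → inv x < 10 ∧ gC a c d e s t u x * gC a c d e s t u (inv x) = 1 := by
  simp only [List.map_cons, List.map_nil, List.cons.injEq, and_true] at hi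
  obtain ⟨h0, h1, h2, h3, h4, h5, h6, h7, h8, h9⟩ := hi
  intro x hx
  interval_cases x
  · rw [h0]; exact ⟨by decide, sq_mul h.a2⟩
  · rw [h1]; exact ⟨by decide, sq_mul h.c2⟩
  · rw [h2]; exact ⟨by decide, sq_mul h.d2⟩
  · rw [h3]; exact ⟨by decide, sq_mul h.e2⟩
  · rw [h4]; exact ⟨by decide, mul_inv_cancel s⟩
  · rw [h5]; exact ⟨by decide, inv_mul_cancel s⟩
  · rw [h6]; exact ⟨by decide, mul_inv_cancel t⟩
  · rw [h7]; exact ⟨by decide, inv_mul_cancel t⟩
  · rw [h8]; exact ⟨by decide, mul_inv_cancel u⟩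
  · rw [h9]; exact ⟨by decide, inv_mul_cancel u⟩

theorem hypC {a c d e s t u : G} (h : RelC a c d e s t u) :
    Hyp CertCData.C (Subgroup.closure {a, c, d, e, s, t}) (gC a c d e s t u) := by
  refine hyp_of_ex (gC a c d e s t u) CertCData.C _ (exC 0 1 2 3 4 6 8)
    ([0, 1, 2, 3, 4, 6].map fun x => [x]) rfl
    (invC' h _ (by decide)) (by decide)
    (exC_val (gC a c d e s t u) (a := 0) (c := 1) (d := 2) (e := 3) (s := 4) (t := 6) (u := 8) h)
    (subs_mem _ _ _ ?_) (by decide +kernel)
  simp only [List.mem_cons, List.not_mem_nil, or_false, forall_eq_or_imp, forall_eq]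
  exact ⟨Subgroup.subset_closure (by simp [gC]), Subgroup.subset_closure (by simp [gC]),
    Subgroup.subset_closure (by simp [gC]), Subgroup.subset_closure (by simp [gC]),
    Subgroup.subset_closure (by simp [gC]), Subgroup.subset_closure (by simp [gC])⟩

theorem cardC {a b c d e s t u : G} (hK : RelK a b c d e s t) (h : RelC a c d e s t u) :
    Finite (Subgroup.closure {a, c, d, e, s, t, u}) ∧
      Nat.card (Subgroup.closure {a, c, d, e, s, t, u}) ≤ 92897280 := by
  have hB := cardB hK
  have := hB.1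
  have h1 := card_closure_le CertCData.C (Subgroup.closure {a, c, d, e, s, t}) (gC a c d e s t u) (hypC h)
    CertCAll.part
  have h2 : Subgroup.closure (gC a c d e s t u '' {x | x < CertCData.C.k}) =
    Subgroup.closure {a, c, d, e, s, t, u} := closure_gC a c d e s t u
  rw [h2] at h1
  exact ⟨h1.1, h1.2.trans ((Nat.mul_le_mul_left _ hB.2).trans (by norm_num))⟩

end Cfsg.Agent.Th.Bounds
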