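/-
`3D4(2)` inside `3D4(2):3` (Thompson project): for a group with `RelK a b c d e s t` in which
`closure {a,b,c,d,e,s,t}` has order 634023936, the subgroup `closure {a,b,c,d,e,s}` is simple of order 211341312.
-/
import Cfsg.Agent.Th.KOracle
import Cfsg.Agent.Th.Bounds

set_option autoImplicit false

namespace Cfsg.Agent.Th.D4

open Cfsg.Agent.Th.Base Cfsg.Agent.Th.Word Cfsg.Agent.Th.PermTab Cfsg.Agent.Th.KOracle

/-! ### relations of `3D4(2)` -/

/-- relations (1),(2): generators of `3D4(2)` -/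
structure RelD {G : Type*} [Group G] (a b c d e s : G) : Prop where
  a2 : a ^ 2 = 1
  b2 : b ^ 2 = 1
  c2 : c ^ 2 = 1
  d2 : d ^ 2 = 1
  e2 : e ^ 2 = 1
  ab3 : (a * b) ^ 3 = 1
  bc3 : (b * c) ^ 3 = 1
  acd : a * (((c * d) ^ 4)⁻¹) = 1
  de3 : (d * e) ^ 3 = 1
  bcde : (b * c * d * e) ^ 8 = 1
  s7 : s ^ 7 = 1
  sd2 : (s * d) ^ 2 = 1
  es : (e⁻¹ * s⁻¹ * e * s) * (((s ^ 3)⁻¹ * e * (s ^ 3))⁻¹) = 1

theorem relD_of_relK {G : Type*} [Group G] {a b c d e s t : G} (h : RelK a b c d e s t) : RelD a b c d e s :=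
  ⟨h.a2, h.b2, h.c2, h.d2, h.e2, h.ab3, h.bc3, h.acd, h.de3, h.bcde, h.s7, h.sd2, h.es⟩

theorem RelD.map {G H : Type*} [Group G] [Group H] (f : G →* H) {a b c d e s : G} (h : RelD a b c d e s) :
    RelD (f a) (f b) (f c) (f d) (f e) (f s) := by
  constructor
  · rw [← map_pow, h.a2, map_one]
  · rw [← map_pow, h.b2, map_one]
  · rw [← map_pow, h.c2, map_one]
  · rw [← map_pow, h.d2, map_one]
  · rw [← map_pow, h.e2, map_one]
  · rw [← map_mul, ← map_pow, h.ab3, map_one]
  · rw [← map_mul, ← map_pow, h.bc3, map_one]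
  · have := congrArg f h.acd
    simpa only [map_mul, map_inv, map_pow, map_one] using this
  · rw [← map_mul, ← map_pow, h.de3, map_one]
  · have := congrArg f h.bcde
    simpa only [map_mul, map_inv, map_pow, map_one] using this
  · rw [← map_pow, h.s7, map_one]
  · rw [← map_mul, ← map_pow, h.sd2, map_one]
  · have := congrArg f h.es
    simpa only [map_mul, map_inv, map_pow, map_one] using this

/-- injective homomorphisms reflect the relations -/
theorem RelD.of_map {G H : Type*} [Group G] [Group H] (f : G →* H) (hf : Function.Injective f) {a b c d e s : G}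
    (h : RelD (f a) (f b) (f c) (f d) (f e) (f s)) : RelD a b c d e s := by
  constructor <;> apply hf <;> simp only [map_mul, map_inv, map_pow, map_one]
  exacts [h.a2, h.b2, h.c2, h.d2, h.e2, h.ab3, h.bc3, h.acd, h.de3, h.bcde, h.s7, h.sd2, h.es]

theorem inv_of_sq {G : Type*} [Group G] {x : G} (h : x ^ 2 = 1) : x⁻¹ = x := by
  rw [inv_eq_iff_mul_eq_one, ← pow_two, h]

theorem one_of_sq_cube {G : Type*} [Group G] {x : G} (h2 : x ^ 2 = 1) (h3 : x ^ 3 = 1) : x = 1 := by
  calc x = x ^ 3 * (x ^ 2)⁻¹ := by group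
    _ = 1 := by rw [h2, h3]; group

/-- if `a` dies, everything dies -/
theorem RelD.trivial {G : Type*} [Group G] {a b c d e s : G} (h : RelD a b c d e s) (ha : a = 1) :
    b = 1 ∧ c = 1 ∧ d = 1 ∧ e = 1 ∧ s = 1 := by
  have hb : b = 1 := by
    have := h.ab3
    rw [ha, one_mul] at this
    exact one_of_sq_cube h.b2 this
  have hc : c = 1 := by
    have := h.bc3
    rw [hb, one_mul] at this
    exact one_of_sq_cube h.c2 this
  have hde : d * e = 1 := by
    have h8 := h.bcde
    rw [hb, hc, one_mul, one_mul] at h8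
    have h9 : (d * e) ^ 9 = 1 := by
      have : (d * e) ^ 9 = ((d * e) ^ 3) ^ 3 := by rw [← pow_mul]
      rw [this, h.de3, one_pow]
    calc d * e = (d * e) ^ 9 * ((d * e) ^ 8)⁻¹ := by group
      _ = 1 := by rw [h8, h9]; group
  have hd : d = e := by
    have h1 := eq_inv_of_mul_eq_one_left hde
    rw [h1, inv_of_sq h.e2]
  have hse : e * s * e = s⁻¹ := by
    have h1 := h.sd2
    rw [hd, pow_two] at h1
    -- s e s e = 1
    have h2 : s * (e * s * e) = 1 := by rw [← h1]; group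
    exact eq_inv_of_mul_eq_one_right h2
  have hee : e * e = 1 := by rw [← pow_two, h.e2]
  have hse' : e * s⁻¹ * e = s := by
    rw [← hse]
    calc e * (e * s * e) * e = (e * e) * s * (e * e) := by group
      _ = s := by rw [hee]; group
  have hse3 : e * s ^ 3 * e = (s ^ 3)⁻¹ := by
    calc e * s ^ 3 * e = (e * s * e) * (e * e)⁻¹ * (e * s * e) * (e * e)⁻¹ * (e * s * e) := by
          have : s ^ 3 = s * s * s := by rw [pow_succ, pow_two]
          rw [this]; group
      _ = (s ^ 3)⁻¹ := by rw [hse, hee]; group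
  have hes : e⁻¹ * s⁻¹ * e * s = (s ^ 3)⁻¹ * e * s ^ 3 := mul_inv_eq_one.mp h.es
  have h1 : e⁻¹ * s⁻¹ * e * s = s * s := by
    rw [inv_of_sq h.e2, hse']
  have h2 : (s ^ 3)⁻¹ * e * s ^ 3 = s * e := by
    calc (s ^ 3)⁻¹ * e * s ^ 3 = (s ^ 3)⁻¹ * (e * s ^ 3 * e) * e⁻¹ := by group
      _ = (s ^ 7)⁻¹ * s * e := by rw [hse3, inv_of_sq h.e2]; group
      _ = s * e := by rw [h.s7]; group
  rw [h1, h2] at hes
  have hse1 : s = e := mul_left_cancel hes
  have hs : s = 1 := by
    have h2' : s ^ 2 = 1 := by rw [hse1]; exact h.e2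
    calc s = s ^ 7 * ((s ^ 2) ^ 3)⁻¹ := by group
      _ = 1 := by rw [h.s7, h2']; group
  exact ⟨hb, hc, by rw [hd, ← hse1, hs], by rw [← hse1, hs], hs⟩

/-- in a commutative group everything dies -/
theorem RelD.trivial_comm {A : Type*} [CommGroup A] {a b c d e s : A} (h : RelD a b c d e s) : a = 1 := by
  have key : ∀ x y : A, x ^ 2 = 1 → y ^ 2 = 1 → (x * y) ^ 3 = 1 → x = y := by
    intro x y hx hy hxy
    have h1 : (x * y) ^ 2 = 1 := by rw [mul_pow, hx, hy, one_mul]
    have h2 := one_of_sq_cube h1 hxy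
    rw [eq_inv_of_mul_eq_one_left h2, inv_of_sq hy]
  have h1 := h.acd
  have h2 : (c * d) ^ 4 = 1 := by
    have : (c * d) ^ 4 = (c ^ 2) ^ 2 * (d ^ 2) ^ 2 := by rw [mul_pow, ← pow_mul, ← pow_mul]
    rw [this, h.c2, h.d2]; simp
  rw [h2] at h1
  simpa using h1

theorem mem_of_quot {G : Type*} [Group G] (N : Subgroup G) [N.Normal] {x : G}
    (h : (QuotientGroup.mk' N) x = 1) : x ∈ N := by
  rwa [← MonoidHom.mem_ker, QuotientGroup.ker_mk'] at h

/-- a normal subgroup containing `a` is everything -/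
theorem RelD.normal_top {G : Type*} [Group G] {a b c d e s : G} (h : RelD a b c d e s)
    (hgen : Subgroup.closure ({a, b, c, d, e, s} : Set G) = ⊤) (N : Subgroup G) [N.Normal] (ha : a ∈ N) : N = ⊤ := by
  have h1 := h.map (QuotientGroup.mk' N)
  have h2 : (QuotientGroup.mk' N) a = 1 := by
    rw [← MonoidHom.mem_ker, QuotientGroup.ker_mk']; exact ha
  obtain ⟨hb, hc, hd, he, hs⟩ := h1.trivial h2
  rw [eq_top_iff, ← hgen, Subgroup.closure_le]
  intro x hx
  simp only [Set.mem_insert_iff, Set.mem_singleton_iff] at hx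
  rcases hx with rfl | rfl | rfl | rfl | rfl | rfl
  · exact ha
  · exact mem_of_quot N hb
  · exact mem_of_quot N hc
  · exact mem_of_quot N hd
  · exact mem_of_quot N he
  · exact mem_of_quot N hs

theorem RelD.perfect {G : Type*} [Group G] {a b c d e s : G} (h : RelD a b c d e s)
    (hgen : Subgroup.closure ({a, b, c, d, e, s} : Set G) = ⊤) : commutator G = ⊤ := by
  apply h.normal_top hgen
  have h1 := h.map (Abelianization.of (G := G))
  have h2 := h1.trivial_comm
  rw [← MonoidHom.mem_ker, Abelianization.ker_of] at h2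
  exact h2

/-- `a` commutes with `c`, `d`, `e`, `s` -/
theorem a_central {G : Type*} [Group G] {a b c d e s t : G} (h : RelK a b c d e s t) :
    c * a = a * c ∧ d * a = a * d ∧ e * a = a * e ∧ s * a = a * s := by
  have hcd : a = (c * d) ^ 4 := mul_inv_eq_one.mp h.acd
  have hai : a⁻¹ = a := inv_of_sq h.a2
  have hci := inv_of_sq h.c2
  have hdi := inv_of_sq h.d2
  have hcc : c * c = 1 := by rw [← pow_two, h.c2]
  have hdd : d * d = 1 := by rw [← pow_two, h.d2]
  have hdc : (d * c) ^ 4 = a := by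
    have : (d * c) ^ 4 = ((c * d) ^ 4)⁻¹ := by
      rw [← inv_pow, mul_inv_rev, hci, hdi]
    rw [this, ← hcd, hai]
  refine ⟨?_, ?_, ?_, ?_⟩
  · calc c * a = c * (d * c) ^ 4 := by rw [hdc]
      _ = (c * d) ^ 4 * c := by simp only [pow_succ, pow_zero, one_mul, mul_assoc]
      _ = a * c := by rw [← hcd]
  · calc d * a = d * (c * d) ^ 4 := by rw [← hcd]
      _ = (d * c) ^ 4 * d := by simp only [pow_succ, pow_zero, one_mul, mul_assoc]
      _ = a * d := by rw [hdc]
  · have h1 := h.ae2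
    rw [pow_two] at h1
    have h2 : a * e = (a * e)⁻¹ := eq_inv_of_mul_eq_one_left h1
    rw [mul_inv_rev, hai, inv_of_sq h.e2] at h2
    exact h2.symm
  · have h1 := h.sa
    calc s * a = a * s * (s⁻¹ * a⁻¹ * s * a) := by group
      _ = a * s := by rw [h1, mul_one]

end Cfsg.Agent.Th.D4
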