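/-
The permutation group of degree 819 generated by the images of a, b, c, d, e, s (3D4(2)): order 211341312, primitive,
simple (Iwasawa).
-/
import Cfsg.Agent.Th.D4

set_option autoImplicit false

namespace Cfsg.Agent.Th.D4Perm

open Cfsg.Agent.Th.Base Cfsg.Agent.Th.Word Cfsg.Agent.Th.PermTab Cfsg.Agent.Th.KOracle Cfsg.Agent.Th.D4

/-- the permutations -/
noncomputable abbrev r (x : ℕ) : Equiv.Perm (Fin 819) := rho isTab x

/-- 3D4(2):3 -/
noncomputable def PK : Subgroup (Equiv.Perm (Fin 819)) := Subgroup.closure {r 1, r 2, r 3, r 4, r 5, r 6, r 8}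

/-- 3D4(2) -/
noncomputable def PL : Subgroup (Equiv.Perm (Fin 819)) := Subgroup.closure {r 1, r 2, r 3, r 4, r 5, r 6}

/-- stabiliser in 3D4(2):3 -/
noncomputable def PB : Subgroup (Equiv.Perm (Fin 819)) := Subgroup.closure {r 1, r 3, r 4, r 5, r 6, r 8}

/-- stabiliser in 3D4(2) -/
noncomputable def PC : Subgroup (Equiv.Perm (Fin 819)) := Subgroup.closure {r 1, r 3, r 4, r 5, r 6}

theorem relP : RelK (r 1) (r 2) (r 3) (r 4) (r 5) (r 6) (r 8) := relK_rho

theorem hα : ∀ w : List ℕ, (∀ x ∈ w, isK x = true) → ∀ p : Fin 819,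
    (((MonoidHom.id (Equiv.Perm (Fin 819))) (ev (rho isTab) w)⁻¹ p : Fin 819) : ℕ) = tr act w p :=
  fun _ hw p => ev_rho_inv_apply isTab hw p

set_option maxRecDepth 100000 in
theorem orb0 : Nat.ble 819 (cnt 819 (bfs act [[1],[2],[3],[4],[5],[6]] 819 [0] (Nat.shiftLeft 1 0))) = true := by
  decide +kernel

set_option maxRecDepth 100000 in
theorem orb1 : Nat.ble 512 (cnt 819 (bfs act [[1],[3],[4],[5],[6]] 819 [1] (Nat.shiftLeft 1 1))) = true := by
  decide +kernel

set_option maxRecDepth 100000 in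
theorem orb2 : Nat.ble 168 (cnt 819 (bfs act [[4],[5],[6]] 819 [39] (Nat.shiftLeft 1 39))) = true := by
  decide +kernel

set_option maxRecDepth 100000 in
theorem orb3 : Nat.ble 3 (cnt 819 (bfs act [[4,5]] 819 [45] (Nat.shiftLeft 1 45))) = true := by
  decide +kernel

/-- membership of words in stabilisers -/
theorem ev_mem_stab {w : List ℕ} (hw : ∀ x ∈ w, isK x = true) (p : Fin 819) (h : tr act w p = p) :
    ev (rho isTab) w ∈ stab (MonoidHom.id (Equiv.Perm (Fin 819))) p := by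
  have h1 : (ev (rho isTab) w)⁻¹ p = p := Fin.ext ((ev_rho_inv_apply isTab hw p).trans h)
  rw [mem_stab]
  exact (Equiv.Perm.inv_eq_iff_eq.mp h1).symm

theorem r_mem_stab {x : ℕ} (hx : isK x = true) (p : Fin 819) (h : act x p = p) :
    r x ∈ stab (MonoidHom.id (Equiv.Perm (Fin 819))) p := by
  have := ev_mem_stab (w := [x]) (by simpa using hx) p h
  rwa [ev_singleton] at this

theorem single_mem {S : Subgroup (Equiv.Perm (Fin 819))} {x : ℕ} (hx : isK x = true) (h : r x ∈ S) :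
    (∀ y ∈ [x], isK y = true) ∧ ev (rho isTab) [x] ∈ S :=
  ⟨by simpa using hx, by rw [ev_singleton]; exact h⟩

theorem fix : (act 1 0 = 0 ∧ act 3 0 = 0 ∧ act 4 0 = 0 ∧ act 5 0 = 0 ∧ act 6 0 = 0 ∧ act 8 0 = 0) ∧
    (act 4 1 = 1 ∧ act 5 1 = 1 ∧ act 6 1 = 1 ∧ act 8 1 = 1) ∧
    (tr act [4,5] 39 = 39 ∧ act 8 39 = 39) := by decide +kernel

/-- chain for PC -/
theorem card_PC : 258048 ≤ Nat.card PC := by
  obtain ⟨-, ⟨d1, e1, s1, -⟩, de39, -⟩ := fix
  have ma : r 1 ∈ PC := Subgroup.subset_closure (by simp)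
  have mc : r 3 ∈ PC := Subgroup.subset_closure (by simp)
  have md : r 4 ∈ PC := Subgroup.subset_closure (by simp)
  have me : r 5 ∈ PC := Subgroup.subset_closure (by simp)
  have ms : r 6 ∈ PC := Subgroup.subset_closure (by simp)
  have md1 : r 4 ∈ PC ⊓ stab (MonoidHom.id _) 1 := ⟨md, r_mem_stab rfl 1 d1⟩
  have me1 : r 5 ∈ PC ⊓ stab (MonoidHom.id _) 1 := ⟨me, r_mem_stab rfl 1 e1⟩
  have ms1 : r 6 ∈ PC ⊓ stab (MonoidHom.id _) 1 := ⟨ms, r_mem_stab rfl 1 s1⟩
  have mde : ev (rho isTab) [4, 5] ∈ PC ⊓ stab (MonoidHom.id _) 1 ⊓ stab (MonoidHom.id _) 39 := by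
    refine ⟨?_, ev_mem_stab ((allL_iff _ _).mp rfl) 39 de39⟩
    have : ev (rho isTab) [4, 5] = r 4 * r 5 := by simp
    rw [this]
    exact Subgroup.mul_mem _ md1 me1
  have c1 := chain_mask isTab (MonoidHom.id _) hα PC 1 [[1],[3],[4],[5],[6]] (by
    intro g hg
    simp only [List.mem_cons, List.not_mem_nil, or_false] at hg
    rcases hg with rfl | rfl | rfl | rfl | rfl
    exacts [single_mem rfl ma, single_mem rfl mc, single_mem rfl md, single_mem rfl me, single_mem rfl ms])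
    819 512 1 rfl (by with_reducible exact orb1)
  have c2 := chain_mask isTab (MonoidHom.id _) hα (PC ⊓ stab (MonoidHom.id _) 1) 39 [[4],[5],[6]] (by
    intro g hg
    simp only [List.mem_cons, List.not_mem_nil, or_false] at hg
    rcases hg with rfl | rfl | rfl
    exacts [single_mem rfl md1, single_mem rfl me1, single_mem rfl ms1])
    819 168 39 rfl (by with_reducible exact orb2)
  have c3 := chain_mask isTab (MonoidHom.id _) hα (PC ⊓ stab (MonoidHom.id _) 1 ⊓ stab (MonoidHom.id _) 39) 45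
    [[4,5]] (by
    intro g hg
    simp only [List.mem_cons, List.not_mem_nil, or_false] at hg
    rcases hg with rfl
    exact ⟨(allL_iff _ _).mp rfl, mde⟩)
    819 3 45 rfl (by with_reducible exact orb3)
  have hpos : 0 < Nat.card (PC ⊓ stab (MonoidHom.id _) 1 ⊓ stab (MonoidHom.id _) 39 ⊓ stab (MonoidHom.id _) 45 :
      Subgroup (Equiv.Perm (Fin 819))) := Nat.card_pos
  omega

/-- chain for PB -/
theorem card_PB : 774144 ≤ Nat.card PB := by
  obtain ⟨-, ⟨d1, e1, s1, t1⟩, de39, t39⟩ := fix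
  have ma : r 1 ∈ PB := Subgroup.subset_closure (by simp)
  have mc : r 3 ∈ PB := Subgroup.subset_closure (by simp)
  have md : r 4 ∈ PB := Subgroup.subset_closure (by simp)
  have me : r 5 ∈ PB := Subgroup.subset_closure (by simp)
  have ms : r 6 ∈ PB := Subgroup.subset_closure (by simp)
  have mt : r 8 ∈ PB := Subgroup.subset_closure (by simp)
  have md1 : r 4 ∈ PB ⊓ stab (MonoidHom.id _) 1 := ⟨md, r_mem_stab rfl 1 d1⟩
  have me1 : r 5 ∈ PB ⊓ stab (MonoidHom.id _) 1 := ⟨me, r_mem_stab rfl 1 e1⟩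
  have ms1 : r 6 ∈ PB ⊓ stab (MonoidHom.id _) 1 := ⟨ms, r_mem_stab rfl 1 s1⟩
  have mt1 : r 8 ∈ PB ⊓ stab (MonoidHom.id _) 1 := ⟨mt, r_mem_stab rfl 1 t1⟩
  have mt39 : r 8 ∈ PB ⊓ stab (MonoidHom.id _) 1 ⊓ stab (MonoidHom.id _) 39 := ⟨mt1, r_mem_stab rfl 39 t39⟩
  have mde : ev (rho isTab) [4, 5] ∈ PB ⊓ stab (MonoidHom.id _) 1 ⊓ stab (MonoidHom.id _) 39 := by
    refine ⟨?_, ev_mem_stab ((allL_iff _ _).mp rfl) 39 de39⟩
    have : ev (rho isTab) [4, 5] = r 4 * r 5 := by simp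
    rw [this]
    exact Subgroup.mul_mem _ md1 me1
  have c1 := chain_mask isTab (MonoidHom.id _) hα PB 1 [[1],[3],[4],[5],[6],[8]] (by
    intro g hg
    simp only [List.mem_cons, List.not_mem_nil, or_false] at hg
    rcases hg with rfl | rfl | rfl | rfl | rfl | rfl
    exacts [single_mem rfl ma, single_mem rfl mc, single_mem rfl md, single_mem rfl me, single_mem rfl ms,
      single_mem rfl mt])
    819 512 1 rfl (by with_reducible exact orb_check1)
  have c2 := chain_mask isTab (MonoidHom.id _) hα (PB ⊓ stab (MonoidHom.id _) 1) 39 [[4],[5],[6],[8]] (by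
    intro g hg
    simp only [List.mem_cons, List.not_mem_nil, or_false] at hg
    rcases hg with rfl | rfl | rfl | rfl
    exacts [single_mem rfl md1, single_mem rfl me1, single_mem rfl ms1, single_mem rfl mt1])
    819 168 39 rfl (by with_reducible exact orb_check2)
  have c3 := chain_mask isTab (MonoidHom.id _) hα (PB ⊓ stab (MonoidHom.id _) 1 ⊓ stab (MonoidHom.id _) 39) 45
    [[4,5],[8]] (by
    intro g hg
    simp only [List.mem_cons, List.not_mem_nil, or_false] at hg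
    rcases hg with rfl | rfl
    exacts [⟨(allL_iff _ _).mp rfl, mde⟩, single_mem rfl mt39])
    819 9 45 rfl (by with_reducible exact orb_check3)
  have hpos : 0 < Nat.card (PB ⊓ stab (MonoidHom.id _) 1 ⊓ stab (MonoidHom.id _) 39 ⊓ stab (MonoidHom.id _) 45 :
      Subgroup (Equiv.Perm (Fin 819))) := Nat.card_pos
  omega

theorem PC_le_stab : PC ≤ stab (MonoidHom.id _) 0 := by
  obtain ⟨⟨a0, c0, d0, e0, s0, t0⟩, -⟩ := fix
  unfold PC
  rw [Subgroup.closure_le]
  intro x hx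
  simp only [Set.mem_insert_iff, Set.mem_singleton_iff] at hx
  rcases hx with rfl | rfl | rfl | rfl | rfl
  exacts [r_mem_stab rfl 0 a0, r_mem_stab rfl 0 c0, r_mem_stab rfl 0 d0, r_mem_stab rfl 0 e0, r_mem_stab rfl 0 s0]

theorem PB_le_stab : PB ≤ stab (MonoidHom.id _) 0 := by
  obtain ⟨⟨a0, c0, d0, e0, s0, t0⟩, -⟩ := fix
  unfold PB
  rw [Subgroup.closure_le]
  intro x hx
  simp only [Set.mem_insert_iff, Set.mem_singleton_iff] at hx
  rcases hx with rfl | rfl | rfl | rfl | rfl | rfl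
  exacts [r_mem_stab rfl 0 a0, r_mem_stab rfl 0 c0, r_mem_stab rfl 0 d0, r_mem_stab rfl 0 e0, r_mem_stab rfl 0 s0,
    r_mem_stab rfl 0 t0]

theorem PC_le_PL : PC ≤ PL := Subgroup.closure_mono (by
  intro x hx
  simp only [Set.mem_insert_iff, Set.mem_singleton_iff] at hx ⊢
  tauto)

theorem PB_le_PK : PB ≤ PK := Subgroup.closure_mono (by
  intro x hx
  simp only [Set.mem_insert_iff, Set.mem_singleton_iff] at hx ⊢
  tauto)

theorem PL_le_PK : PL ≤ PK := Subgroup.closure_mono (by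
  intro x hx
  simp only [Set.mem_insert_iff, Set.mem_singleton_iff] at hx ⊢
  tauto)

/-- orbit of 0 under PL and PK -/
theorem chain0 {S : Subgroup (Equiv.Perm (Fin 819))} (h : PL ≤ S) :
    819 * Nat.card (S ⊓ stab (MonoidHom.id _) 0 : Subgroup (Equiv.Perm (Fin 819))) ≤ Nat.card S := by
  have m : ∀ x, r x ∈ ({r 1, r 2, r 3, r 4, r 5, r 6} : Set (Equiv.Perm (Fin 819))) → r x ∈ S := fun x hx =>
    h (Subgroup.subset_closure hx)
  exact chain_mask isTab (MonoidHom.id _) hα S 0 [[1],[2],[3],[4],[5],[6]] (by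
    intro g hg
    simp only [List.mem_cons, List.not_mem_nil, or_false] at hg
    rcases hg with rfl | rfl | rfl | rfl | rfl | rfl
    exacts [single_mem rfl (m 1 (by simp)), single_mem rfl (m 2 (by simp)), single_mem rfl (m 3 (by simp)),
      single_mem rfl (m 4 (by simp)), single_mem rfl (m 5 (by simp)), single_mem rfl (m 6 (by simp))])
    819 819 0 rfl (by with_reducible exact orb0)

theorem card_PK : Nat.card PK = 634023936 := by
  have h1 := (Bounds.cardK relP).2
  have h2 := chain0 PL_le_PK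
  have h3 : Nat.card PB ≤ Nat.card (PK ⊓ stab (MonoidHom.id _) 0 : Subgroup (Equiv.Perm (Fin 819))) :=
    Subgroup.card_le_of_le (le_inf PB_le_PK PB_le_stab)
  have h4 := card_PB
  have h5 : Nat.card PK ≤ 634023936 := h1
  omega

/-- the stabiliser of 0 in PK is PB -/
theorem stab_PK : PK ⊓ stab (MonoidHom.id _) 0 = PB := by
  symm
  apply Subgroup.eq_of_le_of_card_ge (le_inf PB_le_PK PB_le_stab)
  have h2 := chain0 PL_le_PK
  have h4 := card_PB
  rw [card_PK] at h2
  omega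

theorem card_PL_ge : 211341312 ≤ Nat.card PL := by
  have h2 := chain0 (le_refl PL)
  have h3 : Nat.card PC ≤ Nat.card (PL ⊓ stab (MonoidHom.id _) 0 : Subgroup (Equiv.Perm (Fin 819))) :=
    Subgroup.card_le_of_le (le_inf PC_le_PL PC_le_stab)
  have h4 := card_PC
  omega

end Cfsg.Agent.Th.D4Perm
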