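/-
3D4(2) on 819 points: order 211341312, primitive, simple.
-/
import Cfsg.Agent.Th.D4Perm

set_option autoImplicit false

namespace Cfsg.Agent.Th.D4Simple

open Cfsg.Agent.Th.Base Cfsg.Agent.Th.Word Cfsg.Agent.Th.PermTab Cfsg.Agent.Th.KOracle Cfsg.Agent.Th.D4
  Cfsg.Agent.Th.D4Perm

/-! ### the upper bound for the order of PL -/

/-- t-exponent modulo 3 -/
theorem relZ : RelK (1 : Multiplicative (ZMod 3)) 1 1 1 1 1 (Multiplicative.ofAdd 1) := by
  constructor <;> decide

theorem relK_prod {G H : Type*} [Group G] [Group H] {a b c d e s t : G} {a' b' c' d' e' s' t' : H}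
    (h : RelK a b c d e s t) (h' : RelK a' b' c' d' e' s' t') :
    RelK (a, a') (b, b') (c, c') (d, d') (e, e') (s, s') (t, t') := by
  constructor <;> apply Prod.ext
  all_goals first
    | exact h.a2 | exact h'.a2 | exact h.b2 | exact h'.b2 | exact h.c2 | exact h'.c2 | exact h.d2 | exact h'.d2
    | exact h.e2 | exact h'.e2 | exact h.ab3 | exact h'.ab3 | exact h.ae2 | exact h'.ae2 | exact h.bc3 | exact h'.bc3
    | exact h.bd2 | exact h'.bd2 | exact h.be2 | exact h'.be2 | exact h.acd | exact h'.acd | exact h.ce2 | exact h'.ce2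
    | exact h.de3 | exact h'.de3 | exact h.bcde | exact h'.bcde | exact h.s7 | exact h'.s7 | exact h.sa | exact h'.sa
    | exact h.sb | exact h'.sb | exact h.sc | exact h'.sc | exact h.sd2 | exact h'.sd2 | exact h.es | exact h'.es
    | exact h.t3 | exact h'.t3 | exact h.ta | exact h'.ta | exact h.tb | exact h'.tb | exact h.tc | exact h'.tc
    | exact h.td | exact h'.td | exact h.te | exact h'.te | exact h.st | exact h'.st

/-- General form: `closure {a,b,c,d,e,s}` has at most a third of the elements. -/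
theorem card_L_le {G : Type*} [Group G] {a b c d e s t : G} (h : RelK a b c d e s t) :
    3 * Nat.card (Subgroup.closure ({a, b, c, d, e, s} : Set G)) ≤ 634023936 := by
  classical
  have hP := relK_prod h relZ
  obtain ⟨hf, hle⟩ := Bounds.cardK hP
  set K' : Subgroup (G × Multiplicative (ZMod 3)) := Subgroup.closure {(a, 1), (b, 1), (c, 1), (d, 1), (e, 1),
    (s, 1), (t, Multiplicative.ofAdd 1)} with hK'
  let g : K' →* Multiplicative (ZMod 3) := (MonoidHom.snd G (Multiplicative (ZMod 3))).comp K'.subtype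
  have ht : (t, Multiplicative.ofAdd (1 : ZMod 3)) ∈ K' := Subgroup.subset_closure (by simp)
  have hsurj : Function.Surjective g := by
    intro y
    have h3 : ∀ y : Multiplicative (ZMod 3), ∃ n : Fin 3, (Multiplicative.ofAdd (1 : ZMod 3)) ^ (n : ℕ) = y := by
      decide
    obtain ⟨n, hn⟩ := h3 y
    refine ⟨⟨_, ht⟩ ^ (n : ℕ), ?_⟩
    rw [map_pow]
    exact hn
  have hcard : Nat.card K' = 3 * Nat.card g.ker := by
    have h1 := Subgroup.card_eq_card_quotient_mul_card_subgroup g.ker
    have h2 : Nat.card (K' ⧸ g.ker) = Nat.card (Multiplicative (ZMod 3)) :=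
      Nat.card_congr (QuotientGroup.quotientKerEquivOfSurjective g hsurj).toEquiv
    have h3 : Nat.card (Multiplicative (ZMod 3)) = 3 := by
      rw [Nat.card_congr Multiplicative.toAdd, Nat.card_zmod]
    rw [h1, h2, h3]
  -- the closure of the first six embeds in the kernel
  have hinj : Nat.card (Subgroup.closure ({a, b, c, d, e, s} : Set G)) ≤ Nat.card g.ker := by
    have hmem : ∀ x ∈ Subgroup.closure ({a, b, c, d, e, s} : Set G), (x, (1 : Multiplicative (ZMod 3))) ∈ K' := by
      intro x hx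
      have hle : Subgroup.closure ({a, b, c, d, e, s} : Set G) ≤
          K'.comap (MonoidHom.inl G (Multiplicative (ZMod 3))) := by
        rw [Subgroup.closure_le]
        intro y hy
        simp only [Set.mem_insert_iff, Set.mem_singleton_iff] at hy
        change (y, (1 : Multiplicative (ZMod 3))) ∈ K'
        rcases hy with rfl | rfl | rfl | rfl | rfl | rfl <;> exact Subgroup.subset_closure (by simp)
      exact hle hx
    let f : Subgroup.closure ({a, b, c, d, e, s} : Set G) → g.ker := fun x =>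
      ⟨⟨(x.1, 1), hmem x.1 x.2⟩, rfl⟩
    have hfi : Function.Injective f := by
      intro x y hxy
      have h1 := congrArg (fun z : g.ker => (z.1.1.1 : G)) hxy
      exact Subtype.ext h1
    have : Finite g.ker := Subgroup.instFiniteSubtypeMem _
    exact Nat.card_le_card_of_injective f hfi
  have h5 : Nat.card K' ≤ 634023936 := hle
  omega

theorem card_PL : Nat.card PL = 211341312 := by
  have h1 := card_L_le relP
  have h2 := card_PL_ge
  have h3 : 3 * Nat.card PL ≤ 634023936 := h1
  omega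

/-! ### primitivity -/

/-- orbit masks of PC -/
noncomputable def mk (p : ℕ) : ℕ := bfs act [[1],[3],[4],[5],[6]] 819 [p] (Nat.shiftLeft 1 p)

/-- mask of a union of orbits -/
noncomputable def un (x y z : Bool) : ℕ :=
  Nat.lor 1 (Nat.lor (Bool.rec 0 (mk 1) x) (Nat.lor (Bool.rec 0 (mk 9) y) (Bool.rec 0 (mk 25) z)))

/-- all bits below n -/
noncomputable def allOnes (n : ℕ) : ℕ := Nat.sub (Nat.pow 2 n) 1

theorem testBit_allOnes (n q : ℕ) : (allOnes n).testBit q = decide (q < n) := Nat.testBit_two_pow_sub_one n q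

attribute [irreducible] allOnes mk

/-- either the point, or everything, or the size does not divide 819 -/
noncomputable def ckU (x y z : Bool) : Bool :=
  or (Nat.beq (un x y z) 1) (or (Nat.beq (un x y z) (allOnes 819))
    (not (Nat.beq (Nat.mod 819 (cnt 819 (un x y z))) 0)))

set_option maxRecDepth 100000 in
theorem ckU_true : and (and (and (ckU true true true) (ckU true true false)) (and (ckU true false true)
    (ckU true false false))) (and (and (ckU false true true) (ckU false true false)) (and (ckU false false true)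
    (ckU false false false))) = true := by decide +kernel

set_option maxRecDepth 100000 in
theorem full : Nat.beq (un true true true) (allOnes 819) = true := by decide +kernel

theorem mk_spec (p : Fin 819) (q : ℕ) (h : (mk p).testBit q = true) :
    ∃ g ∈ PC, ((g p : Fin 819) : ℕ) = q := by
  unfold mk at h
  have ma : r 1 ∈ PC := Subgroup.subset_closure (by simp)
  have mc : r 3 ∈ PC := Subgroup.subset_closure (by simp)
  have md : r 4 ∈ PC := Subgroup.subset_closure (by simp)
  have me : r 5 ∈ PC := Subgroup.subset_closure (by simp)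
  have ms : r 6 ∈ PC := Subgroup.subset_closure (by simp)
  refine bfs_spec act (fun q => ∃ g ∈ PC, ((g p : Fin 819) : ℕ) = q) [[1],[3],[4],[5],[6]] ?_ 819 [p]
    (Nat.shiftLeft 1 p) ?_ ?_ q h
  · intro w hw q hq
    obtain ⟨g, hg, rfl⟩ := hq
    have hw' : (∀ y ∈ w, isK y = true) ∧ ev (rho isTab) w ∈ PC := by
      simp only [List.mem_cons, List.not_mem_nil, or_false] at hw
      rcases hw with rfl | rfl | rfl | rfl | rfl
      exacts [single_mem rfl ma, single_mem rfl mc, single_mem rfl md, single_mem rfl me, single_mem rfl ms]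
    refine ⟨(ev (rho isTab) w)⁻¹ * g, PC.mul_mem (PC.inv_mem hw'.2) hg, ?_⟩
    rw [Equiv.Perm.mul_apply, ev_rho_inv_apply isTab hw'.1]
  · intro q hq
    rw [List.mem_singleton] at hq
    exact ⟨1, PC.one_mem, by rw [hq]; rfl⟩
  · intro q hq
    have h0 : (Nat.lor 0 (Nat.shiftLeft 1 (p : ℕ))).testBit q = true := by
      have : Nat.lor 0 (Nat.shiftLeft 1 (p : ℕ)) = Nat.shiftLeft 1 (p : ℕ) := Nat.zero_or _
      rw [this]; exact hq
    rcases bit_set _ _ _ h0 with hq | rfl
    · simp at hq
    · exact ⟨1, PC.one_mem, rfl⟩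

theorem testBit_un (x y z : Bool) (q : ℕ) : (un x y z).testBit q = true ↔
    q = 0 ∨ (x = true ∧ (mk 1).testBit q = true) ∨ (y = true ∧ (mk 9).testBit q = true) ∨
      (z = true ∧ (mk 25).testBit q = true) := by
  have h1 : (1 : ℕ).testBit q = true ↔ q = 0 := by
    rw [show (1 : ℕ) = 2 ^ 0 from rfl, Nat.testBit_two_pow]
    simp [eq_comm]
  have h2 : ∀ (x : Bool) (m : ℕ), (Bool.rec 0 m x : ℕ).testBit q = true ↔ x = true ∧ m.testBit q = true := by
    intro x m
    cases x <;> simp
  change (1 ||| ((Bool.rec 0 (mk 1) x : ℕ) ||| ((Bool.rec 0 (mk 9) y : ℕ) ||| (Bool.rec 0 (mk 25) z : ℕ)))).testBit q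
    = true ↔ _
  rw [Nat.testBit_or, Nat.testBit_or, Nat.testBit_or, Bool.or_eq_true, Bool.or_eq_true, Bool.or_eq_true, h1,
    h2, h2, h2]

theorem ckU_all (x y z : Bool) : ckU x y z = true := by
  have h := ckU_true
  simp only [Bool.and_eq_true] at h
  obtain ⟨⟨⟨h1, h2⟩, ⟨h3, h4⟩⟩, ⟨⟨h5, h6⟩, ⟨h7, h8⟩⟩⟩ := h
  cases x <;> cases y <;> cases z <;> assumption

open MulAction Pointwise in
theorem block_trivial {S : Subgroup (Equiv.Perm (Fin 819))} (hS : PC ≤ S) [IsPretransitive S (Fin 819)]
    {B : Set (Fin 819)} (h0 : (0 : Fin 819) ∈ B) (hB : IsBlock S B) : IsTrivialBlock B := by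
  classical
  have hstab : ∀ g ∈ PC, ∀ q : Fin 819, g q ∈ B ↔ q ∈ B := by
    intro g hg q
    let g' : S := ⟨g, hS hg⟩
    have hg0 : g 0 = 0 := (mem_stab (MonoidHom.id _) 0 g).mp (PC_le_stab hg)
    have heq : g' • B = B := by
      apply hB.smul_eq_of_mem h0
      have : g' • (0 : Fin 819) = 0 := hg0
      rw [this]; exact h0
    constructor
    · intro h
      rw [← heq] at h
      obtain ⟨y, hy, hyq⟩ := h
      have : y = q := g.injective hyq
      rwa [← this]
    · intro h
      rw [← heq]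
      exact ⟨q, h, rfl⟩
  have hmk : ∀ (p q : Fin 819), (mk p).testBit q = true → (q ∈ B ↔ p ∈ B) := by
    intro p q h
    obtain ⟨g, hg, hgq⟩ := mk_spec p q h
    have : g p = q := Fin.ext hgq
    rw [← this, hstab g hg]
  have key : ∀ q : Fin 819, q ∈ B ↔ (un (decide ((1 : Fin 819) ∈ B)) (decide ((9 : Fin 819) ∈ B))
      (decide ((25 : Fin 819) ∈ B))).testBit q = true := by
    intro q
    have hfull : (un true true true).testBit q = true := by
      rw [Nat.eq_of_beq_eq_true full, testBit_allOnes]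
      exact decide_eq_true q.2
    rw [testBit_un] at hfull ⊢
    simp only [decide_eq_true_eq, true_and] at hfull ⊢
    constructor
    · intro hq
      rcases hfull with h | h | h | h
      · exact Or.inl h
      · exact Or.inr (Or.inl ⟨(hmk 1 q h).mp hq, h⟩)
      · exact Or.inr (Or.inr (Or.inl ⟨(hmk 9 q h).mp hq, h⟩))
      · exact Or.inr (Or.inr (Or.inr ⟨(hmk 25 q h).mp hq, h⟩))
    · rintro (h | ⟨h1, h⟩ | ⟨h1, h⟩ | ⟨h1, h⟩)
      · have : q = 0 := Fin.ext h
        rw [this]; exact h0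
      · exact (hmk 1 q h).mpr h1
      · exact (hmk 9 q h).mpr h1
      · exact (hmk 25 q h).mpr h1
  set m := un (decide ((1 : Fin 819) ∈ B)) (decide ((9 : Fin 819) ∈ B)) (decide ((25 : Fin 819) ∈ B)) with hm
  have hck := ckU_all (decide ((1 : Fin 819) ∈ B)) (decide ((9 : Fin 819) ∈ B)) (decide ((25 : Fin 819) ∈ B))
  unfold ckU at hck
  rw [← hm] at hck
  have hncard : B.ncard = cnt 819 m := by
    rw [cnt_eq_fin]
    have : B = ((Finset.univ.filter (fun p : Fin 819 => m.testBit (p : ℕ) = true) : Finset (Fin 819)) :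
        Set (Fin 819)) := by
      ext q
      rw [key q]
      simp
    rw [this, Set.ncard_coe_finset]
  have hdvd : cnt 819 m ∣ 819 := by
    rw [← hncard]
    have := hB.ncard_dvd_card ⟨0, h0⟩
    simpa using this
  rw [Bool.or_eq_true, Bool.or_eq_true] at hck
  rcases hck with h | h | h
  · left
    have h1 : m = 1 := Nat.eq_of_beq_eq_true h
    intro x hx y hy
    rw [key, h1] at hx hy
    rw [show (1 : ℕ) = 2 ^ 0 from rfl, Nat.testBit_two_pow, decide_eq_true_eq] at hx hy
    exact Fin.ext (hx.symm.trans hy)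
  · right
    have h1 : m = allOnes 819 := Nat.eq_of_beq_eq_true h
    ext q
    rw [key, h1, testBit_allOnes]
    simp
  · exfalso
    have h1 : 819 % cnt 819 m = 0 := Nat.mod_eq_zero_of_dvd hdvd
    have h2 : Nat.mod 819 (cnt 819 m) = 0 := h1
    rw [h2] at h
    exact absurd h (by decide)

/-! ### transitivity, Iwasawa structure -/

theorem trans0 (q : Fin 819) : ∃ g ∈ PL, g 0 = q := by
  have h1 := Nat.le_of_ble_eq_true orb0
  rw [cnt_eq_fin] at h1
  have h2 : (Finset.univ.filter (fun p : Fin 819 => (bfs act [[1],[2],[3],[4],[5],[6]] 819 [0]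
      (Nat.shiftLeft 1 0)).testBit (p : ℕ) = true)) = Finset.univ := by
    apply Finset.eq_univ_of_card
    have := Finset.card_le_univ (Finset.univ.filter (fun p : Fin 819 => (bfs act [[1],[2],[3],[4],[5],[6]] 819 [0]
      (Nat.shiftLeft 1 0)).testBit (p : ℕ) = true))
    rw [Fintype.card_fin] at this ⊢
    omega
  have h3 : q ∈ (Finset.univ.filter (fun p : Fin 819 => (bfs act [[1],[2],[3],[4],[5],[6]] 819 [0]
      (Nat.shiftLeft 1 0)).testBit (p : ℕ) = true)) := by
    rw [h2]; exact Finset.mem_univ _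
  rw [Finset.mem_filter] at h3
  have m : ∀ x, r x ∈ ({r 1, r 2, r 3, r 4, r 5, r 6} : Set (Equiv.Perm (Fin 819))) → r x ∈ PL := fun x hx =>
    Subgroup.subset_closure hx
  have key := bfs_spec act (fun q => ∃ g ∈ PL, ((g 0 : Fin 819) : ℕ) = q) [[1],[2],[3],[4],[5],[6]] ?_ 819 [0]
    (Nat.shiftLeft 1 0) ?_ ?_ q h3.2
  · obtain ⟨g, hg, h⟩ := key
    exact ⟨g, hg, Fin.ext h⟩
  · intro w hw q hq
    obtain ⟨g, hg, rfl⟩ := hq
    have hw' : (∀ y ∈ w, isK y = true) ∧ ev (rho isTab) w ∈ PL := by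
      simp only [List.mem_cons, List.not_mem_nil, or_false] at hw
      rcases hw with rfl | rfl | rfl | rfl | rfl | rfl
      exacts [single_mem rfl (m 1 (by simp)), single_mem rfl (m 2 (by simp)), single_mem rfl (m 3 (by simp)),
        single_mem rfl (m 4 (by simp)), single_mem rfl (m 5 (by simp)), single_mem rfl (m 6 (by simp))]
    refine ⟨(ev (rho isTab) w)⁻¹ * g, PL.mul_mem (PL.inv_mem hw'.2) hg, ?_⟩
    rw [Equiv.Perm.mul_apply, ev_rho_inv_apply isTab hw'.1]
  · intro q hq
    rw [List.mem_singleton] at hq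
    exact ⟨1, PL.one_mem, by rw [hq]; rfl⟩
  · intro q hq
    have h0 : (Nat.lor 0 (Nat.shiftLeft 1 0)).testBit q = true := by
      have : Nat.lor 0 (Nat.shiftLeft 1 0) = Nat.shiftLeft 1 0 := Nat.zero_or _
      rw [this]; exact hq
    rcases bit_set _ _ _ h0 with hq | rfl
    · simp at hq
    · exact ⟨1, PL.one_mem, rfl⟩

instance instTransPL : MulAction.IsPretransitive PL (Fin 819) := by
  rw [MulAction.isPretransitive_iff_base (0 : Fin 819)]
  intro q
  obtain ⟨g, hg, h⟩ := trans0 q
  exact ⟨⟨g, hg⟩, h⟩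

instance instPrimPL : MulAction.IsPreprimitive PL (Fin 819) :=
  MulAction.IsPreprimitive.of_isTrivialBlock_base 0 fun h0 hB => block_trivial PC_le_PL h0 hB

theorem a_comm_PB : ∀ g ∈ PB, g * r 1 = r 1 * g := by
  obtain ⟨hc, hd, he, hs⟩ := a_central relP
  have ht : r 8 * r 1 = r 1 * r 8 := by
    have h1 := relP.ta
    calc r 8 * r 1 = r 1 * r 8 * ((r 8)⁻¹ * (r 1)⁻¹ * r 8 * r 1) := by group
      _ = r 1 * r 8 := by rw [h1, mul_one]
  have hle : PB ≤ Subgroup.centralizer {r 1} := by
    unfold PB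
    rw [Subgroup.closure_le]
    intro x hx
    rw [SetLike.mem_coe, Subgroup.mem_centralizer_singleton_iff]
    simp only [Set.mem_insert_iff, Set.mem_singleton_iff] at hx
    rcases hx with rfl | rfl | rfl | rfl | rfl | rfl
    exacts [rfl, hc, hd, he, hs, ht]
  intro g hg
  exact Subgroup.mem_centralizer_singleton_iff.mp (hle hg)

/-- the generators as elements of PL -/
theorem mem_PL {x : ℕ} (hx : r x ∈ ({r 1, r 2, r 3, r 4, r 5, r 6} : Set (Equiv.Perm (Fin 819)))) : r x ∈ PL :=
  Subgroup.subset_closure hx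

noncomputable def ga : PL := ⟨r 1, mem_PL (by simp)⟩
noncomputable def gb : PL := ⟨r 2, mem_PL (by simp)⟩
noncomputable def gc : PL := ⟨r 3, mem_PL (by simp)⟩
noncomputable def gd : PL := ⟨r 4, mem_PL (by simp)⟩
noncomputable def ge : PL := ⟨r 5, mem_PL (by simp)⟩
noncomputable def gs : PL := ⟨r 6, mem_PL (by simp)⟩

theorem relPL : RelD ga gb gc gd ge gs :=
  RelD.of_map PL.subtype PL.subtype_injective (relD_of_relK relP)

theorem gen_PL : Subgroup.closure ({ga, gb, gc, gd, ge, gs} : Set PL) = ⊤ := by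
  have h := Subgroup.closure_closure_coe_preimage (k := ({r 1, r 2, r 3, r 4, r 5, r 6} : Set (Equiv.Perm (Fin 819))))
  rw [eq_top_iff]
  refine le_trans (ge_of_eq h) ?_
  apply Subgroup.closure_mono
  intro x hx
  change x.1 ∈ ({r 1, r 2, r 3, r 4, r 5, r 6} : Set (Equiv.Perm (Fin 819))) at hx
  simp only [Set.mem_insert_iff, Set.mem_singleton_iff] at hx ⊢
  rcases hx with h | h | h | h | h | h
  · exact Or.inl (Subtype.ext h)
  · exact Or.inr (Or.inl (Subtype.ext h))
  · exact Or.inr (Or.inr (Or.inl (Subtype.ext h)))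
  · exact Or.inr (Or.inr (Or.inr (Or.inl (Subtype.ext h))))
  · exact Or.inr (Or.inr (Or.inr (Or.inr (Or.inl (Subtype.ext h)))))
  · exact Or.inr (Or.inr (Or.inr (Or.inr (Or.inr (Subtype.ext h)))))

/-- the conjugate of `a` attached to a point -/
def cset (x : Fin 819) : Set PL := {y | ∃ h : PL, h • (0 : Fin 819) = x ∧ y = h * ga * h⁻¹}

theorem cset_unique {x : Fin 819} {y z : PL} (hy : y ∈ cset x) (hz : z ∈ cset x) : y = z := by
  obtain ⟨h, hx, rfl⟩ := hy
  obtain ⟨k, kx, rfl⟩ := hz
  have h1 : (k⁻¹ * h) • (0 : Fin 819) = 0 := by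
    rw [mul_smul, hx, ← kx, inv_smul_smul]
  have h2 : ((k⁻¹ * h : PL) : Equiv.Perm (Fin 819)) ∈ PB := by
    rw [← stab_PK]
    exact ⟨PL_le_PK (k⁻¹ * h).2, (mem_stab _ _ _).mpr h1⟩
  have h3 : (k⁻¹ * h) * ga = ga * (k⁻¹ * h) := Subtype.ext (a_comm_PB _ h2)
  calc h * ga * h⁻¹ = k * ((k⁻¹ * h) * ga) * h⁻¹ := by group
    _ = k * (ga * (k⁻¹ * h)) * h⁻¹ := by rw [h3]
    _ = k * ga * k⁻¹ := by group

open Pointwise in
theorem cset_smul (g : PL) (x : Fin 819) : cset (g • x) = MulAut.conj g • cset x := by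
  ext y
  rw [Set.mem_smul_set]
  constructor
  · rintro ⟨h, hx, rfl⟩
    refine ⟨(g⁻¹ * h) * ga * (g⁻¹ * h)⁻¹, ⟨g⁻¹ * h, ?_, rfl⟩, ?_⟩
    · rw [mul_smul, hx, inv_smul_smul]
    · change g * ((g⁻¹ * h) * ga * (g⁻¹ * h)⁻¹) * g⁻¹ = _
      group
  · rintro ⟨z, ⟨h, hx, rfl⟩, rfl⟩
    refine ⟨g * h, by rw [mul_smul, hx], ?_⟩
    change g * (h * ga * h⁻¹) * g⁻¹ = _
    group

open Pointwise in
/-- the Iwasawa structure -/
noncomputable def iwa : MulAction.IwasawaStructure PL (Fin 819) where
  T x := Subgroup.closure (cset x)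
  is_comm x := Subgroup.isMulCommutative_closure (fun y hy z hz => by rw [cset_unique hy hz])
  is_conj g x := by rw [cset_smul, Subgroup.smul_closure]
  is_generator := by
    have h1 : Subgroup.normalClosure ({ga} : Set PL) = ⊤ :=
      relPL.normal_top gen_PL _ (Subgroup.subset_normalClosure rfl)
    rw [eq_top_iff, ← h1]
    unfold Subgroup.normalClosure
    rw [Subgroup.closure_le]
    intro y hy
    rw [Group.mem_conjugatesOfSet_iff] at hy
    obtain ⟨z, hz, hzy⟩ := hy
    rw [Set.mem_singleton_iff] at hz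
    subst hz
    rw [isConj_iff] at hzy
    obtain ⟨h, rfl⟩ := hzy
    exact (le_iSup (fun x => Subgroup.closure (cset x)) (h • (0 : Fin 819)))
      (Subgroup.subset_closure ⟨h, rfl, rfl⟩)

theorem simple_PL : IsSimpleGroup PL := by
  have hnt : Nontrivial PL := by
    rw [← Finite.one_lt_card_iff_nontrivial, card_PL]
    norm_num
  have hfaith : FaithfulSMul PL (Fin 819) := ⟨fun {g h} hgh => Subtype.ext (Equiv.ext hgh)⟩
  exact iwa.isSimpleGroup (relPL.perfect gen_PL) hfaith

end Cfsg.Agent.Th.D4Simple
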