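/-
Main theorem on 3D4(2): in a group with `RelK a b c d e s t` in which `closure {a,b,c,d,e,s,t}` has order 634023936,
the subgroup `closure {a,b,c,d,e,s}` is simple of order 211341312.
-/
import Cfsg.Agent.Th.D4Simple

set_option autoImplicit false

namespace Cfsg.Agent.Th.D4Main

open Cfsg.Agent.Th.Base Cfsg.Agent.Th.Word Cfsg.Agent.Th.PermTab Cfsg.Agent.Th.KOracle Cfsg.Agent.Th.D4
  Cfsg.Agent.Th.D4Perm Cfsg.Agent.Th.D4Simple

theorem inj_of_card {A B : Type*} [Group A] [Group B] (S : Subgroup A) [Finite S] (f : A →* B)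
    (h : Nat.card S ≤ Nat.card (S.map f)) : Function.Injective (f.comp S.subtype) := by
  have hr : (f.comp S.subtype).range = S.map f := by
    rw [MonoidHom.range_eq_map, ← Subgroup.map_map, ← MonoidHom.range_eq_map, Subgroup.range_subtype]
  have h1 : Function.Surjective (f.comp S.subtype).rangeRestrict := MonoidHom.rangeRestrict_surjective _
  have h2 : Nat.card S = Nat.card (f.comp S.subtype).range := by
    apply le_antisymm
    · rw [hr]; exact h
    · exact Nat.card_le_card_of_surjective _ h1
  have h3 : Function.Bijective (f.comp S.subtype).rangeRestrict :=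
    (Nat.bijective_iff_surjective_and_card _).mpr ⟨h1, h2⟩
  intro x y hxy
  exact h3.1 (Subtype.ext hxy)

theorem equiv_map {A B : Type*} [Group A] [Group B] (S T : Subgroup A) (hT : T ≤ S) (f : A →* B)
    (hf : Function.Injective (f.comp S.subtype)) : Nonempty (T ≃* T.map f) := by
  have hi : Function.Injective (f.comp T.subtype) := by
    intro x y hxy
    have h1 : f x.1 = f y.1 := hxy
    have h2 : (⟨x.1, hT x.2⟩ : S) = ⟨y.1, hT y.2⟩ := hf h1
    have h3 : x.1 = y.1 := congrArg (fun z : S => z.1) h2
    exact Subtype.ext h3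
  have hr : (f.comp T.subtype).range = T.map f := by
    rw [MonoidHom.range_eq_map, ← Subgroup.map_map, ← MonoidHom.range_eq_map, Subgroup.range_subtype]
  exact ⟨(MonoidHom.ofInjective hi).trans (MulEquiv.subgroupCongr hr)⟩

theorem equiv_PL {G : Type*} [Group G] {a b c d e s t : G} (h : RelK a b c d e s t)
    (hc : Nat.card (Subgroup.closure ({a, b, c, d, e, s, t} : Set G)) = 634023936) :
    Nonempty (Subgroup.closure ({a, b, c, d, e, s} : Set G) ≃* PL) := by
  have hP := relK_prod h relP
  obtain ⟨hfin, hle⟩ := Bounds.cardK hP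
  set S : Subgroup (G × Equiv.Perm (Fin 819)) := Subgroup.closure {(a, r 1), (b, r 2), (c, r 3), (d, r 4),
    (e, r 5), (s, r 6), (t, r 8)} with hS
  set T : Subgroup (G × Equiv.Perm (Fin 819)) := Subgroup.closure {(a, r 1), (b, r 2), (c, r 3), (d, r 4),
    (e, r 5), (s, r 6)} with hT
  have hTS : T ≤ S := Subgroup.closure_mono (by
    intro x hx
    simp only [Set.mem_insert_iff, Set.mem_singleton_iff] at hx ⊢
    tauto)
  have m1 : S.map (MonoidHom.fst G (Equiv.Perm (Fin 819))) = Subgroup.closure ({a, b, c, d, e, s, t} : Set G) := by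
    rw [hS, MonoidHom.map_closure]
    simp only [Set.image_insert_eq, Set.image_singleton, MonoidHom.coe_fst]
  have m2 : S.map (MonoidHom.snd G (Equiv.Perm (Fin 819))) = PK := by
    rw [hS, MonoidHom.map_closure]
    simp only [Set.image_insert_eq, Set.image_singleton, MonoidHom.coe_snd]
    rfl
  have m3 : T.map (MonoidHom.fst G (Equiv.Perm (Fin 819))) = Subgroup.closure ({a, b, c, d, e, s} : Set G) := by
    rw [hT, MonoidHom.map_closure]
    simp only [Set.image_insert_eq, Set.image_singleton, MonoidHom.coe_fst]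
  have m4 : T.map (MonoidHom.snd G (Equiv.Perm (Fin 819))) = PL := by
    rw [hT, MonoidHom.map_closure]
    simp only [Set.image_insert_eq, Set.image_singleton, MonoidHom.coe_snd]
    rfl
  have i1 := inj_of_card S (MonoidHom.fst G (Equiv.Perm (Fin 819))) (by rw [m1, hc]; exact hle)
  have i2 := inj_of_card S (MonoidHom.snd G (Equiv.Perm (Fin 819))) (by rw [m2, card_PK]; exact hle)
  obtain ⟨e1⟩ := equiv_map S T hTS _ i1
  obtain ⟨e2⟩ := equiv_map S T hTS _ i2
  rw [m3] at e1
  rw [m4] at e2
  exact ⟨e1.symm.trans e2⟩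

/-- the subgroup `closure {a,b,c,d,e,s}` has order 211341312 -/
theorem card_L {G : Type*} [Group G] {a b c d e s t : G} (h : RelK a b c d e s t)
    (hc : Nat.card (Subgroup.closure ({a, b, c, d, e, s, t} : Set G)) = 634023936) :
    Nat.card (Subgroup.closure ({a, b, c, d, e, s} : Set G)) = 211341312 := by
  obtain ⟨f⟩ := equiv_PL h hc
  rw [Nat.card_congr f.toEquiv, card_PL]

/-- the subgroup `closure {a,b,c,d,e,s}` is simple -/
theorem isSimple_L {G : Type*} [Group G] {a b c d e s t : G} (h : RelK a b c d e s t)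
    (hc : Nat.card (Subgroup.closure ({a, b, c, d, e, s, t} : Set G)) = 634023936) :
    IsSimpleGroup (Subgroup.closure ({a, b, c, d, e, s} : Set G)) := by
  obtain ⟨f⟩ := equiv_PL h hc
  have hs := simple_PL
  have : Nontrivial (Subgroup.closure ({a, b, c, d, e, s} : Set G)) := f.toEquiv.nontrivial
  exact IsSimpleGroup.isSimpleGroup_of_surjective f.symm.toMonoidHom f.symm.surjective

end Cfsg.Agent.Th.D4Main
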