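/-
S0464 from S1700 (the presented Thompson group is simple of the right order) and S1706 (index 143127000):
the image of `rho` in GL(248, 3).
-/
import Cfsg.Agent.Th.Hom248
import Cfsg.Agent.Th.D4Main
import Cfsg.Prelude.Def_Sporadic
import Cfsg.Prelude.Def_Exceptional

set_option autoImplicit false
set_option maxHeartbeats 400000

namespace Cfsg.Agent.Th.MatRealization

open Cfsg.Agent.Th.Base hiding gen
open Cfsg.Agent.Th.Gen248
open Cfsg.Agent.Th.Hom248 hiding gen

set_option maxRecDepth 100000 in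
theorem a_ne : Nat.beq (evN false (.g .a)) (evN false .one) = false := by decide +kernel

theorem rho_a_ne : rho (PresentedGroup.of Cfsg.Spor.Th.Gen.a) ≠ 1 := by
  rw [rho_of]
  exact evG_ne a_ne

theorem rho_injective [IsSimpleGroup Cfsg.Spor.Th] : Function.Injective rho := by
  rw [← MonoidHom.ker_eq_bot_iff]
  rcases (inferInstance : rho.ker.Normal).eq_bot_or_eq_top with h | h
  · exact h
  · exfalso
    apply rho_a_ne
    have : (PresentedGroup.of Cfsg.Spor.Th.Gen.a : Cfsg.Spor.Th) ∈ rho.ker := by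
      rw [h]; exact Subgroup.mem_top _
    exact this

/-- the subgroup 3D4(2):3 -/
theorem map_K : ((Subgroup.closure ({Cfsg.Spor.Th.a, Cfsg.Spor.Th.b, Cfsg.Spor.Th.c, Cfsg.Spor.Th.d, Cfsg.Spor.Th.e,
    Cfsg.Spor.Th.s, Cfsg.Spor.Th.t} : Set (FreeGroup Cfsg.Spor.Th.Gen))).map (PresentedGroup.mk
    (Cfsg.Spor.coxRelators Cfsg.Spor.Th.edges ∪ {r | r ∈ Cfsg.Spor.Th.extra}))) =
    Subgroup.closure {Base.gen .a, Base.gen .b, Base.gen .c, Base.gen .d, Base.gen .e, Base.gen .s, Base.gen .t} := by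
  rw [MonoidHom.map_closure]
  simp only [Set.image_insert_eq, Set.image_singleton]
  rfl

theorem main (hTh : Cfsg.IsTh Cfsg.Spor.Th)
    (hidx : (((Subgroup.closure ({Cfsg.Spor.Th.a, Cfsg.Spor.Th.b, Cfsg.Spor.Th.c, Cfsg.Spor.Th.d, Cfsg.Spor.Th.e,
      Cfsg.Spor.Th.s, Cfsg.Spor.Th.t} : Set (FreeGroup Cfsg.Spor.Th.Gen))).map (PresentedGroup.mk
      (Cfsg.Spor.coxRelators Cfsg.Spor.Th.edges ∪ {r | r ∈ Cfsg.Spor.Th.extra})))).index = 143127000) :
    ∃ H : Subgroup (GL (Fin 248) (ZMod 3)), Cfsg.IsTh H ∧ ∃ K : Subgroup H, K.index = 143127000 ∧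
      ∃ L : Subgroup H, L ≤ K ∧ Cfsg.Is3D4 L := by
  obtain ⟨hs, hcard⟩ := hTh
  have hinj := rho_injective
  rw [map_K] at hidx
  set K0 : Subgroup Cfsg.Spor.Th := Subgroup.closure {Base.gen .a, Base.gen .b, Base.gen .c, Base.gen .d, Base.gen .e, Base.gen .s, Base.gen .t}
    with hK0
  set L0 : Subgroup Cfsg.Spor.Th := Subgroup.closure {Base.gen .a, Base.gen .b, Base.gen .c, Base.gen .d, Base.gen .e, Base.gen .s} with hL0
  have hLK : L0 ≤ K0 := Subgroup.closure_mono (by
    intro x hx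
    simp only [Set.mem_insert_iff, Set.mem_singleton_iff] at hx ⊢
    tauto)
  have hcK : Nat.card K0 = 634023936 := by
    have h1 := K0.card_mul_index
    rw [hidx, hcard] at h1
    omega
  have hcL : Nat.card L0 = 211341312 := D4Main.card_L rel_th.K hcK
  have hsL : IsSimpleGroup L0 := D4Main.isSimple_L rel_th.K hcK
  let e : Cfsg.Spor.Th ≃* rho.range := MonoidHom.ofInjective hinj
  have hntr : Nontrivial rho.range := e.symm.toEquiv.nontrivial
  refine ⟨rho.range, ⟨?_, ?_⟩, K0.map e.toMonoidHom, ?_, L0.map e.toMonoidHom, Subgroup.map_mono hLK, ?_⟩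
  · exact IsSimpleGroup.isSimpleGroup_of_surjective e.toMonoidHom e.surjective
  · rw [← Nat.card_congr e.toEquiv, hcard]
  · rw [← hidx]
    exact Subgroup.index_map_of_bijective e.bijective K0
  · let f : L0 ≃* L0.map e.toMonoidHom := L0.equivMapOfInjective e.toMonoidHom e.injective
    have : Nontrivial (L0.map e.toMonoidHom) := f.symm.toEquiv.nontrivial
    refine ⟨IsSimpleGroup.isSimpleGroup_of_surjective f.toMonoidHom f.surjective, 2, ?_, ?_⟩
    · exact Nat.prime_two.isPrimePow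
    · rw [← Nat.card_congr f.toEquiv, hcL]
      norm_num

end Cfsg.Agent.Th.MatRealization
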