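/-
Column description of the root element matrices `x_r(t)`: for a Chevalley datum `D` the list `recipe D r` of quadruples
(target k, source u, coefficient c, exponent e) such that column k of `A * x_r(t)` is column k of `A` plus the sum of
`c t^e` times column u of `A`.  Also: a product of root elements which is invertible lies in the group.
-/
import Cfsg.Agent.ChevalleyStructure.SparseEng

set_option autoImplicit false

namespace Cfsg.Agent.Th.E8Recipe

open Cfsg.Lie Cfsg.Agent.ChevalleyStructure.SparseEng

variable (D : ChevalleyDatum)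

/-- (target, source, coefficient, exponent) -/
def recipe (r : ℕ) : List (ℕ × ℕ × ℤ × ℕ) :=
  (List.range D.rank).map (fun k => (k, D.rank + r, -((D.cartanSR.getD k #[]).getD r 0), 1)) ++
  ((D.rank + D.negIdx.getD r 0, D.rank + r, -1, 2) ::
    (List.range D.rank).map (fun i => (D.rank + D.negIdx.getD r 0, i, (D.coroot.getD r #[]).getD i 0, 1))) ++
  (D.chain.getD r #[]).toList.flatMap (fun e => (e.2.toList.zipIdx).map fun q =>
    (D.rank + e.1, D.rank + q.1.1, q.1.2, q.2 + 1))

/-- side conditions on row `r` of the tables -/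
def good (r : ℕ) : Bool :=
  (! Nat.beq (D.negIdx.getD r 0) r) &&
  (D.chain.getD r #[]).toList.all (fun e => (! Nat.beq e.1 r) && (! Nat.beq e.1 (D.negIdx.getD r 0))) &&
  (recipe D r).all (fun a => Nat.blt a.2.1 (D.rank + D.nroots))

variable {D}
variable {F : Type*} [Field F]

/-- value of a recipe at target `k` -/
def rsum (v : ℕ → F) (t : F) (l : List (ℕ × ℕ × ℤ × ℕ)) (k : ℕ) : F :=
  (l.map fun a => if k = a.1 then ((a.2.2.1 : ℤ) : F) * t ^ a.2.2.2 * v a.2.1 else 0).sum

theorem rsum_nil (v : ℕ → F) (t : F) (k : ℕ) : rsum v t [] k = 0 := rfl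

theorem rsum_cons (v : ℕ → F) (t : F) (a : ℕ × ℕ × ℤ × ℕ) (l : List (ℕ × ℕ × ℤ × ℕ)) (k : ℕ) :
    rsum v t (a :: l) k = (if k = a.1 then ((a.2.2.1 : ℤ) : F) * t ^ a.2.2.2 * v a.2.1 else 0) + rsum v t l k := by
  simp [rsum]

theorem rsum_append (v : ℕ → F) (t : F) (l l' : List (ℕ × ℕ × ℤ × ℕ)) (k : ℕ) :
    rsum v t (l ++ l') k = rsum v t l k + rsum v t l' k := by
  simp [rsum]

theorem rsum_eq_zero (v : ℕ → F) (t : F) (l : List (ℕ × ℕ × ℤ × ℕ)) (k : ℕ) (h : ∀ a ∈ l, k ≠ a.1) :
    rsum v t l k = 0 := by
  induction l with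
  | nil => rfl
  | cons a l ih =>
    rw [rsum_cons, ih (fun a ha => h a (by simp [ha])), if_neg (h a (by simp)), add_zero]

/-- value of an `act` list -/
def asum (v : ℕ → F) (t : F) (l : List (ℕ × ℤ × ℕ)) : F :=
  (l.map fun a => ((a.2.1 : ℤ) : F) * t ^ a.2.2 * v a.1).sum

theorem asum_cons (v : ℕ → F) (t : F) (a : ℕ × ℤ × ℕ) (l : List (ℕ × ℤ × ℕ)) :
    asum v t (a :: l) = ((a.2.1 : ℤ) : F) * t ^ a.2.2 * v a.1 + asum v t l := by
  simp [asum]

theorem asum_nil (v : ℕ → F) (t : F) : asum v t [] = 0 := rfl

theorem asum_append (v : ℕ → F) (t : F) (l l' : List (ℕ × ℤ × ℕ)) :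
    asum v t (l ++ l') = asum v t l + asum v t l' := by
  simp [asum]

theorem second_sum (v : ℕ → F) (t : F) (k0 k : ℕ) (f : ℕ → ℤ) (l : List ℕ) :
    rsum v t (l.map fun i => (k0, i, f i, 1)) k =
      if k = k0 then asum v t (l.map fun i => (i, f i, 1)) else 0 := by
  induction l with
  | nil => simp [rsum, asum]
  | cons q l ih =>
    rw [List.map_cons, List.map_cons, rsum_cons, asum_cons, ih]
    by_cases h : k = k0 <;> simp [h]

theorem first_sum (v : ℕ → F) (t : F) (n : ℕ) (u : ℕ) (f : ℕ → ℤ) (k : ℕ) :
    rsum v t ((List.range n).map fun i => (i, u, f i, 1)) k = if k < n then ((f k : ℤ) : F) * t ^ 1 * v u else 0 := by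
  induction n with
  | zero => simp [rsum]
  | succ n ih =>
    rw [List.range_succ, List.map_append, rsum_append, ih]
    simp only [List.map_cons, List.map_nil, rsum_cons, rsum_nil, add_zero]
    by_cases h1 : k < n
    · have h2 : k ≠ n := by omega
      have h3 : k < n + 1 := by omega
      simp [h1, h2, h3]
    · by_cases h2 : k = n
      · subst h2
        simp
      · have h3 : ¬ k < n + 1 := by omega
        simp [h1, h2, h3]

theorem inner_sum (v : ℕ → F) (t : F) (d k s : ℕ) (l : List ((ℕ × ℤ) × ℕ)) :
    rsum v t (l.map fun q => (d + s, d + q.1.1, q.1.2, q.2 + 1)) k =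
      if k = d + s then asum v t (l.map fun q => (d + q.1.1, q.1.2, q.2 + 1)) else 0 := by
  induction l with
  | nil => simp [rsum, asum]
  | cons q l ih =>
    rw [List.map_cons, List.map_cons, rsum_cons, asum_cons, ih]
    by_cases h : k = d + s <;> simp [h]

theorem chain_sum (v : ℕ → F) (t : F) (d k : ℕ) (hk : d ≤ k) (l : List (ℕ × Array (ℕ × ℤ))) :
    rsum v t (l.flatMap fun e => (e.2.toList.zipIdx).map fun q => (d + e.1, d + q.1.1, q.1.2, q.2 + 1)) k =
      asum v t ((l.filter (fun e => e.1 = k - d)).flatMap
        fun e => (e.2.toList.zipIdx).map fun q => (d + q.1.1, q.1.2, q.2 + 1)) := by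
  induction l with
  | nil => rfl
  | cons e l ih =>
    rw [List.flatMap_cons, rsum_append, ih, inner_sum]
    by_cases h : e.1 = k - d
    · have h' : k = d + e.1 := by omega
      rw [if_pos h', List.filter_cons_of_pos (by simpa using h), List.flatMap_cons, asum_append]
    · have h' : ¬ k = d + e.1 := by omega
      rw [if_neg h', List.filter_cons_of_neg (by simpa using h), zero_add]

theorem act_sum (v : ℕ → F) (t : F) {r : ℕ} (hr : r < D.nroots) (hg : good D r = true) {k : ℕ}
    (hk : k < D.rank + D.nroots) : asum v t (act D r k) = v k + rsum v t (recipe D r) k := by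
  simp only [good, Bool.and_eq_true, Bool.not_eq_true', List.all_eq_true] at hg
  obtain ⟨⟨hn, hch⟩, -⟩ := hg
  have hn' : D.negIdx.getD r 0 ≠ r := fun h => by
    rw [h] at hn
    simp at hn
  have hne : ∀ e ∈ (D.chain.getD r #[]).toList, e.1 ≠ r ∧ e.1 ≠ D.negIdx.getD r 0 := by
    intro e he
    have h := hch e he
    refine ⟨fun h' => ?_, fun h' => ?_⟩
    · rw [h'] at h
      simp at h
    · rw [h'] at h
      simp at h
  unfold recipe
  rw [rsum_append, rsum_append, rsum_cons, first_sum, second_sum]
  unfold act
  rw [if_pos hr]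
  by_cases h1 : k < D.rank
  · have e1 : ¬ k = D.rank + D.negIdx.getD r 0 := by omega
    have e2 : rsum v t ((D.chain.getD r #[]).toList.flatMap (fun e => (e.2.toList.zipIdx).map fun q =>
        (D.rank + e.1, D.rank + q.1.1, q.1.2, q.2 + 1))) k = 0 := by
      apply rsum_eq_zero
      intro a ha
      rw [List.mem_flatMap] at ha
      obtain ⟨e, -, he⟩ := ha
      rw [List.mem_map] at he
      obtain ⟨q, -, rfl⟩ := he
      simp only
      omega
    rw [if_pos h1, if_pos h1, e2, if_neg e1, if_neg e1]
    simp [asum]
  · rw [if_neg h1, if_pos hk, if_neg h1, chain_sum v t D.rank k (by omega)]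
    by_cases h2 : k - D.rank = r
    · have e1 : ¬ k = D.rank + D.negIdx.getD r 0 := by omega
      have e2 : (D.chain.getD r #[]).toList.filter (fun e => e.1 = k - D.rank) = [] := by
        rw [List.filter_eq_nil_iff]
        intro e he
        have := (hne e he).1
        simp only [decide_eq_true_eq]
        omega
      rw [if_pos h2, if_neg e1, if_neg e1, e2]
      simp [asum]
    · rw [if_neg h2]
      by_cases h3 : k - D.rank = D.negIdx.getD r 0
      · have e1 : k = D.rank + D.negIdx.getD r 0 := by omega
        have e2 : (D.chain.getD r #[]).toList.filter (fun e => e.1 = k - D.rank) = [] := by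
          rw [List.filter_eq_nil_iff]
          intro e he
          have := (hne e he).2
          simp only [decide_eq_true_eq]
          omega
        rw [if_pos h3, if_pos e1, if_pos e1, e2, asum_cons, asum_cons]
        simp only [List.flatMap_nil, asum_nil, add_zero, zero_add, Int.cast_one, pow_zero, one_mul]
      · have e1 : ¬ k = D.rank + D.negIdx.getD r 0 := by omega
        rw [if_neg h3, if_neg e1, if_neg e1, asum_cons]
        simp only [add_zero, zero_add, Int.cast_one, pow_zero, one_mul]

/-- code of an index -/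
def code (D : ChevalleyDatum) : D.Idx → ℕ
  | Sum.inl i => i.val
  | Sum.inr s => D.rank + s.val

theorem code_lt (a : D.Idx) : code D a < D.rank + D.nroots := by
  rcases a with i | s
  · have := i.2
    simp only [code]
    omega
  · have := s.2
    simp only [code]
    omega

theorem code_injective : Function.Injective (code D) := by
  intro a b h
  rcases a with i | s <;> rcases b with j | u
  · simp only [code] at h
    rw [Fin.ext h]
  · simp only [code] at h
    have := i.2
    omega
  · simp only [code] at h
    have := j.2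
    omega
  · simp only [code] at h
    rw [Fin.ext (show s.val = u.val by omega)]

theorem exists_code {k : ℕ} (hk : k < D.rank + D.nroots) : ∃ a : D.Idx, code D a = k := by
  by_cases h : k < D.rank
  · exact ⟨Sum.inl ⟨k, h⟩, rfl⟩
  · refine ⟨Sum.inr ⟨k - D.rank, by omega⟩, ?_⟩
    simp only [code]
    omega

theorem bvec_code (a b : D.Idx) : bvec D F (code D a) b = if b = a then 1 else 0 := by
  have key : bvec D F (code D a) b = if code D b = code D a then 1 else 0 := by
    rcases b with i | s <;> rfl
  rw [key]
  by_cases h : b = a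
  · rw [h]; simp
  · rw [if_neg h, if_neg (fun h' => h (code_injective h'))]

theorem dot_bvec (v : ℕ → F) {k : ℕ} (hk : k < D.rank + D.nroots) :
    ∑ a : D.Idx, v (code D a) * bvec D F k a = v k := by
  obtain ⟨b, rfl⟩ := exists_code hk
  simp [bvec_code]

theorem dot_evalAct (v : ℕ → F) (t : F) (l : List (ℕ × ℤ × ℕ)) (h : ∀ a ∈ l, a.1 < D.rank + D.nroots) :
    ∑ a : D.Idx, v (code D a) * (evalAct t l : D.Idx → F) a = asum v t l := by
  induction l with
  | nil => simp [evalAct, asum]
  | cons q l ih =>
    have e : (evalAct t (q :: l) : D.Idx → F) = (((q.2.1 : ℤ) : F) * t ^ q.2.2) • bvec D F q.1 + evalAct t l := by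
      simp [evalAct]
    rw [e, asum_cons, ← ih (fun a ha => h a (by simp [ha])), ← dot_bvec v (h q (by simp)), Finset.mul_sum,
      ← Finset.sum_add_distrib]
    apply Finset.sum_congr rfl
    intro a _
    simp only [Pi.add_apply, Pi.smul_apply, smul_eq_mul]
    ring

theorem act_lt {r : ℕ} (hr : r < D.nroots) (hg : good D r = true) {k : ℕ} (hk : k < D.rank + D.nroots) :
    ∀ a ∈ act D r k, a.1 < D.rank + D.nroots := by
  simp only [good, Bool.and_eq_true, Bool.not_eq_true', List.all_eq_true] at hg
  obtain ⟨-, hrec⟩ := hg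
  have hrec' : ∀ a ∈ recipe D r, a.2.1 < D.rank + D.nroots := by
    intro a ha
    have := hrec a ha
    simp only [Nat.blt_eq] at this
    exact this
  unfold act
  rw [if_pos hr]
  intro a ha
  split_ifs at ha with h1 h2 h3
  · simp only [List.mem_cons, List.not_mem_nil, or_false] at ha
    rcases ha with rfl | rfl
    · exact hk
    · simp only; omega
  · simp only [List.mem_cons, List.not_mem_nil, or_false] at ha
    subst ha
    exact hk
  · simp only [List.mem_cons, List.mem_map, List.mem_range] at ha
    rcases ha with rfl | rfl | ⟨i, hi, rfl⟩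
    · exact hk
    · simp only; omega
    · simp only; omega
  · simp only [List.mem_cons, List.mem_flatMap, List.mem_map, List.mem_filter] at ha
    rcases ha with rfl | ⟨e, ⟨he, -⟩, q, hq, rfl⟩
    · exact hk
    · have := hrec' (D.rank + e.1, D.rank + q.1.1, q.1.2, q.2 + 1) (by
        unfold recipe
        apply List.mem_append_right
        rw [List.mem_flatMap]
        exact ⟨e, he, List.mem_map.2 ⟨q, hq, rfl⟩⟩)
      exact this

/-- column formula for right multiplication by a root element -/
theorem sum_mul_xMat (v : ℕ → F) (t : F) (r : Fin D.nroots) (hg : good D r.val = true) (col : D.Idx) :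
    ∑ row : D.Idx, v (code D row) * D.xMat F r t row col =
      v (code D col) + rsum v t (recipe D r.val) (code D col) := by
  have h := xMat_mulVec (D := D) (F := F) r.val (code D col) t
  have hx : D.x F r.val t = D.xMat F r t := dif_pos r.2
  rw [hx] at h
  have e : (D.xMat F r t).mulVec (bvec D F (code D col)) = fun row => D.xMat F r t row col := by
    have : bvec D F (code D col) = Pi.single col 1 := by
      ext b
      rw [bvec_code, Pi.single_apply]
    rw [this, Matrix.mulVec_single_one]
    rfl
  rw [e] at h
  have hrow : ∀ row, D.xMat F r t row col = (evalAct t (act D r.val (code D col)) : D.Idx → F) row :=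
    fun row => congrFun h row
  simp only [hrow]
  rw [dot_evalAct v t _ (act_lt r.2 hg (code_lt col)), act_sum v t r.2 hg (code_lt col)]

/-- an invertible product of root elements lies in the Chevalley group -/
theorem mem_group_of_prod (w : List (Fin D.nroots × F)) : ∀ (A : GL D.Idx F)
    (_ : (A : Matrix D.Idx D.Idx F) = (w.map fun p => D.xMat F p.1 p.2).prod), A ∈ D.group F := by
  induction w with
  | nil =>
    intro A h
    have : A = 1 := Units.ext h
    rw [this]
    exact one_mem _
  | cons p w ih =>
    intro A h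
    rw [List.map_cons, List.prod_cons] at h
    set X := D.xMat F p.1 p.2 with hX
    set P := (w.map fun p => D.xMat F p.1 p.2).prod with hP
    have hu : IsUnit (X * P).det := by
      rw [← h]
      exact (Matrix.isUnit_iff_isUnit_det _).1 A.isUnit
    rw [Matrix.det_mul, IsUnit.mul_iff] at hu
    obtain ⟨x, hx⟩ := (Matrix.isUnit_iff_isUnit_det X).2 hu.1
    obtain ⟨q, hq⟩ := (Matrix.isUnit_iff_isUnit_det P).2 hu.2
    have hA : A = x * q := by
      apply Units.ext
      rw [h, Units.val_mul, hx, hq]
    rw [hA]
    exact mul_mem (Subgroup.subset_closure ⟨p.1, p.2, by rw [hx, hX]⟩) (ih q (by rw [hq, hP]))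

end Cfsg.Agent.Th.E8Recipe
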