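/-
Column operations on packed matrices over `ZMod p` (format of `MatEngine`): for a list of triples (target s, source u,
coefficient c) add `c` times column `u` of `x` to column `s`, all at once, then reduce mod `p`.
-/
import Cfsg.Agent.Th.Words248

set_option autoImplicit false

namespace Cfsg.Agent.Th.E8Step

open Finset Cfsg.Agent.Th.MatEngine Cfsg.Agent.Th.Words248

/-- add `c` times column `u` of `x` to column `s` of `acc` -/
def addCol (b cm x acc s u c : ℕ) : ℕ :=
  Nat.add acc (Nat.shiftLeft (Nat.mul c (Nat.land (Nat.shiftRight x (Nat.mul b u)) cm)) (Nat.mul b s))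

theorem enc_add_single (b n : ℕ) (D : ℕ → ℕ) (s e : ℕ) (hs : s < n) :
    enc b D n + e * 2 ^ (b * s) = enc b (fun j => D j + if j = s then e else 0) n := by
  unfold enc
  simp only [add_mul, sum_add_distrib]
  congr 1
  rw [sum_eq_single s]
  · simp
  · intro j _ hj
    simp [hj]
  · intro h
    exact absurd (mem_range.2 hs) h

theorem addCol_spec (b n m x : ℕ) (D : ℕ → ℕ → ℕ) (s u c : ℕ) (hs : s < n) (hu : u < n) :
    addCol b (enc (b * n) (fun _ => 2 ^ b - 1) m) x (enc (b * n) (fun i => enc b (D i) n) m) s u c =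
      enc (b * n) (fun i => enc b (fun j => D i j + if j = s then c * ent b n x i u else 0) n) m := by
  unfold addCol
  have h1 := col_extract b n m x u hu
  change enc (b * n) (fun i => enc b (D i) n) m +
    (c * Nat.land (x >>> (b * u)) (enc (b * n) (fun _ => 2 ^ b - 1) m)) <<< (b * s) = _
  rw [h1, mul_enc, Nat.shiftLeft_eq, enc_mul, enc_add]
  apply enc_congr
  intro i _
  exact enc_add_single b n (D i) s _ hs

/-- all column additions of a list -/
noncomputable def addCols (b cm x : ℕ) (L : List (ℕ × ℕ × ℕ)) (acc : ℕ) : ℕ :=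
  List.rec (motive := fun _ => ℕ → ℕ) (fun acc => acc)
    (fun a _ ih acc => force (addCol b cm x acc a.1 a.2.1 a.2.2) ih) L acc

theorem addCols_nil (b cm x acc : ℕ) : addCols b cm x [] acc = acc := rfl

theorem addCols_cons (b cm x : ℕ) (a : ℕ × ℕ × ℕ) (L : List (ℕ × ℕ × ℕ)) (acc : ℕ) :
    addCols b cm x (a :: L) acc = addCols b cm x L (addCol b cm x acc a.1 a.2.1 a.2.2) := by
  change force (addCol b cm x acc a.1 a.2.1 a.2.2) (addCols b cm x L) = _
  rw [force_eq]

/-- value of the list at target `j` -/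
def lsum (w : ℕ → ℕ) (L : List (ℕ × ℕ × ℕ)) (j : ℕ) : ℕ :=
  (L.map fun a => if j = a.1 then a.2.2 * w a.2.1 else 0).sum

theorem lsum_cons (w : ℕ → ℕ) (a : ℕ × ℕ × ℕ) (L : List (ℕ × ℕ × ℕ)) (j : ℕ) :
    lsum w (a :: L) j = (if j = a.1 then a.2.2 * w a.2.1 else 0) + lsum w L j := by
  simp [lsum]

theorem lsum_le (w : ℕ → ℕ) (B C : ℕ) (L : List (ℕ × ℕ × ℕ)) (j : ℕ) (hw : ∀ a ∈ L, w a.2.1 ≤ B)
    (hc : ∀ a ∈ L, a.2.2 ≤ C) : lsum w L j ≤ L.length * (C * B) := by
  induction L with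
  | nil => simp [lsum]
  | cons a L ih =>
    rw [lsum_cons, List.length_cons, add_mul, one_mul, add_comm]
    apply Nat.add_le_add (ih (fun a ha => hw a (by simp [ha])) (fun a ha => hc a (by simp [ha])))
    split_ifs
    · exact Nat.mul_le_mul (hc a (by simp)) (hw a (by simp))
    · exact Nat.zero_le _

theorem addCols_spec (b n m x : ℕ) (L : List (ℕ × ℕ × ℕ)) (hL : ∀ a ∈ L, a.1 < n ∧ a.2.1 < n) (D : ℕ → ℕ → ℕ) :
    addCols b (enc (b * n) (fun _ => 2 ^ b - 1) m) x L (enc (b * n) (fun i => enc b (D i) n) m) =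
      enc (b * n) (fun i => enc b (fun j => D i j + lsum (ent b n x i) L j) n) m := by
  induction L generalizing D with
  | nil =>
    rw [addCols_nil]
    simp [lsum]
  | cons a L ih =>
    have ha := hL a (by simp)
    rw [addCols_cons, addCol_spec b n m x D _ _ _ ha.1 ha.2, ih (fun a ha => hL a (by simp [ha]))]
    apply enc_congr
    intro i _
    apply enc_congr
    intro j _
    rw [lsum_cons]
    ring

theorem enc_ent (b n m x : ℕ) (hx : x < 2 ^ (b * n * m)) :
    enc (b * n) (fun i => enc b (ent b n x i) n) m = x := by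
  conv_rhs => rw [← enc_dg (b * n) m x hx]
  apply enc_congr
  intro i _
  exact enc_dg b n _ (dg_lt _ _ _)

/-- reduction mod `p` of a packed matrix with bounded digits -/
theorem red_mat {b n m p k : ℕ} (hb : 0 < b) (hp : 0 < p) (hk : p * 2 ^ k ≤ 2 * 2 ^ (b - 1)) (D : ℕ → ℕ → ℕ)
    (B : ℕ) (hD : ∀ i < m, ∀ j < n, D i j ≤ B) (h1 : B < p * 2 ^ k) (h2 : B < 2 ^ (b - 1) + p * 2 ^ (k - 1))
    (h3 : B < 2 ^ b) :
    RValid b n m p (red b p (enc b (fun _ => 1) (n * m)) k (enc (b * n) (fun i => enc b (D i) n) m)) ∧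
    ∀ i < m, ∀ j < n, ent b n (red b p (enc b (fun _ => 1) (n * m)) k (enc (b * n) (fun i => enc b (D i) n) m)) i j =
      D i j % p := by
  set X := enc (b * n) (fun i => enc b (D i) n) m with hX
  have hin : ∀ i < m, enc b (D i) n < 2 ^ (b * n) := by
    intro i hi
    apply enc_lt
    intro j hj
    exact lt_of_le_of_lt (hD i hi j hj) h3
  have hXlt : X < 2 ^ (b * n * m) := enc_lt _ _ _ hin
  have hXent : ∀ i < m, ∀ j < n, ent b n X i j = D i j := by
    intro i hi j hj
    unfold ent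
    rw [hX, dg_enc _ _ _ hin i hi, dg_enc]
    · intro j hj
      exact lt_of_le_of_lt (hD i hi j hj) h3
    · exact hj
  have hXdg : ∀ q < n * m, dg b X q ≤ B := by
    intro q hq
    have hn : 0 < n := by
      rcases Nat.eq_zero_or_pos n with h | h
      · subst h; simp at hq
      · exact h
    have h1 : q / n < m := Nat.div_lt_of_lt_mul hq
    have h2 : q % n < n := Nat.mod_lt _ hn
    have h3 : n * (q / n) + q % n = q := Nat.div_add_mod q n
    rw [← h3, ← ent_eq_dg b n X _ _ h2, hXent _ h1 _ h2]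
    exact hD _ h1 _ h2
  have hXlt' : X < 2 ^ (b * (n * m)) := by rwa [← mul_assoc]
  have hred : red b p (enc b (fun _ => 1) (n * m)) k X = enc b (fun q => dg b X q % p) (n * m) := by
    conv_lhs => rw [← enc_dg b (n * m) X hXlt']
    apply red_enc b p (n * m) k _ hb hp hk
    · intro q hq
      exact lt_of_le_of_lt (hXdg q hq) h1
    · intro q hq
      exact lt_of_le_of_lt (hXdg q hq) h2
  rw [hred]
  have hple : p ≤ 2 ^ b := by
    have : 2 * 2 ^ (b - 1) = 2 ^ b := by
      obtain ⟨c, rfl⟩ : ∃ c, b = c + 1 := ⟨b - 1, by omega⟩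
      simp [pow_succ]; ring
    have h2 : p * 1 ≤ p * 2 ^ k := Nat.mul_le_mul_left _ (Nat.one_le_two_pow)
    omega
  have hdl : ∀ q < n * m, dg b X q % p < 2 ^ b := fun q _ => lt_of_lt_of_le (Nat.mod_lt _ hp) hple
  have hent : ∀ i < m, ∀ j < n, ent b n (enc b (fun q => dg b X q % p) (n * m)) i j = ent b n X i j % p := by
    intro i hi j hj
    rw [ent_eq_dg _ _ _ _ _ hj, ent_eq_dg _ _ _ _ _ hj]
    have hq : n * i + j < n * m := by
      have : n * (i + 1) ≤ n * m := Nat.mul_le_mul_left _ hi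
      nlinarith
    rw [dg_enc b _ (n * m) hdl _ hq]
  refine ⟨⟨?_, ?_⟩, ?_⟩
  · have := enc_lt b _ (n * m) hdl
    rwa [← mul_assoc] at this
  · intro i hi j hj
    rw [hent i hi j hj]
    exact Nat.mod_lt _ hp
  · intro i hi j hj
    rw [hent i hi j hj, hXent i hi j hj]

/-- one step: column operations and reduction mod 3 (digit width 11, dimension 248) -/
noncomputable def step (cmv onesv : ℕ) (L : List (ℕ × ℕ × ℕ)) (x : ℕ) : ℕ :=
  red 11 3 onesv 7 (addCols 11 cmv x L x)

/-- conditions on a list of column operations -/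
def LOk (L : List (ℕ × ℕ × ℕ)) : Prop :=
  L.length ≤ 90 ∧ ∀ a ∈ L, a.1 < 248 ∧ a.2.1 < 248 ∧ a.2.2 ≤ 2

/-- value over `ZMod 3` of a list of column operations -/
def zsum (v : ℕ → ZMod 3) (L : List (ℕ × ℕ × ℕ)) (j : ℕ) : ZMod 3 :=
  (L.map fun a => if j = a.1 then ((a.2.2 : ℕ) : ZMod 3) * v a.2.1 else 0).sum

theorem zsum_nil (v : ℕ → ZMod 3) (j : ℕ) : zsum v [] j = 0 := rfl

theorem zsum_cons (v : ℕ → ZMod 3) (a : ℕ × ℕ × ℕ) (L : List (ℕ × ℕ × ℕ)) (j : ℕ) :
    zsum v (a :: L) j = (if j = a.1 then ((a.2.2 : ℕ) : ZMod 3) * v a.2.1 else 0) + zsum v L j := by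
  simp [zsum]

theorem lsum_cast (w : ℕ → ℕ) (L : List (ℕ × ℕ × ℕ)) (j : ℕ) :
    ((lsum w L j : ℕ) : ZMod 3) = zsum (fun u => (w u : ZMod 3)) L j := by
  induction L with
  | nil => simp [lsum, zsum]
  | cons a L ih =>
    rw [lsum_cons, zsum_cons, Nat.cast_add, ih]
    congr 1
    split_ifs <;> simp

theorem step_spec {x : ℕ} (hx : Ok x) {L : List (ℕ × ℕ × ℕ)} (hL : LOk L) :
    Ok (step cm ones L x) ∧ ∀ i j : Fin 248, mat (step cm ones L x) i j =
      mat x i j + zsum (fun u => ((ent 11 248 x i u : ℕ) : ZMod 3)) L j := by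
  have hx' : RValid 11 248 248 3 x := hx
  have e0 : x = enc (11 * 248) (fun i => enc 11 (ent 11 248 x i) 248) 248 := (enc_ent 11 248 248 x hx'.1).symm
  have e1 : addCols 11 cm x L x =
      enc (11 * 248) (fun i => enc 11 (fun j => ent 11 248 x i j + lsum (ent 11 248 x i) L j) 248) 248 := by
    conv_lhs => rw [cm_eq]
    have := addCols_spec 11 248 248 x L (fun a ha => ⟨(hL.2 a ha).1, (hL.2 a ha).2.1⟩)
      (fun i j => ent 11 248 x i j)
    rw [← this]
    congr 1
  have hbound : ∀ i < 248, ∀ j < 248, ent 11 248 x i j + lsum (ent 11 248 x i) L j ≤ 362 := by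
    intro i hi j hj
    have h1 := hx'.2 i hi j hj
    have h2 := lsum_le (ent 11 248 x i) 2 2 L j
      (fun a ha => by have := hx'.2 i hi a.2.1 (hL.2 a ha).2.1; omega) (fun a ha => (hL.2 a ha).2.2)
    have h3 := hL.1
    omega
  have h := red_mat (b := 11) (n := 248) (m := 248) (p := 3) (k := 7) (by norm_num) (by norm_num) (by norm_num)
    (fun i j => ent 11 248 x i j + lsum (ent 11 248 x i) L j) 362 hbound (by norm_num) (by norm_num) (by norm_num)
  unfold step
  rw [e1, ones_eq]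
  refine ⟨h.1, ?_⟩
  intro i j
  have h2 := h.2 i i.2 j j.2
  change ((ent 11 248 _ i j : ℕ) : ZMod 3) = ((ent 11 248 x i j : ℕ) : ZMod 3) + _
  rw [h2, ZMod.natCast_mod, Nat.cast_add, lsum_cast]

end Cfsg.Agent.Th.E8Step
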