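/-
Kernel check that the coded table `E8TabData` describes the root elements x_r(1), x_r(-1) of `chevE8` over F_3.
-/
import Cfsg.Agent.Th.E8Recipe
import Cfsg.Agent.Th.E8Step
import Cfsg.Agent.Th.E8TabData
import Cfsg.Prelude.Def_ChevE8

set_option autoImplicit false

namespace Cfsg.Agent.Th.E8TabDef

open Cfsg.Lie Cfsg.Agent.Th.E8Recipe Cfsg.Agent.Th.E8Step Cfsg.Agent.Th.E8TabData

/-- residue mod 3 -/
def z3 (c : ℤ) : ℕ := (c % 3).toNat

/-- `(-1)^e * c` -/
def sg (e : ℕ) (c : ℤ) : ℤ := bif Nat.beq (e % 2) 0 then c else -c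

/-- the coefficient is not zero mod 3 -/
def nz (a : ℕ × ℕ × ℤ × ℕ) : Bool := ! Nat.beq (z3 a.2.2.1) 0

/-- code of a column operation -/
def codeOf (a : ℕ × ℕ × ℤ × ℕ) : ℕ := ((a.1 * 256 + a.2.1) * 4 + z3 a.2.2.1) * 4 + z3 (sg a.2.2.2 a.2.2.1)

/-- decoding (`b = false` for t = 1, `b = true` for t = -1) -/
def dec (b : Bool) (x : ℕ) : ℕ × ℕ × ℕ := (x / 4096, x / 16 % 256, bif b then x % 4 else x / 4 % 4)

/-- equality of lists of numbers -/
def beqL : List ℕ → List ℕ → Bool
  | [], [] => true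
  | [], _ :: _ => false
  | _ :: _, [] => false
  | a :: l, b :: m => Nat.beq a b && beqL l m

theorem eq_of_beqL : ∀ (l m : List ℕ), beqL l m = true → l = m
  | [], [], _ => rfl
  | [], _ :: _, h => by simp [beqL] at h
  | _ :: _, [], h => by simp [beqL] at h
  | a :: l, b :: m, h => by
    simp only [beqL, Bool.and_eq_true] at h
    rw [Nat.eq_of_beq_eq_true h.1, eq_of_beqL l m h.2]

/-- check of a row -/
def checkRow (r : ℕ) (l : List ℕ) : Bool :=
  good chevE8 r && beqL (((recipe chevE8 r).filter nz).map codeOf) l && Nat.ble l.length 90 &&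
    l.all (fun x => Nat.blt (x / 4096) 248 && Nat.blt (x / 16 % 256) 248)

/-- check of consecutive rows -/
def checkRows : ℕ → List (List ℕ) → Bool
  | _, [] => true
  | k, l :: ls => checkRow k l && checkRows (k + 1) ls

theorem checkRows_get (ls : List (List ℕ)) : ∀ k : ℕ, checkRows k ls = true → ∀ i < ls.length,
    checkRow (k + i) (ls.getD i []) = true := by
  induction ls with
  | nil => intro _ _ i hi; simp at hi
  | cons l ls ih =>
    intro k h i hi
    have h' : checkRow k l = true ∧ checkRows (k + 1) ls = true := by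
      rw [checkRows, Bool.and_eq_true] at h
      exact h
    cases i with
    | zero =>
      rw [Nat.add_zero, List.getD_cons_zero]
      exact h'.1
    | succ i =>
      have := ih (k + 1) h'.2 i (by rw [List.length_cons] at hi; omega)
      rw [List.getD_cons_succ, show k + (i + 1) = k + 1 + i by omega]
      exact this

theorem z3_lt (c : ℤ) : z3 c < 3 := by
  unfold z3
  have h1 := Int.emod_nonneg c (show (3 : ℤ) ≠ 0 by norm_num)
  have h2 := Int.emod_lt_of_pos c (show (0 : ℤ) < 3 by norm_num)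
  omega

theorem z3_cast (c : ℤ) : ((z3 c : ℕ) : ZMod 3) = (c : ZMod 3) := by
  unfold z3
  have h1 := Int.emod_nonneg c (show (3 : ℤ) ≠ 0 by norm_num)
  have h : ((c % 3).toNat : ℤ) = c % 3 := Int.toNat_of_nonneg h1
  have h2 : (((c % 3).toNat : ℤ) : ZMod 3) = ((c % 3 : ℤ) : ZMod 3) := by rw [h]
  rw [Int.cast_natCast] at h2
  rw [h2]
  have := ZMod.intCast_mod c 3
  simpa using this

/-- the scalar of the root element -/
def sc (b : Bool) : ZMod 3 := bif b then -1 else 1

theorem sg_cast (e : ℕ) (c : ℤ) : ((sg e c : ℤ) : ZMod 3) = (c : ZMod 3) * (-1) ^ e := by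
  unfold sg
  rcases Nat.even_or_odd e with h | h
  · have h1 : e % 2 = 0 := Nat.even_iff.1 h
    rw [h1, h.neg_one_pow]
    simp
  · have h1 : e % 2 = 1 := Nat.odd_iff.1 h
    rw [h1, h.neg_one_pow]
    have : Nat.beq 1 0 = false := rfl
    rw [this, cond_false]
    simp

/-- coefficient of a column operation -/
def cf (b : Bool) (a : ℕ × ℕ × ℤ × ℕ) : ℕ := bif b then z3 (sg a.2.2.2 a.2.2.1) else z3 a.2.2.1

theorem cf_cast (b : Bool) (a : ℕ × ℕ × ℤ × ℕ) : ((cf b a : ℕ) : ZMod 3) = ((a.2.2.1 : ℤ) : ZMod 3) * (sc b) ^ a.2.2.2 := by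
  cases b
  · simp [cf, sc, z3_cast]
  · simp [cf, sc, z3_cast, sg_cast]

theorem dec_codeOf (b : Bool) (a : ℕ × ℕ × ℤ × ℕ) (ha : a.2.1 < 256) : dec b (codeOf a) = (a.1, a.2.1, cf b a) := by
  unfold dec codeOf cf
  have h1 := z3_lt a.2.2.1
  have h2 := z3_lt (sg a.2.2.2 a.2.2.1)
  generalize z3 a.2.2.1 = p at *
  generalize z3 (sg a.2.2.2 a.2.2.1) = q at *
  cases b
  · simp only [cond_false, Prod.mk.injEq]
    refine ⟨?_, ?_, ?_⟩ <;> omega
  · simp only [cond_true, Prod.mk.injEq]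
    refine ⟨?_, ?_, ?_⟩ <;> omega

end Cfsg.Agent.Th.E8TabDef
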