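/- kernel checks of the table of E8 root elements mod 3, part 0 -/
import Cfsg.Agent.Th.E8TabDef

set_option autoImplicit false
set_option maxRecDepth 100000

namespace Cfsg.Agent.Th.E8TabChk0

open Cfsg.Agent.Th.E8TabDef Cfsg.Agent.Th.E8TabData

theorem chk0 : checkRows 0 tab0 = true := by decide +kernel
theorem chk1 : checkRows 30 tab1 = true := by decide +kernel
theorem len0 : tab0.length = 30 := by decide +kernel
theorem len1 : tab1.length = 30 := by decide +kernel

end Cfsg.Agent.Th.E8TabChk0
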