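/- kernel checks of the table of E8 root elements mod 3, part 1 -/
import Cfsg.Agent.Th.E8TabDef

set_option autoImplicit false
set_option maxRecDepth 100000

namespace Cfsg.Agent.Th.E8TabChk1

open Cfsg.Agent.Th.E8TabDef Cfsg.Agent.Th.E8TabData

theorem chk2 : checkRows 60 tab2 = true := by decide +kernel
theorem chk3 : checkRows 90 tab3 = true := by decide +kernel
theorem len2 : tab2.length = 30 := by decide +kernel
theorem len3 : tab3.length = 30 := by decide +kernel

end Cfsg.Agent.Th.E8TabChk1
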