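/- kernel checks of the table of E8 root elements mod 3, part 2 -/
import Cfsg.Agent.Th.E8TabDef

set_option autoImplicit false
set_option maxRecDepth 100000

namespace Cfsg.Agent.Th.E8TabChk2

open Cfsg.Agent.Th.E8TabDef Cfsg.Agent.Th.E8TabData

theorem chk4 : checkRows 120 tab4 = true := by decide +kernel
theorem chk5 : checkRows 150 tab5 = true := by decide +kernel
theorem len4 : tab4.length = 30 := by decide +kernel
theorem len5 : tab5.length = 30 := by decide +kernel

end Cfsg.Agent.Th.E8TabChk2
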