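/- kernel checks of the table of E8 root elements mod 3, part 3 -/
import Cfsg.Agent.Th.E8TabDef

set_option autoImplicit false
set_option maxRecDepth 100000

namespace Cfsg.Agent.Th.E8TabChk3

open Cfsg.Agent.Th.E8TabDef Cfsg.Agent.Th.E8TabData

theorem chk6 : checkRows 180 tab6 = true := by decide +kernel
theorem chk7 : checkRows 210 tab7 = true := by decide +kernel
theorem len6 : tab6.length = 30 := by decide +kernel
theorem len7 : tab7.length = 30 := by decide +kernel

end Cfsg.Agent.Th.E8TabChk3
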