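/-
Kernel check that the coded table `E8TabData` describes the root elements x_r(1), x_r(-1) of `chevE8` over F_3.
-/
import Cfsg.Agent.Th.E8TabChk0
import Cfsg.Agent.Th.E8TabChk1
import Cfsg.Agent.Th.E8TabChk2
import Cfsg.Agent.Th.E8TabChk3

set_option autoImplicit false

namespace Cfsg.Agent.Th.E8Tab

open Cfsg.Lie Cfsg.Agent.Th.E8Recipe Cfsg.Agent.Th.E8Step Cfsg.Agent.Th.E8TabData Cfsg.Agent.Th.E8TabDef
open Cfsg.Agent.Th.E8TabChk0 Cfsg.Agent.Th.E8TabChk1 Cfsg.Agent.Th.E8TabChk2 Cfsg.Agent.Th.E8TabChk3

/-- the table in blocks of 30 rows -/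
def blocks : List (List (List ℕ)) := [tab0, tab1, tab2, tab3, tab4, tab5, tab6, tab7]

/-- row `r` of the table -/
def tabRow (r : ℕ) : List ℕ := (blocks.getD (r / 30) []).getD (r % 30) []

theorem checkRow_tabRow (r : ℕ) (hr : r < 240) : checkRow r (tabRow r) = true := by
  unfold tabRow
  have hm : r % 30 < 30 := Nat.mod_lt _ (by norm_num)
  have hd : r / 30 < 8 := by omega
  have e : r = 30 * (r / 30) + r % 30 := (Nat.div_add_mod r 30).symm
  generalize r / 30 = q at hd e ⊢
  generalize r % 30 = s at hm e ⊢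
  subst e
  interval_cases q
  · exact checkRows_get tab0 0 chk0 s (by rw [len0]; exact hm)
  · exact checkRows_get tab1 30 chk1 s (by rw [len1]; exact hm)
  · exact checkRows_get tab2 60 chk2 s (by rw [len2]; exact hm)
  · exact checkRows_get tab3 90 chk3 s (by rw [len3]; exact hm)
  · exact checkRows_get tab4 120 chk4 s (by rw [len4]; exact hm)
  · exact checkRows_get tab5 150 chk5 s (by rw [len5]; exact hm)
  · exact checkRows_get tab6 180 chk6 s (by rw [len6]; exact hm)
  · exact checkRows_get tab7 210 chk7 s (by rw [len7]; exact hm)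

/-- decoded row -/
def row (b : Bool) (r : ℕ) : List (ℕ × ℕ × ℕ) := (tabRow r).map (dec b)

theorem good_of_check {r : ℕ} (hr : r < 240) : good chevE8 r = true := by
  have h := checkRow_tabRow r hr
  simp only [checkRow, Bool.and_eq_true] at h
  exact h.1.1.1

theorem recipe_lt {r : ℕ} (hr : r < 240) : ∀ a ∈ recipe chevE8 r, a.2.1 < 248 := by
  have h := good_of_check hr
  simp only [good, Bool.and_eq_true, List.all_eq_true] at h
  intro a ha
  have := h.2 a ha
  simp only [Nat.blt_eq] at this
  exact this

theorem row_eq (b : Bool) {r : ℕ} (hr : r < 240) :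
    row b r = ((recipe chevE8 r).filter nz).map (fun a => (a.1, a.2.1, cf b a)) := by
  have h := checkRow_tabRow r hr
  simp only [checkRow, Bool.and_eq_true] at h
  have h1 := eq_of_beqL _ _ h.1.1.2
  unfold row
  rw [← h1, List.map_map]
  apply List.map_congr_left
  intro a ha
  rw [List.mem_filter] at ha
  exact dec_codeOf b a (by have := recipe_lt hr a ha.1; omega)

theorem row_ok (b : Bool) {r : ℕ} (hr : r < 240) : LOk (row b r) := by
  have h := checkRow_tabRow r hr
  simp only [checkRow, Bool.and_eq_true, List.all_eq_true, Nat.blt_eq] at h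
  refine ⟨?_, ?_⟩
  · unfold row
    rw [List.length_map]
    exact Nat.le_of_ble_eq_true h.1.2
  · intro a ha
    have h3 : a.2.2 ≤ 2 := by
      rw [row_eq b hr] at ha
      obtain ⟨c, -, rfl⟩ := List.mem_map.1 ha
      simp only [cf]
      cases b
      · have := z3_lt c.2.2.1
        simp only [cond_false]
        omega
      · have := z3_lt (sg c.2.2.2 c.2.2.1)
        simp only [cond_true]
        omega
    unfold row at ha
    obtain ⟨x, hx, rfl⟩ := List.mem_map.1 ha
    have h1 := h.2 x hx
    exact ⟨h1.1, h1.2, h3⟩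

theorem zsum_row (b : Bool) {r : ℕ} (hr : r < 240) (v : ℕ → ZMod 3) (j : ℕ) :
    zsum v (row b r) j = rsum v (sc b) (recipe chevE8 r) j := by
  rw [row_eq b hr]
  generalize recipe chevE8 r = l
  induction l with
  | nil => rfl
  | cons a l ih =>
    rw [rsum_cons, ← ih]
    by_cases h : nz a = true
    · rw [List.filter_cons_of_pos h, List.map_cons, zsum_cons, cf_cast]
    · rw [List.filter_cons_of_neg h]
      have h0 : z3 a.2.2.1 = 0 := by
        unfold nz at h
        simp only [Bool.not_eq_true', Bool.not_eq_false] at h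
        exact Nat.eq_of_beq_eq_true h
      have h1 : ((a.2.2.1 : ℤ) : ZMod 3) = 0 := by rw [← z3_cast, h0]; simp
      rw [h1]
      simp

end Cfsg.Agent.Th.E8Tab
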