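/-
Rows of a packed 248 × 248 matrix over F_3 stored in a perfect binary tree with 256 leaves; row operations
`row u += c * row s`, all in continuation passing style so that the kernel evaluates everything eagerly and only
handles small numbers.
-/
import Cfsg.Agent.Th.Words248

set_option autoImplicit false

namespace Cfsg.Agent.Th.E8Tree

open Cfsg.Agent.Th.MatEngine Cfsg.Agent.Th.Words248

/-- binary trees of numbers -/
inductive Tr
  | lf (n : ℕ)
  | nd (l r : Tr)

/-- leaf `i`; `h` is half the number of leaves -/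
noncomputable def get (t : Tr) : ℕ → ℕ → ℕ :=
  Tr.rec (motive := fun _ => ℕ → ℕ → ℕ) (fun n _ _ => n)
    (fun _ _ gl gr h i => bif Nat.blt i h then gl (Nat.div h 2) i else gr (Nat.div h 2) (Nat.sub i h)) t

/-- replace leaf `i` -/
def set : Tr → ℕ → ℕ → ℕ → Tr
  | .lf _, _, _, v => .lf v
  | .nd l r, h, i, v => bif Nat.blt i h then .nd (set l (Nat.div h 2) i v) r else .nd l (set r (Nat.div h 2) (Nat.sub i h) v)

/-- replace leaf `i`, eager version -/
noncomputable def setK {α : Type} (t : Tr) : ℕ → ℕ → ℕ → (Tr → α) → α :=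
  Tr.rec (motive := fun _ => ℕ → ℕ → ℕ → (Tr → α) → α) (fun _ _ _ v k => k (.lf v))
    (fun l r sl sr h i v k => bif Nat.blt i h then sl (Nat.div h 2) i v (fun l' => k (.nd l' r))
      else sr (Nat.div h 2) (Nat.sub i h) v (fun r' => k (.nd l r'))) t

theorem get_lf (n h i : ℕ) : get (.lf n) h i = n := rfl

theorem get_nd (l r : Tr) (h i : ℕ) : get (.nd l r) h i = if i < h then get l (h / 2) i else get r (h / 2) (i - h) := by
  change (bif Nat.blt i h then get l (h / 2) i else get r (h / 2) (i - h)) = _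
  by_cases hi : i < h
  · have : Nat.blt i h = true := by simpa [Nat.blt_eq] using hi
    rw [this, if_pos hi]; rfl
  · have : Nat.blt i h = false := by
      rw [Bool.eq_false_iff]
      intro h'
      rw [Nat.blt_eq] at h'
      exact hi h'
    rw [this, if_neg hi]; rfl

theorem set_lf (n h i v : ℕ) : set (.lf n) h i v = .lf v := rfl

theorem set_nd (l r : Tr) (h i v : ℕ) : set (.nd l r) h i v =
    if i < h then .nd (set l (h / 2) i v) r else .nd l (set r (h / 2) (i - h) v) := by
  change (bif Nat.blt i h then Tr.nd (set l (h / 2) i v) r else .nd l (set r (h / 2) (i - h) v)) = _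
  by_cases hi : i < h
  · have : Nat.blt i h = true := by simpa [Nat.blt_eq] using hi
    rw [this, if_pos hi]; rfl
  · have : Nat.blt i h = false := by
      rw [Bool.eq_false_iff]
      intro h'
      rw [Nat.blt_eq] at h'
      exact hi h'
    rw [this, if_neg hi]; rfl

theorem setK_eq {α : Type} (t : Tr) : ∀ (h i v : ℕ) (k : Tr → α), setK t h i v k = k (set t h i v) := by
  induction t with
  | lf n => intro h i v k; rfl
  | nd l r ihl ihr =>
    intro h i v k
    change (bif Nat.blt i h then setK l (h / 2) i v (fun l' => k (.nd l' r))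
      else setK r (h / 2) (i - h) v (fun r' => k (.nd l r'))) =
      k (bif Nat.blt i h then Tr.nd (set l (h / 2) i v) r else .nd l (set r (h / 2) (i - h) v))
    rw [ihl, ihr]
    cases Nat.blt i h <;> rfl

/-- perfect tree of depth `d` -/
def Perf : Tr → ℕ → Prop
  | .lf _, d => d = 0
  | .nd l r, d => ∃ e, d = e + 1 ∧ Perf l e ∧ Perf r e

theorem perf_set (t : Tr) : ∀ (d h i v : ℕ), Perf t d → Perf (set t h i v) d := by
  induction t with
  | lf n => intro d h i v hp; exact hp
  | nd l r ihl ihr =>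
    intro d h i v hp
    obtain ⟨e, rfl, hl, hr⟩ := hp
    rw [set_nd]
    split_ifs
    · exact ⟨e, rfl, ihl e _ _ _ hl, hr⟩
    · exact ⟨e, rfl, hl, ihr e _ _ _ hr⟩

theorem get_set (t : Tr) : ∀ (d i v j : ℕ), Perf t d → i < 2 ^ d → j < 2 ^ d →
    get (set t (2 ^ d / 2) i v) (2 ^ d / 2) j = if j = i then v else get t (2 ^ d / 2) j := by
  induction t with
  | lf n =>
    intro d i v j hp hi hj
    have : d = 0 := hp
    subst this
    have h1 : i = 0 := by omega
    have h2 : j = 0 := by omega
    subst h1 h2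
    rfl
  | nd l r ihl ihr =>
    intro d i v j hp hi hj
    obtain ⟨e, rfl, hl, hr⟩ := hp
    have e2 : 2 ^ (e + 1) / 2 = 2 ^ e := by rw [pow_succ]; omega
    rw [pow_succ] at hi hj
    rw [e2, set_nd]
    by_cases h1 : i < 2 ^ e
    · rw [if_pos h1, get_nd, get_nd]
      by_cases h2 : j < 2 ^ e
      · rw [if_pos h2, if_pos h2]
        exact ihl e i v j hl h1 h2
      · rw [if_neg h2, if_neg h2, if_neg (by omega)]
    · rw [if_neg h1, get_nd, get_nd]
      by_cases h2 : j < 2 ^ e
      · rw [if_pos h2, if_pos h2, if_neg (by omega)]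
      · rw [if_neg h2, if_neg h2, ihr e (i - 2 ^ e) v (j - 2 ^ e) hr (by omega) (by omega)]
        by_cases h3 : j = i
        · subst h3; simp
        · rw [if_neg h3, if_neg (by omega)]

/-! ### rows -/

/-- digit `i` of width `c` (mask `mk = 2^c - 1`) -/
def rowG (c mk y i : ℕ) : ℕ := Nat.land (Nat.shiftRight y (Nat.mul c i)) mk

/-- the mask of a digit of width `c` -/
def mkOf (c : ℕ) : ℕ := Nat.sub (Nat.pow 2 c) 1

theorem rowG_eq (c y i : ℕ) : rowG c (mkOf c) y i = dg c y i := by
  unfold rowG mkOf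
  change (y >>> (c * i)) &&& (2 ^ c - 1) = _
  rw [Nat.and_two_pow_sub_one_eq_mod, Nat.shiftRight_eq_div_pow]
  rfl

/-- row `i` of a packed matrix -/
def rowOf (mkv y i : ℕ) : ℕ := rowG 2728 mkv y i

/-- the mask of a row -/
def mk : ℕ := mkOf 2728

theorem rowOf_eq (y i : ℕ) : rowOf mk y i = dg 2728 y i := rowG_eq 2728 y i

attribute [irreducible] mkOf

/-- tree of the rows `off, off + 1, ...` of `y` with depth `d`, eager -/
noncomputable def build {α : Type} (mkv y : ℕ) (d : ℕ) : ℕ → (Tr → α) → α :=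
  Nat.rec (motive := fun _ => ℕ → (Tr → α) → α) (fun off k => force (rowOf mkv y off) fun v => k (.lf v))
    (fun e ih off k => ih off (fun l => ih (Nat.add off (Nat.pow 2 e)) (fun r => k (.nd l r)))) d

/-- tree of values of a function -/
def ofFun (f : ℕ → ℕ) : ℕ → ℕ → Tr
  | 0, off => .lf (f off)
  | e + 1, off => .nd (ofFun f e off) (ofFun f e (off + 2 ^ e))

theorem build_eq {α : Type} (mkv y : ℕ) (d : ℕ) : ∀ (off : ℕ) (k : Tr → α),
    build mkv y d off k = k (ofFun (rowOf mkv y) d off) := by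
  induction d with
  | zero =>
    intro off k
    change force (rowOf mkv y off) (fun v => k (.lf v)) = _
    rw [force_eq]
    rfl
  | succ e ih =>
    intro off k
    change build mkv y e off (fun l => build mkv y e (off + 2 ^ e) (fun r => k (.nd l r))) = _
    rw [ih, ih]
    rfl

theorem perf_ofFun (f : ℕ → ℕ) (d : ℕ) : ∀ off, Perf (ofFun f d off) d := by
  induction d with
  | zero => intro off; rfl
  | succ e ih => intro off; exact ⟨e, rfl, ih _, ih _⟩

theorem get_ofFun (f : ℕ → ℕ) (d : ℕ) : ∀ off i, i < 2 ^ d → get (ofFun f d off) (2 ^ d / 2) i = f (off + i) := by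
  induction d with
  | zero =>
    intro off i hi
    have : i = 0 := by omega
    subst this
    rfl
  | succ e ih =>
    intro off i hi
    have e2 : 2 ^ (e + 1) / 2 = 2 ^ e := by rw [pow_succ]; omega
    rw [pow_succ] at hi
    rw [e2]
    change get (.nd (ofFun f e off) (ofFun f e (off + 2 ^ e))) (2 ^ e) i = _
    rw [get_nd]
    split_ifs with h
    · exact ih off i h
    · rw [ih _ _ (by omega)]
      congr 1
      omega

/-- comparison of the leaves with the rows of `y` -/
noncomputable def eqT (mkv y : ℕ) (t : Tr) : ℕ → ℕ → Bool :=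
  Tr.rec (motive := fun _ => ℕ → ℕ → Bool) (fun n _ off => Nat.beq n (rowOf mkv y off))
    (fun _ _ el er h off => bif el (Nat.div h 2) off then er (Nat.div h 2) (Nat.add off h) else false) t

theorem eqT_spec (mkv y : ℕ) (t : Tr) : ∀ (d off : ℕ), Perf t d → eqT mkv y t (2 ^ d / 2) off = true →
    ∀ i < 2 ^ d, get t (2 ^ d / 2) i = rowOf mkv y (off + i) := by
  induction t with
  | lf n =>
    intro d off hp h i hi
    have : d = 0 := hp
    subst this
    have : i = 0 := by omega
    subst this
    exact Nat.eq_of_beq_eq_true h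
  | nd l r ihl ihr =>
    intro d off hp h i hi
    obtain ⟨e, rfl, hl, hr⟩ := hp
    have e2 : 2 ^ (e + 1) / 2 = 2 ^ e := by rw [pow_succ]; omega
    rw [pow_succ] at hi
    rw [e2] at h ⊢
    change (bif eqT mkv y l (2 ^ e / 2) off then eqT mkv y r (2 ^ e / 2) (off + 2 ^ e) else false) = true at h
    rw [Bool.cond_eq_ite] at h
    split_ifs at h with h1
    rw [get_nd]
    split_ifs with h2
    · exact ihl e off hl h1 i h2
    · rw [ihr e _ hr h (i - 2 ^ e) (by omega)]
      congr 1
      omega

/-! ### row operations -/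

/-- `a + c * b` mod 3 on packed rows (`on` = all digits one) -/
def radd (on a b c : ℕ) : ℕ := red 11 3 on 2 (Nat.add a (Nat.mul c b))

/-- validity of a packed row -/
def RowOk (a : ℕ) : Prop := a < 2 ^ (11 * 248) ∧ ∀ j < 248, dg 11 a j < 3

/-- entries of a packed row over `ZMod 3` -/
def rv (a j : ℕ) : ZMod 3 := ((dg 11 a j : ℕ) : ZMod 3)

theorem ones1_row : ones1 = enc 11 (fun _ => 1) 248 := by
  rw [ones1_eq]

theorem radd_spec {a b c : ℕ} (ha : RowOk a) (hb : RowOk b) (hc : c ≤ 2) :
    RowOk (radd ones1 a b c) ∧ ∀ j < 248, rv (radd ones1 a b c) j = rv a j + (c : ZMod 3) * rv b j := by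
  have hd : ∀ j < 248, dg 11 a j + c * dg 11 b j ≤ 6 := by
    intro j hj
    have h1 := ha.2 j hj
    have h2 := hb.2 j hj
    have h3 : c * dg 11 b j ≤ 2 * 2 := Nat.mul_le_mul hc (by omega)
    omega
  have e0 : a + c * b = enc 11 (fun j => dg 11 a j + c * dg 11 b j) 248 := by
    conv_lhs => rw [← enc_dg 11 248 a ha.1, ← enc_dg 11 248 b hb.1]
    rw [mul_enc, enc_add]
  have e1 : radd ones1 a b c = enc 11 (fun j => (dg 11 a j + c * dg 11 b j) % 3) 248 := by
    unfold radd
    change red 11 3 ones1 2 (a + c * b) = _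
    rw [e0, ones1_row]
    apply red_enc 11 3 248 2 _ (by norm_num) (by norm_num) (by norm_num)
    · intro j hj
      have := hd j hj
      omega
    · intro j hj
      have := hd j hj
      norm_num
      omega
  have hlt : ∀ j < 248, (dg 11 a j + c * dg 11 b j) % 3 < 2 ^ 11 := fun j _ =>
    lt_of_lt_of_le (Nat.mod_lt _ (by norm_num)) (by norm_num)
  refine ⟨⟨?_, ?_⟩, ?_⟩
  · rw [e1]
    exact enc_lt _ _ _ hlt
  · intro j hj
    rw [e1, dg_enc 11 _ 248 hlt j hj]
    exact Nat.mod_lt _ (by norm_num)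
  · intro j hj
    unfold rv
    rw [e1, dg_enc 11 _ 248 hlt j hj, ZMod.natCast_mod]
    push_cast
    ring

/-- row operations of a list: for `(s, u, c)` add `c` times the old row `s` to row `u` -/
noncomputable def ops {α : Type} (on : ℕ) (old : Tr) (L : List (ℕ × ℕ × ℕ)) : Tr → (Tr → α) → α :=
  List.rec (motive := fun _ => Tr → (Tr → α) → α) (fun acc k => k acc)
    (fun a _ ih acc k => force (radd on (get acc 128 a.2.1) (get old 128 a.1) a.2.2) fun v =>
      setK acc 128 a.2.1 v fun acc' => ih acc' k) L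

/-- the same on functions -/
def opsF (on : ℕ) (old : ℕ → ℕ) : List (ℕ × ℕ × ℕ) → (ℕ → ℕ) → ℕ → ℕ
  | [], acc => acc
  | a :: L, acc => opsF on old L (fun i => if i = a.2.1 then radd on (acc a.2.1) (old a.1) a.2.2 else acc i)

/-- the tree `t` stores the function `f` -/
def Rep (t : Tr) (f : ℕ → ℕ) : Prop := Perf t 8 ∧ ∀ i < 256, get t 128 i = f i

theorem opsF_congr (on : ℕ) (old old' : ℕ → ℕ) (L : List (ℕ × ℕ × ℕ))
    (hL : ∀ a ∈ L, old a.1 = old' a.1 ∧ a.2.1 < 256) : ∀ (acc acc' : ℕ → ℕ) (_ : ∀ i < 256, acc i = acc' i),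
    ∀ i < 256, opsF on old L acc i = opsF on old' L acc' i := by
  induction L with
  | nil => intro acc acc' h; exact h
  | cons a L ih =>
    intro acc acc' h
    apply ih (fun a ha => hL a (List.mem_cons_of_mem _ ha))
    intro i hi
    have h1 := hL a (List.mem_cons_self ..)
    simp only [h i hi, h a.2.1 h1.2, h1.1]

theorem ops_spec {α : Type} (on : ℕ) (old : Tr) (L : List (ℕ × ℕ × ℕ)) (hL : ∀ a ∈ L, a.1 < 256 ∧ a.2.1 < 256) :
    ∀ (acc : Tr) (_ : Perf acc 8), ∃ t : Tr, Rep t (opsF on (get old 128) L (get acc 128)) ∧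
      ∀ k : Tr → α, ops on old L acc k = k t := by
  induction L with
  | nil => intro acc hp; exact ⟨acc, ⟨hp, fun _ _ => rfl⟩, fun _ => rfl⟩
  | cons a L ih =>
    intro acc hp
    have ha := hL a (List.mem_cons_self ..)
    set v := radd on (get acc 128 a.2.1) (get old 128 a.1) a.2.2 with hv
    obtain ⟨t, ht, hk⟩ := ih (fun a ha => hL a (List.mem_cons_of_mem _ ha)) (set acc 128 a.2.1 v)
      (perf_set _ _ _ _ _ hp)
    refine ⟨t, ?_, ?_⟩
    · refine ⟨ht.1, ?_⟩
      intro i hi
      rw [ht.2 i hi]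
      change _ = opsF on (get old 128) L _ i
      apply opsF_congr on _ _ L (fun a ha => ⟨rfl, (hL a (List.mem_cons_of_mem _ ha)).2⟩) _ _ ?_ i hi
      intro j hj
      exact get_set acc 8 a.2.1 v j hp (by simpa using ha.2) (by simpa using hj)
    · intro k
      change force v (fun v => setK acc 128 a.2.1 v fun acc' => ops on old L acc' k) = _
      rw [force_eq, setK_eq, hk]

theorem opsF_rows (old : ℕ → ℕ) (L : List (ℕ × ℕ × ℕ)) (hold : ∀ a ∈ L, RowOk (old a.1))
    (hc : ∀ a ∈ L, a.2.2 ≤ 2) : ∀ (acc : ℕ → ℕ) (_ : ∀ a ∈ L, RowOk (acc a.2.1)) (i : ℕ) (_ : RowOk (acc i)),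
    RowOk (opsF ones1 old L acc i) ∧ ∀ j < 248, rv (opsF ones1 old L acc i) j =
      rv (acc i) j + (L.map fun a => if i = a.2.1 then ((a.2.2 : ℕ) : ZMod 3) * rv (old a.1) j else 0).sum := by
  induction L with
  | nil =>
    intro acc _ i hi
    refine ⟨hi, fun j _ => ?_⟩
    change rv (acc i) j = _
    simp
  | cons a L ih =>
    intro acc hacc i hi
    have h0 := radd_spec (hacc a (List.mem_cons_self ..)) (hold a (List.mem_cons_self ..)) (hc a (List.mem_cons_self ..))
    have hnew : ∀ m, RowOk (acc m) →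
        RowOk (if m = a.2.1 then radd ones1 (acc a.2.1) (old a.1) a.2.2 else acc m) := by
      intro m hm
      split_ifs
      · exact h0.1
      · exact hm
    have h1 := ih (fun a ha => hold a (List.mem_cons_of_mem _ ha)) (fun a ha => hc a (List.mem_cons_of_mem _ ha))
      (fun m => if m = a.2.1 then radd ones1 (acc a.2.1) (old a.1) a.2.2 else acc m)
      (fun b hb => hnew _ (hacc b (List.mem_cons_of_mem _ hb))) i (hnew i hi)
    refine ⟨h1.1, fun j hj => ?_⟩
    have h2 := h1.2 j hj
    change rv (opsF ones1 old L _ i) j = _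
    rw [h2, List.map_cons, List.sum_cons, ← add_assoc]
    congr 1
    by_cases h3 : i = a.2.1
    · simp only [h3, if_true]
      exact h0.2 j hj
    · simp only [h3, if_false, add_zero]

end Cfsg.Agent.Th.E8Tree
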