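/-
Left multiplication of a packed matrix by a word in root elements x_r(1), x_r(-1) of `chevE8` over F_3, and the kernel
check `chk w x y`: the packed matrix `y` is the product of the word `w` and the packed matrix `x`.
-/
import Cfsg.Agent.Th.E8Tab
import Cfsg.Agent.Th.E8Tree
import Cfsg.Agent.Th.E8Data

set_option autoImplicit false

namespace Cfsg.Agent.Th.E8Run

open Cfsg.Lie Cfsg.Agent.Th.MatEngine Cfsg.Agent.Th.Words248
open Cfsg.Agent.Th.E8Recipe Cfsg.Agent.Th.E8Step Cfsg.Agent.Th.E8TabDef Cfsg.Agent.Th.E8Tab Cfsg.Agent.Th.E8Tree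

attribute [local irreducible] row

/-- index of E8 as a number -/
def eqv : Fin 248 ≃ chevE8.Idx := (finSumFinEquiv (m := 8) (n := 240)).symm

theorem code_eqv (j : Fin 248) : code chevE8 (eqv j) = j.val := by
  have h : ∀ a : Fin 8 ⊕ Fin 240, code chevE8 (a : chevE8.Idx) = (finSumFinEquiv (m := 8) (n := 240) a).val := by
    intro a
    rcases a with i | s
    · rfl
    · simp only [finSumFinEquiv_apply_right, Fin.val_natAdd]
      rfl
  rw [h (eqv j)]
  exact congrArg Fin.val (Equiv.apply_symm_apply (finSumFinEquiv (m := 8) (n := 240)) j)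

/-- the matrix of a root element in numbered coordinates -/
noncomputable def xm (r : Fin 240) (t : ZMod 3) : Matrix (Fin 248) (Fin 248) (ZMod 3) :=
  (chevE8.xMat (ZMod 3) (r : Fin chevE8.nroots) t).submatrix eqv eqv

theorem sum_mul_xm (v : ℕ → ZMod 3) (b : Bool) (r : Fin 240) (j : Fin 248) :
    ∑ k : Fin 248, v k * xm r (sc b) k j = v j + zsum v (row b r.val) j := by
  rw [zsum_row b r.2]
  have h := sum_mul_xMat (D := chevE8) (F := ZMod 3) v (sc b) r (good_of_check r.2) (eqv j)
  rw [code_eqv] at h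
  rw [← h]
  apply Fintype.sum_equiv eqv
  intro k
  rw [code_eqv]
  rfl

theorem xm_apply (b : Bool) (r : Fin 240) (i j : Fin 248) :
    xm r (sc b) i j = (if i = j then 1 else 0) +
      ((row b r.val).map fun a => if j.val = a.1 then (if i.val = a.2.1 then ((a.2.2 : ℕ) : ZMod 3) else 0) else 0).sum := by
  have h := sum_mul_xm (fun k => if i.val = k then 1 else 0) b r j
  have e1 : ∑ k : Fin 248, (if i.val = k.val then (1 : ZMod 3) else 0) * xm r (sc b) k j = xm r (sc b) i j := by
    rw [Finset.sum_eq_single i]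
    · simp
    · intro k _ hk
      rw [if_neg (fun h => hk (Fin.ext h.symm)), zero_mul]
    · intro h
      exact absurd (Finset.mem_univ _) h
  rw [e1] at h
  rw [h]
  refine congrArg₂ (· + ·) ?_ (congrArg List.sum (List.map_congr_left ?_))
  · by_cases hij : i = j
    · subst hij; rw [if_pos rfl, if_pos rfl]
    · rw [if_neg hij, if_neg (fun h => hij (Fin.ext h))]
  · intro a _
    by_cases h1 : j.val = a.1
    · rw [if_pos h1, if_pos h1]
      by_cases h2 : i.val = a.2.1
      · simp only [if_pos h2, mul_one]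
      · simp only [if_neg h2, mul_zero]
    · rw [if_neg h1, if_neg h1]

/-- the matrix with rows `f 0, f 1, ...` -/
def fm (f : ℕ → ℕ) : Matrix (Fin 248) (Fin 248) (ZMod 3) := fun i j => rv (f i) j

theorem sum_list_comm {ι : Type*} (S : Finset ι) {α : Type*} (L : List α) (g : α → ι → ZMod 3) :
    ∑ k ∈ S, (L.map fun a => g a k).sum = (L.map fun a => ∑ k ∈ S, g a k).sum := by
  induction L with
  | nil => simp
  | cons a L ih => simp only [List.map_cons, List.sum_cons, Finset.sum_add_distrib, ih]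

theorem xm_mul (b : Bool) (r : Fin 240) (A : Matrix (Fin 248) (Fin 248) (ZMod 3)) (g : ℕ → ℕ → ZMod 3)
    (hA : ∀ i j : Fin 248, A i j = g i j) (i j : Fin 248) :
    (xm r (sc b) * A) i j = g i j +
      ((row b r.val).map fun a => if i.val = a.2.1 then ((a.2.2 : ℕ) : ZMod 3) * g a.1 j else 0).sum := by
  rw [Matrix.mul_apply]
  simp only [xm_apply, add_mul, Finset.sum_add_distrib]
  refine congrArg₂ (· + ·) ?_ ?_
  · rw [Finset.sum_eq_single i]
    · rw [if_pos rfl, one_mul, hA]
    · intro k _ hk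
      rw [if_neg (fun h => hk h.symm), zero_mul]
    · intro h
      exact absurd (Finset.mem_univ _) h
  · have e : ∀ k : Fin 248, ((row b r.val).map fun a => if k.val = a.1 then
        (if i.val = a.2.1 then ((a.2.2 : ℕ) : ZMod 3) else 0) else 0).sum * A k j =
        ((row b r.val).map fun a => if k.val = a.1 then
        (if i.val = a.2.1 then ((a.2.2 : ℕ) : ZMod 3) * g a.1 j else 0) else 0).sum := by
      intro k
      rw [← List.sum_map_mul_right]
      refine congrArg List.sum (List.map_congr_left ?_)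
      intro a _
      by_cases h1 : k.val = a.1
      · rw [if_pos h1, if_pos h1]
        by_cases h2 : i.val = a.2.1
        · rw [if_pos h2, if_pos h2, hA, h1]
        · rw [if_neg h2, if_neg h2, zero_mul]
      · rw [if_neg h1, if_neg h1, zero_mul]
    simp only [e]
    rw [sum_list_comm]
    refine congrArg List.sum (List.map_congr_left ?_)
    intro a ha
    have hlt := ((row_ok b r.2).2 a ha).1
    rw [Finset.sum_eq_single ⟨a.1, hlt⟩]
    · rw [if_pos rfl]
    · intro k _ hk
      rw [if_neg (fun h => hk (Fin.ext h))]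
    · intro h
      exact absurd (Finset.mem_univ _) h

theorem fm_ops (b : Bool) (r : Fin 240) (f : ℕ → ℕ) (hf : ∀ i, RowOk (f i)) :
    (∀ i, RowOk (opsF ones1 f (row b r.val) f i)) ∧ fm (opsF ones1 f (row b r.val) f) = xm r (sc b) * fm f := by
  have h := opsF_rows f (row b r.val) (fun a _ => hf _) (fun a ha => ((row_ok b r.2).2 a ha).2.2) f
    (fun a _ => hf _)
  refine ⟨fun i => (h i (hf i)).1, ?_⟩
  apply Matrix.ext
  intro i j
  rw [xm_mul b r (fm f) (fun i j => rv (f i) j) (fun _ _ => rfl) i j]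
  exact (h i (hf i)).2 j j.2

/-- decoding of a letter -/
def letter (a : ℕ) : Fin 240 × ZMod 3 := (Fin.ofNat 240 (a / 2), sc (Nat.beq (a % 2) 1))

theorem letter_val {a : ℕ} (ha : a / 2 < 240) : (letter a).1.val = a / 2 := Nat.mod_eq_of_lt ha

/-- the product of the word `w` and the tree `t` -/
noncomputable def runK {α : Type} (on : ℕ) (w : List ℕ) (t : Tr) : (Tr → α) → α :=
  List.rec (motive := fun _ => (Tr → α) → α) (fun k => k t)
    (fun a _ ih k => ih fun t' => ops on t' (row (Nat.beq (a % 2) 1) (a / 2)) t' k) w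

/-- the same on functions -/
def runF (on : ℕ) (f : ℕ → ℕ) : List ℕ → ℕ → ℕ
  | [] => f
  | a :: w => opsF on (runF on f w) (row (Nat.beq (a % 2) 1) (a / 2)) (runF on f w)

theorem row_lt {a : ℕ} (ha : a < 480) : ∀ e ∈ row (Nat.beq (a % 2) 1) (a / 2), e.1 < 256 ∧ e.2.1 < 256 := by
  intro e he
  have := (row_ok (Nat.beq (a % 2) 1) (show a / 2 < 240 by omega)).2 e he
  exact ⟨by omega, by omega⟩

theorem runK_spec {α : Type} (on : ℕ) (w : List ℕ) (hw : ∀ a ∈ w, a < 480) (t : Tr) (f : ℕ → ℕ) (ht : Rep t f) :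
    ∃ t' : Tr, Rep t' (runF on f w) ∧ ∀ k : Tr → α, runK on w t k = k t' := by
  induction w with
  | nil => exact ⟨t, ht, fun _ => rfl⟩
  | cons a w ih =>
    obtain ⟨t1, h1, hk1⟩ := ih (fun a ha => hw a (List.mem_cons_of_mem _ ha))
    have ha := row_lt (hw a (List.mem_cons_self ..))
    obtain ⟨t2, h2, hk2⟩ := ops_spec (α := α) on t1 (row (Nat.beq (a % 2) 1) (a / 2)) ha t1 h1.1
    refine ⟨t2, ⟨h2.1, ?_⟩, ?_⟩
    · intro i hi
      rw [h2.2 i hi]
      change _ = opsF on (runF on f w) (row (Nat.beq (a % 2) 1) (a / 2)) (runF on f w) i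
      exact opsF_congr on _ _ _ (fun e he => ⟨h1.2 _ (ha e he).1, (ha e he).2⟩) _ _ (fun j hj => h1.2 j hj) i hi
    · intro k
      change runK on w t (fun t' => ops on t' (row (Nat.beq (a % 2) 1) (a / 2)) t' k) = _
      rw [hk1, hk2]

theorem runF_spec (w : List ℕ) (hw : ∀ a ∈ w, a < 480) (f : ℕ → ℕ) (hf : ∀ i, RowOk (f i)) :
    (∀ i, RowOk (runF ones1 f w i)) ∧
      fm (runF ones1 f w) = (w.map fun a => xm (letter a).1 (letter a).2).prod * fm f := by
  induction w with
  | nil => exact ⟨hf, (one_mul _).symm⟩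
  | cons a w ih =>
    have ih := ih (fun a ha => hw a (List.mem_cons_of_mem _ ha))
    have ha : a / 2 < 240 := by
      have := hw a (List.mem_cons_self ..)
      omega
    have h := fm_ops (Nat.beq (a % 2) 1) (letter a).1 (runF ones1 f w) ih.1
    rw [letter_val ha] at h
    refine ⟨h.1, ?_⟩
    rw [List.map_cons, List.prod_cons, mul_assoc, ← ih.2]
    exact h.2

/-- the kernel check: `y` is the product of the word `w` and `x` -/
noncomputable def chk (w : List ℕ) (x y : ℕ) : Bool :=
  force ones1 fun on => force mk fun mkv => force x fun x => force y fun y =>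
    build mkv x 8 0 fun t => runK on w t fun t' => eqT mkv y t' 128 0

theorem rowOk_dg {x : ℕ} (hx : Ok x) (i : ℕ) : RowOk (dg 2728 x i) := by
  have hx' : RValid 11 248 248 3 x := hx
  have e : (11 * 248 : ℕ) = 2728 := by norm_num
  refine ⟨by rw [e]; exact dg_lt _ _ _, ?_⟩
  intro j hj
  by_cases hi : i < 248
  · have := hx'.2 i hi j hj
    unfold ent at this
    rw [e] at this
    exact this
  · have h0 : dg 2728 x i = 0 := by
      unfold dg
      have h1 : x < 2 ^ (2728 * i) := by
        refine lt_of_lt_of_le hx'.1 (Nat.pow_le_pow_right (by norm_num) ?_)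
        rw [e]
        exact Nat.mul_le_mul_left _ (by omega)
      rw [Nat.div_eq_of_lt h1, Nat.zero_mod]
    rw [h0]
    unfold dg
    rw [Nat.zero_div, Nat.zero_mod]
    norm_num

theorem mat_fm (x : ℕ) : mat x = fm (dg 2728 x) := by
  apply Matrix.ext
  intro i j
  have e : (11 * 248 : ℕ) = 2728 := by norm_num
  change ((ent 11 248 x i j : ℕ) : ZMod 3) = ((dg 11 (dg 2728 x i) j : ℕ) : ZMod 3)
  unfold ent
  rw [e]

theorem chk_spec {w : List ℕ} (hw : ∀ a ∈ w, a < 480) {x y : ℕ} (hx : Ok x) (h : chk w x y = true) :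
    mat y = (w.map fun a => xm (letter a).1 (letter a).2).prod * mat x := by
  unfold chk at h
  rw [force_eq, force_eq, force_eq, force_eq, build_eq] at h
  have hrep : Rep (ofFun (rowOf mk x) 8 0) (dg 2728 x) := by
    refine ⟨perf_ofFun _ _ _, ?_⟩
    intro i hi
    have := get_ofFun (rowOf mk x) 8 0 i hi
    rw [zero_add] at this
    rw [rowOf_eq] at this
    exact this
  obtain ⟨t, ht, hk⟩ := runK_spec (α := Bool) ones1 w hw _ _ hrep
  rw [hk] at h
  have h1 := eqT_spec mk y t 8 0 ht.1 h
  have hf := runF_spec w hw (dg 2728 x) (rowOk_dg hx)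
  rw [mat_fm, mat_fm x, ← hf.2]
  apply Matrix.ext
  intro i j
  have hi : i.val < 256 := by have := i.2; omega
  have h2 := h1 i hi
  rw [zero_add, rowOf_eq] at h2
  have h3 := ht.2 i hi
  change rv (dg 2728 y i) j = rv (runF ones1 (dg 2728 x) w i) j
  rw [← h2, ← h3]
  rfl

end Cfsg.Agent.Th.E8Run
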