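/-
Kernel checks: M_x T = T x_{r1}(t1) ... x_{rn}(tn) for the eight generators x of the Thompson group.
-/
import Cfsg.Agent.Th.E8Run
import Cfsg.Agent.Th.Gen248

set_option autoImplicit false
set_option maxRecDepth 100000

namespace Cfsg.Agent.Th.E8Check

open Cfsg.Agent.Th.MatEngine Cfsg.Agent.Th.Words248 Cfsg.Agent.Th.Gen248 Cfsg.Agent.Th.E8Data Cfsg.Agent.Th.E8Run

/-- change of basis, packed -/
noncomputable def tN : ℕ := expd tLit

/-- inverse change of basis, packed -/
noncomputable def tiN : ℕ := expd tiLit

theorem okT : Ok tN := ok_of (by decide +kernel) (by decide +kernel) (by decide +kernel)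
theorem okTi : Ok tiN := ok_of (by decide +kernel) (by decide +kernel) (by decide +kernel)
theorem invT : Nat.beq (mul tN tiN) idm = true := by decide +kernel

theorem chk_a : chk w_a tiN (mul tiN (pm .a)) = true := by decide +kernel
theorem chk_c : chk w_c tiN (mul tiN (pm .c)) = true := by decide +kernel
theorem chk_d : chk w_d tiN (mul tiN (pm .d)) = true := by decide +kernel
theorem chk_e : chk w_e tiN (mul tiN (pm .e)) = true := by decide +kernel

theorem lt_a : ∀ a ∈ w_a, a < 480 := by decide +kernel
theorem lt_c : ∀ a ∈ w_c, a < 480 := by decide +kernel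
theorem lt_d : ∀ a ∈ w_d, a < 480 := by decide +kernel
theorem lt_e : ∀ a ∈ w_e, a < 480 := by decide +kernel

theorem ne_a : Nat.beq (pm .a) idm = false := by decide +kernel

end Cfsg.Agent.Th.E8Check
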