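/-
Kernel checks for the generators b, s, t, u of the Thompson group in E8(3), see `E8Check`.
-/
import Cfsg.Agent.Th.E8Check

set_option autoImplicit false
set_option maxRecDepth 100000

namespace Cfsg.Agent.Th.E8CheckB

open Cfsg.Agent.Th.MatEngine Cfsg.Agent.Th.Words248 Cfsg.Agent.Th.Gen248 Cfsg.Agent.Th.E8Data Cfsg.Agent.Th.E8Run
open Cfsg.Agent.Th.E8Check

theorem chk_b : chk w_b tiN (mul tiN (pm .b)) = true := by decide +kernel
theorem chk_s : chk w_s tiN (mul tiN (pm .s)) = true := by decide +kernel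
theorem chk_t : chk w_t tiN (mul tiN (pm .t)) = true := by decide +kernel
theorem chk_u : chk w_u tiN (mul tiN (pm .u)) = true := by decide +kernel

theorem lt_b : ∀ a ∈ w_b, a < 480 := by decide +kernel
theorem lt_s : ∀ a ∈ w_s, a < 480 := by decide +kernel
theorem lt_t : ∀ a ∈ w_t, a < 480 := by decide +kernel
theorem lt_u : ∀ a ∈ w_u, a < 480 := by decide +kernel

end Cfsg.Agent.Th.E8CheckB
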