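import Cfsg.Agent.Th.TabFacts

/-!
C-ORACLE: soundness of `corc` (labelled coset table of B in C = 2^{1+8}.A9).
-/

set_option autoImplicit false

namespace Cfsg.Agent.Th.COracle

open Cfsg.Agent.Th.Base Cfsg.Agent.Th.Word Cfsg.Agent.Th.RelWords Cfsg.Agent.Th.PermTab
  Cfsg.Agent.Th.KOracle Cfsg.Agent.Th.COracleDef Cfsg.Agent.Th.TabFacts

/-! ### actions of letters on an arbitrary type -/

section gen

variable {X : Type*} {f : ℕ → Bool} {actX : ℕ → X → X}

/-- trace -/
def trX (actX : ℕ → X → X) : List ℕ → X → X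
  | [], z => z
  | x :: w, z => trX actX w (actX x z)

/-- an action of the letters satisfying `f` -/
structure IsAct (f : ℕ → Bool) (actX : ℕ → X → X) : Prop where
  inv : ∀ x, f x = true → ∀ z, actX (invL x) (actX x z) = z
  finv : ∀ x, f x = true → f (invL x) = true

/-- the permutation of a letter -/
def permX (h : IsAct f actX) (x : ℕ) : Equiv.Perm X :=
  if hx : f x = true then
    { toFun := actX x
      invFun := actX (invL x)
      left_inv := h.inv x hx
      right_inv := fun p => by
        have := h.inv (invL x) (h.finv x hx) p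
        rw [invL_invL] at this
        exact this }
  else 1

/-- homomorphic version -/
def rhoX (h : IsAct f actX) (x : ℕ) : Equiv.Perm X := (permX h x)⁻¹

theorem permX_apply (h : IsAct f actX) {x : ℕ} (hx : f x = true) (p : X) :
    permX h x p = actX x p := by
  unfold permX; rw [dif_pos hx]; rfl

theorem rhoX_invCompat (h : IsAct f actX) : InvCompat (rhoX h) := by
  intro x
  unfold rhoX
  congr 1
  by_cases hx : f x = true
  · have hx' := h.finv x hx
    rw [eq_inv_iff_mul_eq_one]
    ext p
    rw [Equiv.Perm.mul_apply, permX_apply h hx', permX_apply h hx, h.inv x hx p]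
    rfl
  · have hx' : ¬ f (invL x) = true := fun hh => hx (by simpa [invL_invL] using h.finv _ hh)
    unfold permX
    rw [dif_neg hx, dif_neg hx', inv_one]

theorem ev_rhoX_inv_apply (h : IsAct f actX) {w : List ℕ} (hw : ∀ x ∈ w, f x = true) (p : X) :
    ((ev (rhoX h) w)⁻¹ : Equiv.Perm X) p = trX actX w p := by
  induction w generalizing p with
  | nil => simp [trX]
  | cons x w ih =>
    rw [ev_cons, mul_inv_rev, Equiv.Perm.mul_apply, ih (fun z hz => hw z (List.mem_cons_of_mem _ hz))]
    show _ = trX actX w (actX x p)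
    congr 1
    unfold rhoX
    rw [inv_inv]
    exact permX_apply h (hw x List.mem_cons_self) p

theorem ev_rhoX_eq_one (h : IsAct f actX) {w : List ℕ} (hw : ∀ x ∈ w, f x = true)
    (h1 : ∀ p, trX actX w p = p) : ev (rhoX h) w = 1 := by
  rw [← inv_eq_one]
  ext p
  rw [ev_rhoX_inv_apply h hw p, h1 p]
  rfl

end gen

/-! ### labels -/

/-- unpacked label -/
def labl (x p : ℕ) : List ℕ := unp 32 (lab x p)

/-- product of the labels along a word -/
def labW : List ℕ → ℕ → List ℕ
  | [], _ => []
  | x :: w, p => labl x p ++ labW w (act120 x p)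

/-- run with an arbitrary final test -/
def crunG (e : ℕ → ℕ → ℕ → ℕ → Bool) (w : List ℕ) : ℕ → ℕ → ℕ → ℕ → Bool :=
  List.rec e
    (fun x _ ih p y1 y2 y3 =>
      frc (lab x p) fun s => frc (act120 x p) fun q => tr3 32 s y1 y2 y3 fun z1 z2 z3 => ih q z1 z2 z3) w

theorem tr3_eq (fuel : ℕ) : ∀ (w y1 y2 y3 : ℕ) (k : ℕ → ℕ → ℕ → Bool),
    tr3 fuel w y1 y2 y3 k = k (tr act (unp fuel w) y1) (tr act (unp fuel w) y2) (tr act (unp fuel w) y3) := by
  induction fuel with
  | zero => intro w y1 y2 y3 k; rfl
  | succ n ih =>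
    intro w y1 y2 y3 k
    have h1 : tr3 (n + 1) w y1 y2 y3 k = Bool.rec (frc (Nat.land w 15) fun x =>
        tr3 n (Nat.div w 16) (act x y1) (act x y2) (act x y3) k) (k y1 y2 y3) (Nat.beq w 0) := rfl
    have h2 : unp (n + 1) w = Bool.rec (Nat.land w 15 :: unp n (Nat.div w 16)) [] (Nat.beq w 0) := rfl
    rw [h1, h2]
    cases Nat.beq w 0 with
    | true => rfl
    | false =>
      show frc (Nat.land w 15) (fun x => tr3 n (Nat.div w 16) (act x y1) (act x y2) (act x y3) k) = _
      rw [frc_eq, ih]
      rfl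

theorem crunG_eq (e : ℕ → ℕ → ℕ → ℕ → Bool) (w : List ℕ) : ∀ p y1 y2 y3,
    crunG e w p y1 y2 y3 = e (tr act120 w p) (tr act (labW w p) y1) (tr act (labW w p) y2)
      (tr act (labW w p) y3) := by
  induction w with
  | nil => intro p y1 y2 y3; rfl
  | cons x w ih =>
    intro p y1 y2 y3
    have h1 : crunG e (x :: w) p y1 y2 y3 = frc (lab x p) (fun s => frc (act120 x p) fun q =>
        tr3 32 s y1 y2 y3 fun z1 z2 z3 => crunG e w q z1 z2 z3) := rfl
    rw [h1, frc_eq, frc_eq, tr3_eq, ih]
    simp only [labW, labl, tr_append, tr_cons]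

/-- final test of the relator check -/
def endAt (q p y1 y2 y3 : ℕ) : Bool :=
  Bool.rec false (Bool.rec false (Bool.rec false (Nat.beq y3 45) (Nat.beq y2 39)) (Nat.beq y1 1)) (Nat.beq p q)

theorem endAt_iff (q p y1 y2 y3 : ℕ) : endAt q p y1 y2 y3 = true ↔ p = q ∧ y1 = 1 ∧ y2 = 39 ∧ y3 = 45 := by
  rw [← @Nat.beq_eq p, ← @Nat.beq_eq y1, ← @Nat.beq_eq y2, ← @Nat.beq_eq y3]
  unfold endAt
  cases Nat.beq p q <;> cases Nat.beq y1 1 <;> cases Nat.beq y2 39 <;> cases Nat.beq y3 45 <;> decide

theorem corc_eq (w : List ℕ) : corc w = Bool.rec false (crunG (endAt 0) w 0 1 39 45) (allL isC w) := rfl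

/-! ### kernel checks -/

/-- the C-letters -/
def lettersC : List ℕ := [1,3,4,5,6,7,8,9,10,11]

theorem mem_lettersC {x : ℕ} (hx : isC x = true) : x ∈ lettersC := by
  rw [isC_iff] at hx
  obtain ⟨⟨h1, h2⟩, h3⟩ := hx
  interval_cases x <;> simp_all [lettersC]

set_option maxRecDepth 100000 in
/-- labels are B-words -/
theorem lab_check : allG (fun x => allB 120 (fun p => allL isB (labl x p))) lettersC = true := by
  decide +kernel

set_option maxRecDepth 100000 in
/-- labels of inverse edges are inverse -/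
theorem labinv_check : allG (fun x => allB 120 (fun p =>
    crunG (endAt p) [x, invL x] p 1 39 45)) lettersC = true := by
  decide +kernel

set_option maxRecDepth 100000 in
/-- relators -/
theorem labrel_check : allG (fun r => and (allL isC r) (allB 120 (fun p =>
    crunG (endAt p) r p 1 39 45))) relC = true := by
  decide +kernel

set_option maxRecDepth 100000 in
/-- labels at `0` -/
theorem lab0_check : allG (fun x => and (Nat.beq (act120 x 0) 0)
    (Nat.beq (lab x 0) x)) [1,3,4,5,6,7,8,9] = true := by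
  decide +kernel

set_option maxRecDepth 100000 in
/-- `B` fixes the point 0 of the 819-point table -/
theorem fix0_check : allG (fun x => Nat.beq (act x 0) 0) [1,3,4,5,6,7,8,9] = true := by
  decide +kernel

end Cfsg.Agent.Th.COracle
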