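import Cfsg.Agent.SporadicRecognition.CosetCert
import Cfsg.Agent.SporadicRecognition.CosetCertHyp

/-!
Partial certificates for `CosetCert`: some entries may be undefined; used to prove that a word lies in the
subgroup (`mem_of_walk`) without completing the coset enumeration.
Generator: `tools/th/gent.cpp` (input files with `target:` lines).
-/

set_option autoImplicit false
set_option linter.unusedSectionVars false
set_option linter.unusedVariables false

namespace Cfsg.Agent.Th.CosetTrace

open Cfsg.Agent.SporadicRecognition.CosetCert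

variable (C : Cert)

/-- all entries of node `i` are undefined or correct -/
noncomputable def nodeT (ib im ci : Nat) (i m e : Nat) : Bool :=
  entryOK C true i C.k e && rowOK C ib im ci true i m C.k

noncomputable def runT (ib im ci eb em ce lo : Nat) (n : Nat) : Bool :=
  Nat.rec (motive := fun _ => Bool) true
    (fun m ih => Nat.rec (motive := fun _ => Bool) false
        (fun i _ => nodeT C ib im ci i m (Nat.land (Nat.shiftRight ce (Nat.mul m eb)) em) && ih)
        (Nat.succ (Nat.add lo m))) n

/-- nodes `lo ≤ i < hi` have only correct entries -/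
def PartT (lo hi : Nat) : Prop := ∀ i, lo ≤ i → i < hi → ∀ x, x ≤ C.k →
  look C i x = C.mask ∨ ∃ q, main C i x q = true

theorem PartT.append {lo mid hi : Nat} (h1 : PartT C lo mid) (h2 : PartT C mid hi) :
    PartT C lo hi := by
  intro i hl hh x hx
  rcases lt_or_ge i mid with h | h
  · exact h1 i hl h x hx
  · exact h2 i h hh x hx

theorem nodeT_sound {ib im ci i m e : Nat} (h : nodeT C ib im ci i m e = true) :
    ∀ x, x ≤ C.k → look C i x = C.mask ∨ ∃ q, main C i x q = true := by
  rw [nodeT, Bool.and_eq_true] at h
  intro x hx
  rcases hx.lt_or_eq with h1 | h1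
  · rcases rowOK_sound C h.2 x h1 with h2 | h2
    · exact Or.inl h2.2
    · exact Or.inr h2
  · subst h1
    rcases entryOK_sound C h.1 with h2 | h2
    · exact Or.inl h2.2
    · exact Or.inr h2

theorem runT_sound {ib im ci eb em ce lo n : Nat} :
    runT C ib im ci eb em ce lo n = true → PartT C lo (lo + n) := by
  induction n with
  | zero => intro _ i h1 h2; omega
  | succ m ih =>
    intro h
    have h' : (nodeT C ib im ci (lo + m) m (Nat.land (Nat.shiftRight ce (Nat.mul m eb)) em) &&
      runT C ib im ci eb em ce lo m) = true := h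
    rw [Bool.and_eq_true] at h'
    have h1 := ih h'.2
    intro i hl hh x hx
    rcases lt_or_ge i (lo + m) with h2 | h2
    · exact h1 i hl h2 x hx
    · have : i = lo + m := by omega
      subst this
      exact nodeT_sound C h'.1 x hx

section

variable {G : Type*} [Group G] (H : Subgroup G) (g : Nat → G)

theorem good_of_partT (hyp : Hyp C H g) (hP : PartT C 0 C.N) (i x : Nat) (hi : i < C.N) (hx : x ≤ C.k)
    (hl : look C i x ≠ C.mask) : Good C H g (trans C g) i x := by
  have hall : ∀ i x, i < C.N → x ≤ C.k → look C i x = C.mask ∨ ∃ q, main C i x q = true :=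
    fun i x hi hx => hP i (Nat.zero_le _) hi x hx
  refine good_of_checks C H g (trans C g) hyp (trans_isTrans C g) hall i x hi hx ?_
  rcases hall i x hi hx with h | h
  · exact absurd h hl
  · exact h

/-- a word which closes at node 0 lies in `H` -/
theorem mem_of_walk (hyp : Hyp C H g) (hP : PartT C 0 C.N) (τ : Nat) (hτ : Nat.blt τ C.mask = true)
    (w : List Nat) (hw : ∀ x ∈ w, x ≤ C.k) (h : walkS C τ w 0 = 1) : ev g w ∈ H := by
  have hτ' : τ < C.mask := Nat.le_of_ble_eq_true hτ
  have h1 := walkS_sound C H g (trans C g) hyp.hk τ (fun i x hi hx hle =>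
    good_of_partT C H g hyp hP i x hi hx (by omega)) w hw 0 0 hyp.hN h
  have h2 := h1.2
  rw [(trans_isTrans C g).1, one_mul] at h2
  have h3 : ev g w * 1⁻¹ ∈ H := h2
  rwa [inv_one, mul_one] at h3

end

end Cfsg.Agent.Th.CosetTrace
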