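import Cfsg.Agent.Th.Base
import Cfsg.Agent.Th.CosetTrace
import Cfsg.Agent.SporadicRecognition.CosetChain

/-!
Expressions for the relators of the Thompson group and of its subgroups `L = ⟨d,e,s,t⟩`,
`B = ⟨a,c,d,e,s,t⟩`, `K = ⟨a,b,c,d,e,s,t⟩`, `C = ⟨a,c,d,e,s,t,u⟩`; freely reduced relator words.
-/

set_option autoImplicit false
set_option linter.unusedSectionVars false
set_option linter.unusedVariables false

namespace Cfsg.Agent.Th.CertTools

open Cfsg.Agent.SporadicRecognition.CosetCert Cfsg.Agent.SporadicRecognition.CosetCertHyp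
  Cfsg.Agent.SporadicRecognition.CosetChain Cfsg.Agent.Th.Base

/-- relations of `⟨d,e,s,t⟩` -/
structure RelL {G : Type*} [Group G] (d e s t : G) : Prop where
  d2 : d ^ 2 = 1
  e2 : e ^ 2 = 1
  de3 : (d * e) ^ 3 = 1
  s7 : s ^ 7 = 1
  sd2 : (s * d) ^ 2 = 1
  es : (e⁻¹ * s⁻¹ * e * s) * (((s ^ 3)⁻¹ * e * (s ^ 3))⁻¹) = 1
  t3 : t ^ 3 = 1
  td : t⁻¹ * d⁻¹ * t * d = 1
  te : t⁻¹ * e⁻¹ * t * e = 1
  st : (t⁻¹ * s * t) * ((s ^ 2)⁻¹) = 1

/-- relations of `⟨a,c,d,e,s,t⟩` common to `RelK` and `RelC` -/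
structure RelB {G : Type*} [Group G] (a c d e s t : G) : Prop where
  a2 : a ^ 2 = 1
  c2 : c ^ 2 = 1
  ae2 : (a * e) ^ 2 = 1
  acd : a * (((c * d) ^ 4)⁻¹) = 1
  ce2 : (c * e) ^ 2 = 1
  sa : s⁻¹ * a⁻¹ * s * a = 1
  sc : s⁻¹ * c⁻¹ * s * c = 1
  ta : t⁻¹ * a⁻¹ * t * a = 1
  tc : t⁻¹ * c⁻¹ * t * c = 1
  L : RelL d e s t

theorem relB_of_relK {G : Type*} [Group G] {a b c d e s t : G} (h : RelK a b c d e s t) :
    RelB a c d e s t :=
  ⟨h.a2, h.c2, h.ae2, h.acd, h.ce2, h.sa, h.sc, h.ta, h.tc,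
    ⟨h.d2, h.e2, h.de3, h.s7, h.sd2, h.es, h.t3, h.td, h.te, h.st⟩⟩

theorem relB_of_relC {G : Type*} [Group G] {a c d e s t u : G} (h : RelC a c d e s t u) :
    RelB a c d e s t :=
  ⟨h.a2, h.c2, h.ae2, h.acd, h.ce2, h.sa, h.sc, h.ta, h.tc,
    ⟨h.d2, h.e2, h.de3, h.s7, h.sd2, h.es, h.t3, h.td, h.te, h.st⟩⟩

/-- commutator expression `x⁻¹ y⁻¹ x y` -/
def cm (x y : Ex) : Ex := .m (.m (.m (.i x) (.i y)) x) y

/-- conjugate `y⁻¹ x y` -/
def cj (x y : Ex) : Ex := .m (.m (.i y) x) y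

def exL (d e s t : Nat) : List Ex :=
  [.p (.m (.g d) (.g e)) 3, .p (.g s) 7, .p (.m (.g s) (.g d)) 2,
   .m (cm (.g e) (.g s)) (.i (.m (.m (.i (.p (.g s) 3)) (.g e)) (.p (.g s) 3))),
   .p (.g t) 3, cm (.g t) (.g d), cm (.g t) (.g e),
   .m (cj (.g s) (.g t)) (.i (.p (.g s) 2))]

def exB (a c d e s t : Nat) : List Ex :=
  [.p (.m (.g a) (.g e)) 2, .m (.g a) (.i (.p (.m (.g c) (.g d)) 4)), .p (.m (.g c) (.g e)) 2,
   cm (.g s) (.g a), cm (.g s) (.g c), cm (.g t) (.g a), cm (.g t) (.g c)] ++ exL d e s t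

def exK (a b c d e s t : Nat) : List Ex :=
  [.p (.m (.g a) (.g b)) 3, .p (.m (.g b) (.g c)) 3, .p (.m (.g b) (.g d)) 2, .p (.m (.g b) (.g e)) 2,
   .p (.m (.m (.m (.g b) (.g c)) (.g d)) (.g e)) 8, cm (.g s) (.g b), cm (.g t) (.g b)] ++
  exB a c d e s t

/-- `(s²)⁻¹ u s²` -/
def exus (s u : Nat) : Ex := .m (.m (.i (.p (.g s) 2)) (.g u)) (.p (.g s) 2)

def exC (a c d e s t u : Nat) : List Ex :=
  [.m (.p (.g u) 2) (.i (.m (.g a) (.g c))), cm (.g u) (.g a), cm (.g u) (.g c), cm (.g u) (.g e),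
   .p (.m (.m (.g d) (.g e)) (cj (.g d) (.g u))) 2,
   .m (cj (.g t) (.g u)) (.i (.i (.g t))),
   .m (.m (.m (.i (.g e)) (.i (exus s u))) (.g e)) (exus s u),
   .m (.m (.g a) (.g c)) (.i (.p (.m (.g u) (.g s)) 3)),
   .m (.m (.g a) (.g c)) (.i (.p (cm (.g u) (.g s)) 4)),
   .m (.p (.m (.g d) (exus s u)) 4)
     (.i (.m (.m (.m (.m (.g a) (.g c)) (cj (.g c) (.g d)))
       (cj (.g c) (.m (.m (.g d) (.g e)) (.i (.g s)))))
       (cj (.g c) (.m (.m (.g d) (.g e)) (.p (.g s) 2)))))] ++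
  exB a c d e s t

variable {G : Type*} [Group G] (g : Nat → G)

theorem exL_val {d e s t : Nat} (h : RelL (g d) (g e) (g s) (g t)) :
    ∀ x ∈ exL d e s t, x.val g = 1 := by
  simp only [exL, List.mem_cons, List.not_mem_nil, or_false, forall_eq_or_imp, forall_eq]
  exact ⟨h.de3, h.s7, h.sd2, h.es, h.t3, h.td, h.te, h.st⟩

theorem exB_val {a c d e s t : Nat} (h : RelB (g a) (g c) (g d) (g e) (g s) (g t)) :
    ∀ x ∈ exB a c d e s t, x.val g = 1 := by
  intro x hx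
  rcases List.mem_append.mp hx with hx | hx
  · clear * - hx h
    revert x
    simp only [List.mem_cons, List.not_mem_nil, or_false, forall_eq_or_imp, forall_eq]
    exact ⟨h.ae2, h.acd, h.ce2, h.sa, h.sc, h.ta, h.tc⟩
  · exact exL_val g h.L x hx

theorem exK_val {a b c d e s t : Nat} (h : RelK (g a) (g b) (g c) (g d) (g e) (g s) (g t)) :
    ∀ x ∈ exK a b c d e s t, x.val g = 1 := by
  intro x hx
  rcases List.mem_append.mp hx with hx | hx
  · clear * - hx h
    revert x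
    simp only [List.mem_cons, List.not_mem_nil, or_false, forall_eq_or_imp, forall_eq]
    exact ⟨h.ab3, h.bc3, h.bd2, h.be2, h.bcde, h.sb, h.tb⟩
  · exact exB_val g (relB_of_relK h) x hx

theorem exC_val {a c d e s t u : Nat} (h : RelC (g a) (g c) (g d) (g e) (g s) (g t) (g u)) :
    ∀ x ∈ exC a c d e s t u, x.val g = 1 := by
  intro x hx
  rcases List.mem_append.mp hx with hx | hx
  · clear * - hx h
    revert x
    simp only [List.mem_cons, List.not_mem_nil, or_false, forall_eq_or_imp, forall_eq]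
    exact ⟨h.u2, h.ua, h.uc, h.ue, h.dedu, h.tu, h.eus, h.us3, h.us4, h.dus⟩
  · exact exB_val g (relB_of_relC h) x hx

/-! ### free reduction -/

def fcons (inv : Nat → Nat) (x : Nat) : List Nat → List Nat
  | [] => [x]
  | y :: w => if Nat.beq (inv x) y then w else x :: y :: w

def fred (inv : Nat → Nat) : List Nat → List Nat
  | [] => []
  | x :: w => fcons inv x (fred inv w)

theorem ev_fcons {inv : Nat → Nat} {k : Nat} (hinv : ∀ x, x < k → inv x < k ∧ g x * g (inv x) = 1)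
    (x : Nat) (hx : x < k) (w : List Nat) : ev g (fcons inv x w) = g x * ev g w := by
  cases w with
  | nil => rfl
  | cons y w =>
    rw [fcons]
    split_ifs with h
    · have h1 : inv x = y := Nat.eq_of_beq_eq_true h
      rw [ev_cons, ← h1, ← mul_assoc, (hinv x hx).2, one_mul]
    · rw [ev_cons]

theorem ev_fred {inv : Nat → Nat} {k : Nat} (hinv : ∀ x, x < k → inv x < k ∧ g x * g (inv x) = 1)
    (w : List Nat) (hw : ∀ x ∈ w, x < k) : ev g (fred inv w) = ev g w := by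
  induction w with
  | nil => rfl
  | cons x w ih =>
    rw [fred, ev_fcons g hinv x (hw x (by simp)), ih (fun y hy => hw y (by simp [hy])), ev_cons]

/-- the freely reduced words of a list of expressions -/
def words (inv : Nat → Nat) (l : List Ex) : List (List Nat) := l.map fun x => fred inv (x.word inv)

def ltB (k : Nat) : Ex → Bool
  | .g n => Nat.blt n k
  | .m a b => ltB k a && ltB k b
  | .i a => ltB k a
  | .p a _ => ltB k a

theorem lt_of_ltB {k : Nat} (x : Ex) (h : ltB k x = true) : x.lt k := by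
  induction x with
  | g n => exact Nat.le_of_ble_eq_true h
  | m a b iha ihb =>
    rw [ltB, Bool.and_eq_true] at h
    exact ⟨iha h.1, ihb h.2⟩
  | i a iha => exact iha h
  | p a n iha => exact iha h

theorem words_ev {inv : Nat → Nat} {k : Nat} (hinv : ∀ x, x < k → inv x < k ∧ g x * g (inv x) = 1)
    (l : List Ex) (hl : (l.all (ltB k)) = true) (h : ∀ x ∈ l, x.val g = 1) :
    ∀ r ∈ words inv l, ev g r = 1 := by
  intro r hr
  obtain ⟨x, hx, rfl⟩ := List.mem_map.mp hr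
  have hlt : x.lt k := lt_of_ltB x (List.all_eq_true.mp hl x hx)
  rw [ev_fred g hinv _ (Ex.word_lt (fun y hy => (hinv y hy).1) x hlt), Ex.ev_word hinv x hlt]
  exact h x hx

/-- hypotheses of a certificate from expressions -/
theorem hyp_of_ex (C : Cert) (H : Subgroup G) (l : List Ex) (subw : List (List Nat))
    (hk : g C.k = 1) (hinv : ∀ x, x < C.k → C.inv x < C.k ∧ g x * g (C.inv x) = 1)
    (hl : (l.all (ltB C.k)) = true) (h : ∀ x ∈ l, x.val g = 1) (hsub : ∀ s ∈ subw, ev g s ∈ H)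
    (hcheck : checkHyp C (words C.inv l) subw = true) : Hyp C H g :=
  hyp_of_checks H g C _ subw hk hinv (words_ev g hinv l hl h) hsub hcheck

end Cfsg.Agent.Th.CertTools
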