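import Cfsg.Agent.Th.PathCover
import Cfsg.Agent.Th.COracleSound
import Cfsg.Agent.Th.TabFacts

/-!
# Checking the facts of the Thompson certificate

The oracle `orc2 w v` reduces `w v⁻¹` freely and applies the K-oracle or the C-oracle.  `check2` checks one proof
(two paths from a common start frame whose total words differ by nothing, by `r1` or by `r2`).
-/

set_option autoImplicit false

namespace Cfsg.Agent.Th.FactCheck

open Cfsg.Agent.Th.Base (RelK RelC)
open Cfsg.Agent.Th.Word Cfsg.Agent.Th.KOracle Cfsg.Agent.Th.COracleDef Cfsg.Agent.Th.COracleSound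
open Cfsg.Agent.Th.PathCover (unl ev_unl letters_of_invCompat)
open Cfsg.Agent.Lib.PathCheck (Tree Fact Holds cat winv len Letters run St run_sound)

universe u

variable {G : Type u} [Group G]

/-- free reduction -/
def redu (w : List ℕ) : List ℕ :=
  List.rec [] (fun x _ ih => List.rec [x] (fun y r _ => Bool.rec (x :: y :: r) r (Nat.beq y (invL x))) ih) w

theorem redu_cons (x : ℕ) (w : List ℕ) : redu (x :: w) =
    List.rec [x] (fun y r _ => Bool.rec (x :: y :: r) r (Nat.beq y (invL x))) (redu w) := rfl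

theorem ev_redu {γ : ℕ → G} (hγ : InvCompat γ) (w : List ℕ) : ev γ (redu w) = ev γ w := by
  induction w with
  | nil => rfl
  | cons x w ih =>
    rw [redu_cons, ev_cons, ← ih]
    cases hr : redu w with
    | nil => simp
    | cons y r =>
      show ev γ (Bool.rec (x :: y :: r) r (Nat.beq y (invL x))) = _
      cases hb : Nat.beq y (invL x) with
      | false => rfl
      | true =>
        have : y = invL x := Nat.eq_of_beq_eq_true hb
        show ev γ r = γ x * (γ y * ev γ r)
        rw [this, hγ x]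
        group

/-- inverse word, with accumulator and forced letters -/
def iwr (w : List ℕ) : List ℕ → List ℕ :=
  List.rec (fun acc => acc) (fun x _ ih acc => frc (invL x) fun y => ih (y :: acc)) w

theorem iwr_eq (w acc : List ℕ) : iwr w acc = iw w ++ acc := by
  induction w generalizing acc with
  | nil => rfl
  | cons x w ih =>
    show frc (invL x) (fun y => iwr w (y :: acc)) = _
    rw [frc_eq, ih, iw_cons]
    simp

/-- unpack with forced letters -/
def unq (fuel : ℕ) : ℕ → List ℕ :=
  Nat.rec (fun _ => [])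
    (fun _ ih w => Bool.rec (frc (Nat.land w 15) fun x => x :: ih (Nat.div w 16)) [] (Nat.beq w 0)) fuel

theorem unq_eq (fuel w : ℕ) : unq fuel w = unp fuel w := by
  induction fuel generalizing w with
  | zero => rfl
  | succ n ih =>
    have e1 : unq (n + 1) w = Bool.rec (frc (Nat.land w 15) fun x => x :: unq n (Nat.div w 16)) []
        (Nat.beq w 0) := rfl
    have e2 : unp (n + 1) w = Bool.rec (Nat.land w 15 :: unp n (Nat.div w 16)) [] (Nat.beq w 0) := rfl
    rw [e1, e2, frc_eq, ih]

/-- unpack -/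
def unf (w : ℕ) : List ℕ := unq (len w) w

theorem unf_eq (w : ℕ) : unf w = unl w := unq_eq _ _

/-- the oracle on lists -/
def orcL (q : List ℕ) : Bool := Bool.rec (corc q) true (korc q)

/-- the oracle -/
def orc2 (w v : ℕ) : Bool := orcL (redu (unf w ++ iwr (unf v) []))

/-- the hypotheses on the letters -/
structure Ctx (γ : ℕ → G) : Prop where
  inv : InvCompat γ
  zero : γ 0 = 1
  K : RelK (γ 1) (γ 2) (γ 3) (γ 4) (γ 5) (γ 6) (γ 8)
  C : RelC (γ 1) (γ 3) (γ 4) (γ 5) (γ 6) (γ 8) (γ 10)

theorem orcL_sound {γ : ℕ → G} (h : Ctx γ) (q : List ℕ) (hq : orcL q = true) : ev γ q = 1 := by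
  unfold orcL at hq
  cases hk : korc q with
  | true => exact korc_sound Cfsg.Agent.Th.TabFacts.boundK h.inv h.K hk
  | false =>
    rw [hk] at hq
    exact corc_sound h.inv h.C hq

theorem orc2_sound {γ : ℕ → G} (h : Ctx γ) (w v : ℕ) (hq : orc2 w v = true) :
    Cfsg.Agent.Lib.PathCheck.ev γ w = Cfsg.Agent.Lib.PathCheck.ev γ v := by
  have h1 := orcL_sound h _ hq
  rw [ev_redu h.inv, ev_append, iwr_eq, List.append_nil, ev_iw h.inv, unf_eq, unf_eq, ev_unl, ev_unl] at h1
  exact mul_inv_eq_one.mp h1

/-- the relator words `r1 = bacb u bacb e U`, `r2 = bacb dud bacb cedUd bacb eUdUd` -/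
def r1w : List ℕ := [2, 1, 3, 2, 10, 2, 1, 3, 2, 5, 11]
/-- see `r1w` -/
def r2w : List ℕ := [2, 1, 3, 2, 4, 10, 4, 2, 1, 3, 2, 3, 5, 4, 11, 4, 2, 1, 3, 2, 5, 11, 4, 11, 4]

/-- equality of lists of numbers -/
def beqL (v : List ℕ) : List ℕ → Bool :=
  List.rec (fun w => List.rec true (fun _ _ _ => false) w)
    (fun x _ ih w => List.rec false (fun y w' _ => Bool.rec false (ih w') (Nat.beq x y)) w) v

theorem beqL_iff (v w : List ℕ) : beqL v w = true ↔ v = w := by
  induction v generalizing w with
  | nil => cases w with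
    | nil => simp [beqL]
    | cons y w => simp [beqL]
  | cons x v ih =>
    cases w with
    | nil => simp [beqL]
    | cons y w =>
      show (Bool.rec false (beqL v w) (Nat.beq x y) : Bool) = true ↔ _
      cases hb : Nat.beq x y with
      | true =>
        have : x = y := Nat.eq_of_beq_eq_true hb
        subst this
        show beqL v w = true ↔ _
        rw [ih]
        simp
      | false =>
        have : x ≠ y := fun h => by
          rw [h, Nat.beq_refl] at hb
          exact absurd hb (by simp)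
        simp [this]

/-- total words: `p1 p2⁻¹` is freely trivial (`0`), `r1`, `r2` or the inverse of them -/
def tot2 (r : ℕ) (p1 p2 : ℕ) : Bool :=
  beqL (redu (unf p1 ++ iwr (unf p2) []))
    (Nat.rec [] (fun r1 _ => Nat.rec r1w (fun r2 _ => Nat.rec (iw r1w) (fun r3 _ => Nat.rec r2w
      (fun _ _ => iw r2w) r3) r2) r1) r)

/-- a proof of a fact -/
structure Prf where
  /-- start node -/
  n0 : ℕ
  /-- start word -/
  w0 : ℕ
  /-- kind of the difference of the total words -/
  r : ℕ
  /-- first path -/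
  p1 : List ℕ
  /-- second path -/
  p2 : List ℕ

/-- frame = (n, w) -/
def frm (s : St) (n w : ℕ) : Bool := and (Nat.beq s.n n) (Nat.beq s.w w)

/-- check a proof of fact number `k` -/
def check2 (tab : ℕ → Fact) (k : ℕ) (p : Prf) : Bool :=
  Option.rec false (fun s1 => Option.rec false (fun s2 =>
    and (tot2 p.r s1.p s2.p)
      (or (and (frm s1 (tab k).n1 (tab k).w1) (frm s2 (tab k).n2 (tab k).w2))
        (and (frm s1 (tab k).n2 (tab k).w2) (frm s2 (tab k).n1 (tab k).w1))))
    (run invL (fun _ w v => orc2 w v) tab k p.p2 ⟨p.n0, p.w0, 0⟩))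
    (run invL (fun _ w v => orc2 w v) tab k p.p1 ⟨p.n0, p.w0, 0⟩)

/-- hypotheses including the two relators -/
structure Ctx2 (γ : ℕ → G) : Prop extends Ctx γ where
  r1 : ev γ r1w = 1
  r2 : ev γ r2w = 1

theorem tot2_sound {γ : ℕ → G} (h : Ctx2 γ) (r p1 p2 : ℕ) (ht : tot2 r p1 p2 = true) :
    Cfsg.Agent.Lib.PathCheck.ev γ p1 = Cfsg.Agent.Lib.PathCheck.ev γ p2 := by
  have h1 := (beqL_iff _ _).mp ht
  have h2 : ev γ (redu (unf p1 ++ iwr (unf p2) [])) = 1 := by
    rw [h1]
    match r with
    | 0 => rfl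
    | 1 => exact h.r1
    | 2 =>
      show ev γ (iw r1w) = 1
      rw [ev_iw h.inv, h.r1, inv_one]
    | 3 => exact h.r2
    | n + 4 =>
      show ev γ (iw r2w) = 1
      rw [ev_iw h.inv, h.r2, inv_one]
  rw [ev_redu h.inv, ev_append, iwr_eq, List.append_nil, ev_iw h.inv, unf_eq, unf_eq, ev_unl, ev_unl] at h2
  exact mul_inv_eq_one.mp h2

theorem check2_sound {γ : ℕ → G} (h : Ctx2 γ) {H : Subgroup G} {g : ℕ → G} {tab : ℕ → Fact} {k : ℕ}
    (htab : ∀ i < k, Holds H γ g (tab i)) (p : Prf) (hp : check2 tab k p = true) :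
    Holds H γ g (tab k) := by
  have hL : Letters γ invL := letters_of_invCompat h.inv h.zero
  have horc : ∀ n w v : ℕ, (fun _ w v => orc2 w v : ℕ → ℕ → ℕ → Bool) n w v = true →
      Cfsg.Agent.Lib.PathCheck.ev γ w = Cfsg.Agent.Lib.PathCheck.ev γ v :=
    fun _ w v hq => orc2_sound h.toCtx w v hq
  unfold check2 at hp
  cases e1 : run invL (fun _ w v => orc2 w v) tab k p.p1 ⟨p.n0, p.w0, 0⟩ with
  | none => rw [e1] at hp; exact absurd hp (by simp)
  | some s1 =>
    cases e2 : run invL (fun _ w v => orc2 w v) tab k p.p2 ⟨p.n0, p.w0, 0⟩ with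
    | none => rw [e1, e2] at hp; exact absurd hp (by simp)
    | some s2 =>
      rw [e1, e2] at hp
      have hp' : and (tot2 p.r s1.p s2.p)
        (or (and (frm s1 (tab k).n1 (tab k).w1) (frm s2 (tab k).n2 (tab k).w2))
          (and (frm s1 (tab k).n2 (tab k).w2) (frm s2 (tab k).n1 (tab k).w1))) = true := hp
      rw [Bool.and_eq_true, Bool.or_eq_true, Bool.and_eq_true, Bool.and_eq_true] at hp'
      obtain ⟨ht, he⟩ := hp'
      have r1 := run_sound hL horc htab (g p.n0 * Cfsg.Agent.Lib.PathCheck.ev γ p.w0) _ _ _ e1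
        (by simpa using Cfsg.Agent.Lib.PathCheck.Rel.refl H _)
      have r2 := run_sound hL horc htab (g p.n0 * Cfsg.Agent.Lib.PathCheck.ev γ p.w0) _ _ _ e2
        (by simpa using Cfsg.Agent.Lib.PathCheck.Rel.refl H _)
      rw [tot2_sound h _ _ _ ht] at r1
      have r := Cfsg.Agent.Lib.PathCheck.Rel.trans r1 (Cfsg.Agent.Lib.PathCheck.Rel.symm r2)
      have fr : ∀ (s : St) (n w : ℕ), frm s n w = true → s.n = n ∧ s.w = w := by
        intro s n w hs
        unfold frm at hs
        rw [Bool.and_eq_true] at hs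
        exact ⟨Nat.eq_of_beq_eq_true hs.1, Nat.eq_of_beq_eq_true hs.2⟩
      rcases he with ⟨a, b⟩ | ⟨a, b⟩
      · obtain ⟨a1, a2⟩ := fr _ _ _ a
        obtain ⟨b1, b2⟩ := fr _ _ _ b
        rw [a1, a2, b1, b2] at r
        exact r
      · obtain ⟨a1, a2⟩ := fr _ _ _ a
        obtain ⟨b1, b2⟩ := fr _ _ _ b
        rw [a1, a2, b1, b2] at r
        exact Cfsg.Agent.Lib.PathCheck.Rel.symm r

/-- check a list of proofs for the facts `k, k+1, …` -/
def checkL (tab : ℕ → Fact) (l : List Prf) : ℕ → Bool :=
  List.rec (fun _ => true) (fun p _ ih k => Bool.rec false (ih (Nat.succ k)) (check2 tab k p)) l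

theorem checkL_sound {γ : ℕ → G} (h : Ctx2 γ) {H : Subgroup G} {g : ℕ → G} {tab : ℕ → Fact} (l : List Prf)
    (k : ℕ) (htab : ∀ i < k, Holds H γ g (tab i)) (hl : checkL tab l k = true) :
    ∀ i < k + l.length, Holds H γ g (tab i) := by
  induction l generalizing k with
  | nil => simpa using htab
  | cons p l ih =>
    have hl' : (Bool.rec false (checkL tab l (k + 1)) (check2 tab k p) : Bool) = true := hl
    cases hc : check2 tab k p with
    | false => rw [hc] at hl'; exact absurd hl' (by simp)
    | true =>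
      rw [hc] at hl'
      have hk := check2_sound h htab p hc
      have := ih (k + 1) (fun i hi => by
        rcases Nat.lt_succ_iff_lt_or_eq.mp hi with hi | rfl
        · exact htab i hi
        · exact hk) hl'
      intro i hi
      apply this
      simp only [List.length_cons] at hi
      omega

/-- one step of the chain of checks -/
theorem step {γ : ℕ → G} (h : Ctx2 γ) {H : Subgroup G} {g : ℕ → G} {tab : ℕ → Fact} (l : List Prf)
    (k n m : ℕ) (hn : l.length = n) (hm : k + n = m) (hl : checkL tab l k = true)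
    (htab : ∀ i < k, Holds H γ g (tab i)) : ∀ i < m, Holds H γ g (tab i) := by
  rw [← hm, ← hn]
  exact checkL_sound h l k htab hl

end Cfsg.Agent.Th.FactCheck
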