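import Cfsg.Agent.Th.Lower
import Cfsg.Agent.Th.CoverMain
import Cfsg.Agent.Th.CenterTh
import Cfsg.Agent.Th.Simple19
import Cfsg.Prelude.Def_Sporadic

/-!
The presented Thompson group: order, faithfulness of the 248-dimensional representation, trivial centre, simplicity.
-/

set_option autoImplicit false
set_option maxHeartbeats 400000

namespace Cfsg.Agent.Th.Final

open Cfsg.Agent.Th.Base Cfsg.Agent.Th.Word Cfsg.Agent.Th.KOracle Cfsg.Agent.Th.IndexUpper Cfsg.Agent.Th.Hom248

theorem main : Finite Cfsg.Spor.Th ∧ Nat.card Cfsg.Spor.Th = 90745943887872000 ∧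
    Nat.card (sub gTh isK) = 634023936 ∧ (sub gTh isK).index = 143127000 := by
  obtain ⟨g, hN, _⟩ := CoverMain.nodesTh
  exact final hN Lower.hlow

theorem card_Th : Nat.card Cfsg.Spor.Th = 90745943887872000 := main.2.1

instance finite_Th : Finite Cfsg.Spor.Th := main.1

theorem center_eq_bot : Subgroup.center Cfsg.Spor.Th = ⊥ := by
  obtain ⟨g, hN, _⟩ := CoverMain.nodesTh
  exact CenterTh.center_Th hN Lower.hlow

theorem rho_injective : Function.Injective rho := by
  have h1 : Nat.card rho.range = Nat.card Cfsg.Spor.Th := by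
    apply le_antisymm
    · exact Nat.le_of_dvd Nat.card_pos Lower.card_range_dvd_card
    · rw [card_Th]; exact Lower.card_range_ge
  have h2 : Function.Bijective rho.rangeRestrict :=
    (Nat.bijective_iff_surjective_and_card _).mpr ⟨rho.rangeRestrict_surjective, h1.symm⟩
  intro x y h
  exact h2.1 (Subtype.ext h)

theorem isSimple : IsSimpleGroup Cfsg.Spor.Th :=
  Simple19.isSimple rho_injective card_Th center_eq_bot

theorem isTh : Cfsg.IsTh Cfsg.Spor.Th := ⟨isSimple, by rw [card_Th]⟩

end Cfsg.Agent.Th.Final
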