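import Cfsg.Agent.Th.IndexBound
import Cfsg.Agent.Th.TabFacts

/-!
# Number of `H`-cosets in `H g_i w B`

`T` = subgroup of the stabiliser of the coset `H g_i` in `K` generated by the certificate words; if the `T`-orbit of
the point `p = 0·w⁻¹` (of the 819 points) has at most `lam` points then `H g_i w B` contains at most
`774144 * lam / |T|` cosets of `H`.
-/

set_option autoImplicit false

namespace Cfsg.Agent.Th.FlagBound

open Cfsg.Agent.Th.Base (RelK)
open Cfsg.Agent.Th.Word Cfsg.Agent.Th.RelWords Cfsg.Agent.Th.PermTab Cfsg.Agent.Th.KOracle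
open Cfsg.Agent.Th.PathCover (unl)
open Cfsg.Agent.Th.IndexBound

universe u

variable {G : Type u} [Group G]

/-- the subgroup generated by the stabiliser words, in the combined group -/
def gens (γ : ℕ → G) (ws : List (List ℕ)) : Subgroup (G × Equiv.Perm (Fin 819)) :=
  Subgroup.closure {x | ∃ w ∈ ws, ev (pr γ) w = x}

theorem gens_le {γ : ℕ → G} {ws : List (List ℕ)} {S : Subgroup (G × Equiv.Perm (Fin 819))}
    (h : ∀ w ∈ ws, ev (pr γ) w ∈ S) : gens γ ws ≤ S := by
  unfold gens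
  rw [Subgroup.closure_le]
  rintro x ⟨w, hw, rfl⟩
  exact h w hw

/-- order of the group generated by the words of a node -/
theorem card_gens_ge {γ : ℕ → G} (hγ : InvCompat γ) (d : ND) (hd : OK d) [Finite (gens γ d.ws)] :
    d.n1 * d.n2 ≤ Nat.card (gens γ d.ws) := by
  have hw := (allG_iff _ _).mp hd.hw
  have hwl : ∀ w ∈ d.ws, ∀ x ∈ w, isK x = true := fun w hw' => (allL_iff _ _).mp (hw w hw')
  have hmem : ∀ w ∈ d.ws, ev (pr γ) w ∈ gens γ d.ws := fun w hw' => Subgroup.subset_closure ⟨w, hw', rfl⟩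
  have c1 := chain_mask isTab (al G) (al_ev γ) (gens γ d.ws) ⟨d.b1, hd.b1⟩ d.ws
    (fun w hw' => ⟨hwl w hw', hmem w hw'⟩) 819 d.n1 d.b1 rfl hd.h1
  have hfin2 : Finite (gens γ d.ws ⊓ stab (al G) ⟨d.b1, hd.b1⟩ :
      Subgroup (G × Equiv.Perm (Fin 819))) :=
    Finite.of_injective (Subgroup.inclusion inf_le_left) (Subgroup.inclusion_injective _)
  have hvl : ∀ v ∈ d.vs, ∀ x ∈ v, isK x = true := by
    intro v hv
    rw [← hd.hc] at hv
    obtain ⟨c, _, rfl⟩ := List.mem_map.mp hv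
    exact pw_letters _ hwl c
  have hvm : ∀ v ∈ d.vs, ev (pr γ) v ∈ gens γ d.ws ⊓ stab (al G) ⟨d.b1, hd.b1⟩ := by
    intro v hv
    refine ⟨?_, mem_stab_of_tr γ (hvl v hv) ⟨d.b1, hd.b1⟩ ?_⟩
    · have hv2 := hv
      rw [← hd.hc] at hv2
      obtain ⟨c, _, rfl⟩ := List.mem_map.mp hv2
      exact pw_mem (pr_invCompat hγ) _ _ hmem c
    · exact Nat.beq_eq.mp ((allG_iff _ _).mp hd.hv v hv)
  have c2 := chain_mask isTab (al G) (al_ev γ)
    (gens γ d.ws ⊓ stab (al G) ⟨d.b1, hd.b1⟩) ⟨d.b2, hd.b2⟩ d.vs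
    (fun v hv => ⟨hvl v hv, hvm v hv⟩) 819 d.n2 d.b2 rfl hd.h2
  have hfin3 : Finite (gens γ d.ws ⊓ stab (al G) ⟨d.b1, hd.b1⟩ ⊓
      stab (al G) ⟨d.b2, hd.b2⟩ : Subgroup (G × Equiv.Perm (Fin 819))) :=
    Finite.of_injective (Subgroup.inclusion inf_le_left) (Subgroup.inclusion_injective _)
  have hpos : 0 < Nat.card (gens γ d.ws ⊓ stab (al G) ⟨d.b1, hd.b1⟩ ⊓
      stab (al G) ⟨d.b2, hd.b2⟩ : Subgroup (G × Equiv.Perm (Fin 819))) := Nat.card_pos
  calc d.n1 * d.n2 ≤ d.n1 * (d.n2 * Nat.card (gens γ d.ws ⊓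
        stab (al G) ⟨d.b1, hd.b1⟩ ⊓ stab (al G) ⟨d.b2, hd.b2⟩ :
          Subgroup (G × Equiv.Perm (Fin 819)))) :=
        Nat.mul_le_mul_left _ (Nat.le_mul_of_pos_right _ hpos)
    _ ≤ d.n1 * Nat.card (gens γ d.ws ⊓ stab (al G) ⟨d.b1, hd.b1⟩ :
          Subgroup (G × Equiv.Perm (Fin 819))) := Nat.mul_le_mul_left _ c2
    _ ≤ _ := c1

/-- orbit-stabiliser through a homomorphism -/
theorem card_le_orbit_mul {Γ X : Type*} [Group Γ] (α : Γ →* Equiv.Perm X) (S : Subgroup Γ) [Finite S]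
    (β : X) (T : Finset X) (hT : ∀ g ∈ S, α g β ∈ T) :
    Nat.card S ≤ T.card * Nat.card (S ⊓ stab α β : Subgroup Γ) := by
  classical
  letI : MulAction Γ X := MulAction.compHom X α
  have hsm : ∀ (g : Γ) (x : X), g • x = α g x := fun _ _ => rfl
  have h1 : Nat.card (MulAction.orbit S β) * Nat.card (MulAction.stabilizer S β) = Nat.card S := by
    have e := MulAction.orbitProdStabilizerEquivGroup S β
    rw [← Nat.card_prod]
    exact Nat.card_congr e
  have h2 : Nat.card (MulAction.stabilizer S β) = Nat.card (S ⊓ stab α β : Subgroup Γ) := by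
    refine Nat.card_congr
      { toFun := fun x => ⟨x.1.1, x.1.2, (mem_stab α β x.1.1).mpr x.2⟩
        invFun := fun x => ⟨⟨x.1, x.2.1⟩, (mem_stab α β x.1).mp x.2.2⟩
        left_inv := fun x => rfl
        right_inv := fun x => rfl }
  have h3 : Nat.card (MulAction.orbit S β) ≤ T.card := by
    have hc : T.card = Nat.card T := by rw [Nat.card_eq_fintype_card, Fintype.card_coe]
    rw [hc]
    have hm : ∀ x : MulAction.orbit S β, (x : X) ∈ T := by
      rintro ⟨x, ⟨g, rfl⟩⟩
      exact hT g.1 g.2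
    exact Nat.card_le_card_of_injective (fun x : MulAction.orbit S β => (⟨x, hm x⟩ : T))
      (fun x y hxy => Subtype.ext (congrArg (fun z : T => (z : X)) hxy))
  rw [← h1, ← h2]
  exact Nat.mul_le_mul_right _ h3

/-- check: `mask` contains `p`, is closed under the words and their inverses, and has `lam` points -/
def closedB (ws : List (List ℕ)) (m p lam : ℕ) : Bool :=
  and (bit m p) (and (Nat.beq (cnt 819 m) lam) (allG (fun w => allB 819 fun q =>
    or (Bool.not (bit m q)) (and (bit m (tr act w q)) (bit m (tr act (iw w) q)))) ws))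

/-- the orbit of a point under the group generated by the words is contained in a closed mask -/
theorem orbit_mask {γ : ℕ → G} (hγ : InvCompat γ) (ws : List (List ℕ)) (hws : allG (allL isK) ws = true)
    (m p lam : ℕ) (hp : p < 819) (hc : closedB ws m p lam = true) :
    ∃ T : Finset (Fin 819), T.card ≤ lam ∧ ∀ g ∈ gens γ ws, al G g ⟨p, hp⟩ ∈ T := by
  unfold closedB at hc
  rw [Bool.and_eq_true, Bool.and_eq_true] at hc
  obtain ⟨h1, h2, h3⟩ := hc
  have h3 := (allG_iff _ _).mp h3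
  refine ⟨Finset.univ.filter (fun q : Fin 819 => m.testBit (q : ℕ) = true), ?_, ?_⟩
  · rw [← cnt_eq_fin, Nat.eq_of_beq_eq_true h2]
  · have hwl : ∀ w ∈ ws, ∀ x ∈ w, isK x = true := fun w hw' =>
      (allL_iff _ _).mp ((allG_iff _ _).mp hws w hw')
    -- the property: g maps the mask into itself
    have key : ∀ g ∈ gens γ ws, (∀ q : Fin 819, m.testBit (q : ℕ) = true → m.testBit ((al G g q : Fin 819) : ℕ) = true) ∧
        (∀ q : Fin 819, m.testBit (q : ℕ) = true → m.testBit ((al G g⁻¹ q : Fin 819) : ℕ) = true) := by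
      intro g hg
      refine Subgroup.closure_induction (p := fun g _ => (∀ q : Fin 819, m.testBit (q : ℕ) = true →
        m.testBit ((al G g q : Fin 819) : ℕ) = true) ∧ (∀ q : Fin 819, m.testBit (q : ℕ) = true →
        m.testBit ((al G g⁻¹ q : Fin 819) : ℕ) = true)) ?_ ?_ ?_ ?_ hg
      · rintro x ⟨w, hw, rfl⟩
        have h4 : ∀ q : Fin 819, m.testBit (q : ℕ) = true → m.testBit (tr act w q) = true ∧
            m.testBit (tr act (iw w) q) = true := by
          intro q hq
          have h5 := (allB_iff _ _).mp (h3 w hw) q q.2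
          rw [bit_eq, hq, bit_eq, bit_eq] at h5
          rw [Bool.not_true, Bool.false_or, Bool.and_eq_true] at h5
          exact h5
        have hwi : ∀ x ∈ iw w, isK x = true := mem_iw (fun x hx => isK_invL hx) (hwl w hw)
        constructor
        · intro q hq
          have h6 : ((al G (ev (pr γ) w) q : Fin 819) : ℕ) = tr act (iw w) q := by
            rw [← al_ev γ (iw w) hwi q, ev_iw (pr_invCompat hγ), inv_inv]
          rw [h6]
          exact (h4 q hq).2
        · intro q hq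
          rw [al_ev γ w (hwl w hw) q]
          exact (h4 q hq).1
      · constructor
        · intro q hq
          rw [map_one]; exact hq
        · intro q hq
          rw [inv_one, map_one]; exact hq
      · rintro x y _ _ hx hy
        constructor
        · intro q hq
          rw [map_mul, Equiv.Perm.mul_apply]
          exact hx.1 _ (hy.1 q hq)
        · intro q hq
          rw [mul_inv_rev, map_mul, Equiv.Perm.mul_apply]
          exact hy.2 _ (hx.2 q hq)
      · rintro x _ hx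
        refine ⟨hx.2, ?_⟩
        rw [inv_inv]
        exact hx.1
    intro g hg
    rw [Finset.mem_filter]
    refine ⟨Finset.mem_univ _, (key g hg).1 ⟨p, hp⟩ ?_⟩
    rw [← bit_eq]
    exact h1

/-- the stabiliser of the point 0 in the combined group has order at most 774144 -/
theorem card_SB (hb : BoundK.{u}) {γ : ℕ → G} (hγ : InvCompat γ)
    (h : RelK (γ 1) (γ 2) (γ 3) (γ 4) (γ 5) (γ 6) (γ 8)) :
    Nat.card (SK γ ⊓ stab (al G) 0 : Subgroup (G × Equiv.Perm (Fin 819))) ≤ 774144 := by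
  have hf := (SK_bound hb hγ h).1
  have hle := (SK_bound hb hγ h).2
  have kl : ∀ w : List ℕ, allL isK w = true → (∀ x ∈ w, isK x = true) := fun w hw =>
    (allL_iff _ _).mp hw
  have c0' := chain_mask isTab (al G) (al_ev γ) (SK γ) 0 [[1],[2],[3],[4],[5],[6],[8]] (by
    intro g hg
    simp only [List.mem_cons, List.not_mem_nil, or_false] at hg
    have hg' : ∀ x ∈ g, isK x = true := by
      rcases hg with rfl | rfl | rfl | rfl | rfl | rfl | rfl <;> exact kl _ rfl
    exact ⟨hg', ev_mem_sub hg'⟩) 819 819 0 rfl (by with_reducible exact orb_check0)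
  omega

/-- the `H`-cosets in `H y B` -/
def flag (H : Subgroup G) (γ : ℕ → G) (y : G) : Set (G ⧸ H) := {x | ∃ b ∈ sub γ isB, x = pt H (y * b)}

/-- a word of `B` fixes the point 0 -/
theorem tr_B {w : List ℕ} (hw : ∀ x ∈ w, isB x = true) : tr act w 0 = 0 := by
  induction w with
  | nil => rfl
  | cons x w ih =>
    rw [tr_cons]
    have h0 : act x 0 = 0 := by
      have hx := hw x List.mem_cons_self
      rw [isB_iff] at hx
      obtain ⟨⟨h1, h2⟩, h3⟩ := hx
      interval_cases x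
      · decide +kernel
      · exact absurd rfl h3
      all_goals decide +kernel
    rw [h0]
    exact ih fun y hy => hw y (List.mem_cons_of_mem _ hy)

/-- **Bound for a flag.** -/
theorem flag_card_le (hb : BoundK.{u}) {γ : ℕ → G} (hγ : InvCompat γ)
    (h : RelK (γ 1) (γ 2) (γ 3) (γ 4) (γ 5) (γ 6) (γ 8)) (H : Subgroup G) (g : G)
    (d : ND) (hd : OK d) (hz : ∀ z ∈ d.zs, CRel H (g * ev γ (unl z)) g)
    (w : List ℕ) (hw : ∀ x ∈ w, isK x = true) (m lam : ℕ)
    (hc : closedB d.ws m (tr act (iw w) 0) lam = true)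
    (F : Finset (G ⧸ H)) (hF : ∀ x ∈ F, x ∈ flag H γ (g * ev γ w)) :
    d.n1 * d.n2 * F.card ≤ lam * 774144 := by
  have hf := (SK_bound hb hγ h).1
  have hwi : ∀ x ∈ iw w, isK x = true := mem_iw (fun x hx => isK_invL hx) hw
  have hp : tr act (iw w) 0 < 819 := isTab.tr_lt hwi (by norm_num)
  have hwl : ∀ v ∈ d.ws, ∀ x ∈ v, isK x = true := fun v hv =>
    (allL_iff _ _).mp ((allG_iff _ _).mp hd.hw v hv)
  -- the generated group lies in the stabiliser of `H g`
  have hmem : ∀ v ∈ d.ws, ev (pr γ) v ∈ SK γ ⊓ stab (aH H) (pt H g) := by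
    intro v hv
    refine ⟨ev_mem_sub (hwl v hv), ?_⟩
    show ev (pr γ) v ∈ stab (aH H) (pt H g)
    rw [mem_stab, aH_apply, ev_pr]
    show ev γ v • pt H g = pt H g
    rw [smul_pt, pt_eq_iff]
    have hv2 := hv
    rw [← hd.hz] at hv2
    obtain ⟨z, hz', rfl⟩ := List.mem_map.mp hv2
    have h := Cfsg.Agent.Lib.PathCheck.Rel.mul_right (hz z hz') (ev γ (unl z))⁻¹
    simpa using h.symm
  have hT : gens γ d.ws ≤ SK γ ⊓ stab (aH H) (pt H g) := gens_le hmem
  have hTf : Finite (gens γ d.ws) :=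
    Finite.of_injective (Subgroup.inclusion (hT.trans inf_le_left)) (Subgroup.inclusion_injective _)
  have h1 := card_gens_ge hγ d hd
  obtain ⟨M, hM, hM2⟩ := orbit_mask hγ d.ws hd.hw m _ lam hp hc
  have h2 := card_le_orbit_mul (al G) (gens γ d.ws) ⟨_, hp⟩ M hM2
  -- conjugation by the word `w`
  let ω : G × Equiv.Perm (Fin 819) := ev (pr γ) w
  have hω : ω ∈ SK γ := ev_mem_sub hw
  let U : Subgroup (G × Equiv.Perm (Fin 819)) := SK γ ⊓ stab (al G) 0
  have hUf : Finite U := Finite.of_injective (Subgroup.inclusion inf_le_left) (Subgroup.inclusion_injective _)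
  have hal : al G ω⁻¹ ⟨tr act (iw w) 0, hp⟩ = 0 := by
    apply Fin.ext
    rw [al_ev γ w hw]
    exact isTab.tr_iw' hw (by norm_num)
  have h3 : Nat.card (gens γ d.ws ⊓ stab (al G) ⟨tr act (iw w) 0, hp⟩ :
      Subgroup (G × Equiv.Perm (Fin 819))) ≤
      Nat.card (U ⊓ stab (aH H) (pt H (g * ev γ w)) : Subgroup (G × Equiv.Perm (Fin 819))) := by
    have hfin : Finite (U ⊓ stab (aH H) (pt H (g * ev γ w)) : Subgroup (G × Equiv.Perm (Fin 819))) :=
      Finite.of_injective (Subgroup.inclusion inf_le_left) (Subgroup.inclusion_injective _)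
    have hmap : ∀ x : (gens γ d.ws ⊓ stab (al G) ⟨tr act (iw w) 0, hp⟩ :
        Subgroup (G × Equiv.Perm (Fin 819))), ω⁻¹ * x.1 * ω ∈ (U ⊓ stab (aH H) (pt H (g * ev γ w)) :
          Subgroup (G × Equiv.Perm (Fin 819))) := by
      rintro ⟨x, hx1, hx2⟩
      have hx3 := hT hx1
      have hx4 : al G x ⟨tr act (iw w) 0, hp⟩ = ⟨tr act (iw w) 0, hp⟩ := (mem_stab _ _ _).mp hx2
      have hx5 : aH H x (pt H g) = pt H g := (mem_stab _ _ _).mp hx3.2
      refine ⟨⟨Subgroup.mul_mem _ (Subgroup.mul_mem _ (Subgroup.inv_mem _ hω) hx3.1) hω, ?_⟩, ?_⟩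
      · show ω⁻¹ * x * ω ∈ stab (al G) 0
        rw [mem_stab, map_mul, map_mul, Equiv.Perm.mul_apply, Equiv.Perm.mul_apply]
        have h5 : al G ω 0 = ⟨tr act (iw w) 0, hp⟩ := by
          have h8 := hal
          rw [map_inv] at h8
          exact (Equiv.Perm.inv_eq_iff_eq.mp h8).symm
        rw [h5, hx4, hal]
      · show ω⁻¹ * x * ω ∈ stab (aH H) (pt H (g * ev γ w))
        rw [mem_stab, map_mul, map_mul, Equiv.Perm.mul_apply, Equiv.Perm.mul_apply]
        have h6 : aH H ω (pt H (g * ev γ w)) = pt H g := by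
          rw [aH_apply]
          have : ω.1 = ev γ w := by
            show (ev (pr γ) w).1 = _
            rw [ev_pr]
          rw [this, smul_pt]
          congr 1
          group
        rw [h6, hx5, map_inv]
        exact Equiv.Perm.inv_eq_iff_eq.mpr h6.symm
    refine Nat.card_le_card_of_injective (fun x => (⟨_, hmap x⟩ : (U ⊓ stab (aH H) (pt H (g * ev γ w)) :
          Subgroup (G × Equiv.Perm (Fin 819))))) ?_
    intro x y hxy
    have h7 : ω⁻¹ * x.1 * ω = ω⁻¹ * y.1 * ω := congrArg Subtype.val hxy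
    exact Subtype.ext (mul_left_cancel (mul_right_cancel h7))
  have h4 := chain_step' (aH H) U (pt H (g * ev γ w)) F (by
    intro x hx
    obtain ⟨b, hb', rfl⟩ := hF x hx
    obtain ⟨v, hv, rfl⟩ := exists_word hγ (fun x hx => isB_invL hx) hb'
    have hvK : ∀ x ∈ v, isK x = true := fun x hx => isK_of_isB (hv x hx)
    refine ⟨(ev (pr γ) v)⁻¹, Subgroup.inv_mem _ ⟨ev_mem_sub hvK, ?_⟩, ?_⟩
    · exact mem_stab_of_tr γ hvK 0 (tr_B hv)
    · rw [aH_apply, ev_pr]
      show (ev γ v)⁻¹ • pt H (g * ev γ w) = _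
      rw [smul_pt, inv_inv])
  have h5 := card_SB hb hγ h
  calc d.n1 * d.n2 * F.card ≤ Nat.card (gens γ d.ws) * F.card := Nat.mul_le_mul_right _ h1
    _ ≤ M.card * Nat.card (gens γ d.ws ⊓ stab (al G) ⟨tr act (iw w) 0, hp⟩ :
      Subgroup (G × Equiv.Perm (Fin 819))) * F.card := Nat.mul_le_mul_right _ h2
    _ ≤ lam * Nat.card (U ⊓ stab (aH H) (pt H (g * ev γ w)) : Subgroup (G × Equiv.Perm (Fin 819))) * F.card :=
      Nat.mul_le_mul_right _ (Nat.mul_le_mul hM h3)
    _ = lam * (F.card * Nat.card (U ⊓ stab (aH H) (pt H (g * ev γ w)) :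
      Subgroup (G × Equiv.Perm (Fin 819)))) := by ring
    _ ≤ lam * Nat.card U := Nat.mul_le_mul_left _ h4
    _ ≤ lam * 774144 := Nat.mul_le_mul_left _ h5

/-- finite version -/
theorem flag_bound (hb : BoundK.{u}) {γ : ℕ → G} (hγ : InvCompat γ)
    (h : RelK (γ 1) (γ 2) (γ 3) (γ 4) (γ 5) (γ 6) (γ 8)) (H : Subgroup G) (g : G)
    (d : ND) (hd : OK d) (hz : ∀ z ∈ d.zs, CRel H (g * ev γ (unl z)) g)
    (w : List ℕ) (hw : ∀ x ∈ w, isK x = true) (m lam : ℕ)
    (hc : closedB d.ws m (tr act (iw w) 0) lam = true) (N : ℕ) (hN : lam * 774144 < d.n1 * d.n2 * (N + 1)) :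
    (flag H γ (g * ev γ w)).Finite ∧ (flag H γ (g * ev γ w)).ncard ≤ N := by
  have key : ∀ T : Finset (G ⧸ H), (↑T : Set (G ⧸ H)) ⊆ flag H γ (g * ev γ w) → T.card ≤ N := by
    intro T hT
    by_contra hcc
    have h1 := flag_card_le hb hγ h H g d hd hz w hw m lam hc T (fun x hx => hT (by exact_mod_cast hx))
    have h2 : d.n1 * d.n2 * (N + 1) ≤ d.n1 * d.n2 * T.card := Nat.mul_le_mul_left _ (by omega)
    omega
  have hfin : (flag H γ (g * ev γ w)).Finite := by
    by_contra hcc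
    obtain ⟨T, hT, hTc⟩ := Set.Infinite.exists_subset_card_eq hcc (N + 1)
    have := key T hT
    omega
  refine ⟨hfin, ?_⟩
  rw [Set.ncard_eq_toFinset_card _ hfin]
  exact key _ (by simp)

end Cfsg.Agent.Th.FlagBound
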