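import Cfsg.Agent.Th.FlagBound
import Cfsg.Agent.Th.IndexUpper
import Cfsg.Agent.Th.COracleDef
import Cfsg.Agent.Th.FlagData

/-!
# Checks for the flag tables of the Thompson certificate
-/

set_option autoImplicit false

namespace Cfsg.Agent.Th.FlagCheck

open Cfsg.Agent.Th.Word Cfsg.Agent.Th.KOracle Cfsg.Agent.Th.COracleDef
open Cfsg.Agent.Th.FactData Cfsg.Agent.Th.FlagData Cfsg.Agent.Th.FlagBound
open Cfsg.Agent.Th.IndexBound Cfsg.Agent.Th.IndexUpper
open Cfsg.Agent.Th.PathCover (unl)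

/-- check of the closedness -/
def chkM (ws : List (List ℕ)) (w1 m lam : ℕ) : Bool :=
  frc (tr act (iw (unl w1)) 0) fun p => frc m fun m => closedB ws m p lam

theorem chkM_spec {ws : List (List ℕ)} {w1 m lam : ℕ} (h : chkM ws w1 m lam = true) :
    closedB ws m (tr act (iw (unl w1)) 0) lam = true := by
  unfold chkM at h
  rwa [frc_eq, frc_eq] at h

/-- check of an entry of the flag table -/
def chkE (e : FE) : Bool :=
  and (allL isK (unl (tab e.f).w1))
  (bif Nat.beq (tab e.f).n1 0 then Nat.beq e.N 1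
  else and (Nat.ble 1 (tab e.f).n1) (and (Nat.ble (tab e.f).n1 10)
    (and (chkM (nd (tab e.f).n1).ws (tab e.f).w1 e.m e.lam)
      (Nat.ble (e.lam * 774144 + 1) ((nd (tab e.f).n1).n1 * (nd (tab e.f).n1).n2 * (e.N + 1))))))

/-- check of an entry `(f, f', codes)` of the glue table -/
def chkR (l : List FE) (r : ℕ × ℕ × List ℕ) : Bool :=
  and (Nat.beq (tab r.1).n1 (tab r.2.1).n1)
  (and (l.any fun e => Nat.beq e.f r.2.1)
    (Nat.beq (tr act (pw (nd (tab r.2.1).n1).ws r.2.2) (tr act (iw (unl (tab r.2.1).w1)) 0))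
      (tr act (iw (unl (tab r.1).w1)) 0)))

end Cfsg.Agent.Th.FlagCheck
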