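import Cfsg.Agent.Th.FlagCheck
import Cfsg.Agent.Th.CoverData

/-!
# Kernel checks of the flag tables (generated)
-/

set_option autoImplicit false
set_option maxRecDepth 100000

namespace Cfsg.Agent.Th.FlagChk

open Cfsg.Agent.Th.Word Cfsg.Agent.Th.KOracle Cfsg.Agent.Th.COracleDef
open Cfsg.Agent.Th.FactData Cfsg.Agent.Th.FlagData Cfsg.Agent.Th.FlagBound
open Cfsg.Agent.Th.IndexBound Cfsg.Agent.Th.IndexUpper Cfsg.Agent.Th.FlagCheck
open Cfsg.Agent.Th.CoverData (gl)

theorem e11 : allG chkE FL11 = true := by decide +kernel

theorem e12 : allG chkE FL12 = true := by decide +kernel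

theorem e13 : allG chkE FL13 = true := by decide +kernel

theorem e14 : allG chkE FL14 = true := by decide +kernel

theorem e15 : allG chkE FL15 = true := by decide +kernel

theorem e16 : allG chkE FL16 = true := by decide +kernel

theorem e17 : allG chkE FL17 = true := by decide +kernel

theorem e18 : allG chkE FL18 = true := by decide +kernel

theorem e19 : allG chkE FL19 = true := by decide +kernel

theorem e20 : allG chkE FL20 = true := by decide +kernel

theorem e21 : allG chkE FL21 = true := by decide +kernel

theorem e22 : allG chkE FL22 = true := by decide +kernel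

theorem e23 : allG chkE FL23 = true := by decide +kernel

theorem r11 : allG (chkR FL11) RL11 = true := by decide +kernel

theorem r12 : allG (chkR FL12) RL12 = true := by decide +kernel

theorem r13 : allG (chkR FL13) RL13 = true := by decide +kernel

theorem r14 : allG (chkR FL14) RL14 = true := by decide +kernel

theorem r15 : allG (chkR FL15) RL15 = true := by decide +kernel

theorem r16 : allG (chkR FL16) RL16 = true := by decide +kernel

theorem r17 : allG (chkR FL17) RL17 = true := by decide +kernel

theorem r18 : allG (chkR FL18) RL18 = true := by decide +kernel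

theorem r19 : allG (chkR FL19) RL19 = true := by decide +kernel

theorem r20 : allG (chkR FL20) RL20 = true := by decide +kernel

theorem r21 : allG (chkR FL21) RL21 = true := by decide +kernel

theorem r22 : allG (chkR FL22) RL22 = true := by decide +kernel

theorem r23 : allG (chkR FL23) RL23 = true := by decide +kernel

theorem s11 : (FL11.map FE.N).sum = mN 11 := by decide +kernel

theorem s12 : (FL12.map FE.N).sum = mN 12 := by decide +kernel

theorem s13 : (FL13.map FE.N).sum = mN 13 := by decide +kernel

theorem s14 : (FL14.map FE.N).sum = mN 14 := by decide +kernel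

theorem s15 : (FL15.map FE.N).sum = mN 15 := by decide +kernel

theorem s16 : (FL16.map FE.N).sum = mN 16 := by decide +kernel

theorem s17 : (FL17.map FE.N).sum = mN 17 := by decide +kernel

theorem s18 : (FL18.map FE.N).sum = mN 18 := by decide +kernel

theorem s19 : (FL19.map FE.N).sum = mN 19 := by decide +kernel

theorem s20 : (FL20.map FE.N).sum = mN 20 := by decide +kernel

theorem s21 : (FL21.map FE.N).sum = mN 21 := by decide +kernel

theorem s22 : (FL22.map FE.N).sum = mN 22 := by decide +kernel

theorem s23 : (FL23.map FE.N).sum = mN 23 := by decide +kernel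

theorem chkE_all : ∀ j < 24, 11 ≤ j → allG chkE (FL j) = true := by
  intro j h1 h2
  interval_cases j
  exacts [e11, e12, e13, e14, e15, e16, e17, e18, e19, e20, e21, e22, e23]

theorem chkR_all : ∀ j < 24, 11 ≤ j → allG (chkR (FL j)) (RL j) = true := by
  intro j h1 h2
  interval_cases j
  exacts [r11, r12, r13, r14, r15, r16, r17, r18, r19, r20, r21, r22, r23]

theorem sum_all : ∀ j < 24, 11 ≤ j → ((FL j).map FE.N).sum = mN j := by
  intro j h1 h2
  interval_cases j
  exacts [s11, s12, s13, s14, s15, s16, s17, s18, s19, s20, s21, s22, s23]

theorem gl_eq : ∀ j < 24, 11 ≤ j → gl j = (RL j).map Prod.fst := by decide +kernel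

end Cfsg.Agent.Th.FlagChk
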