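import Cfsg.Agent.Th.FlagChk
import Cfsg.Agent.Th.CoverMain

/-!
# The double cosets `H g_j C` of the Thompson certificate

`H = sub γ isK`, `C = sub γ isC`: the cosets in `H g_j C` are covered by the flags of the table `FL j`, so their number
is at most `mN j`; and the 13 double cosets cover the group.
-/

set_option autoImplicit false
set_option maxRecDepth 100000

namespace Cfsg.Agent.Th.FlagCover

open Cfsg.Agent.Th.Base (RelK RelC)
open Cfsg.Agent.Th.Word Cfsg.Agent.Th.KOracle Cfsg.Agent.Th.COracleDef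
open Cfsg.Agent.Th.FactData Cfsg.Agent.Th.FlagData Cfsg.Agent.Th.FlagBound Cfsg.Agent.Th.CoverData
open Cfsg.Agent.Th.IndexBound Cfsg.Agent.Th.IndexUpper Cfsg.Agent.Th.FlagCheck
open Cfsg.Agent.Th.PathCover (unl ev_unl cover_node)
open Cfsg.Agent.Lib.PathCheck (Holds Rel)

universe u

variable {G : Type u} [Group G]

/-- words in the stabiliser words stabilise -/
theorem rel_pw {γ : ℕ → G} (hγ : InvCompat γ) (H : Subgroup G) (g : G) (ws : List (List ℕ))
    (h : ∀ w ∈ ws, CRel H (g * ev γ w) g) (cs : List ℕ) : CRel H (g * ev γ (pw ws cs)) g := by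
  induction cs with
  | nil => simpa [pw] using Rel.refl H g
  | cons c l ih =>
    have key : CRel H (g * ev γ (bif Nat.beq (c % 2) 0 then ws.getD (c / 2) [] else iw (ws.getD (c / 2) []))) g := by
      have h1 : CRel H (g * ev γ (ws.getD (c / 2) [])) g := by
        by_cases hi : c / 2 < ws.length
        · rw [List.getD_eq_getElem _ _ hi]
          exact h _ (List.getElem_mem hi)
        · rw [List.getD_eq_default _ _ (not_lt.mp hi)]
          simpa using Rel.refl H g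
      cases Nat.beq (c % 2) 0 with
      | true => exact h1
      | false =>
        show CRel H (g * ev γ (iw (ws.getD (c / 2) []))) g
        rw [ev_iw hγ]
        have := Rel.mul_right h1 (ev γ (ws.getD (c / 2) []))⁻¹
        simpa using Rel.symm this
    rw [pw, ev_append, ← mul_assoc]
    exact (Rel.mul_right key _).trans ih

/-- equality of flags -/
theorem flag_sub {γ : ℕ → G} (hγ : InvCompat γ) (H : Subgroup G) (g : G) (ws : List (List ℕ))
    (hws : ∀ w ∈ ws, ∀ x ∈ w, isK x = true) (h : ∀ w ∈ ws, CRel H (g * ev γ w) g)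
    (hB : ∀ v, (∀ x ∈ v, isK x = true) → tr act v 0 = 0 → ev γ v ∈ sub γ isB)
    (w w' : List ℕ) (hw : ∀ x ∈ w, isK x = true) (hw' : ∀ x ∈ w', isK x = true) (cs : List ℕ)
    (hp : tr act (pw ws cs) (tr act (iw w') 0) = tr act (iw w) 0) (b : G) (hb : b ∈ sub γ isB) :
    ∃ b' ∈ sub γ isB, CRel H (g * ev γ w * b) (g * ev γ w' * b') := by
  refine ⟨ev γ (iw w' ++ pw ws cs ++ w) * b, Subgroup.mul_mem _ (hB _ ?_ ?_) hb, ?_⟩
  · intro x hx
    rcases List.mem_append.mp hx with hx | hx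
    · rcases List.mem_append.mp hx with hx | hx
      · exact mem_iw (fun x hx => isK_invL hx) hw' x hx
      · exact pw_letters _ hws cs x hx
    · exact hw x hx
  · rw [tr_append, tr_append, hp]
    exact isTab.tr_iw' hw (by norm_num)
  · rw [ev_append, ev_append, ev_iw hγ]
    have h1 := Rel.mul_right (rel_pw hγ H g ws h cs) (ev γ w * b)
    have e1 : g * ev γ w' * ((ev γ w')⁻¹ * ev γ (pw ws cs) * ev γ w * b) =
        g * ev γ (pw ws cs) * (ev γ w * b) := by group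
    rw [e1, mul_assoc g (ev γ w) b]
    exact Rel.symm h1

/-- context: nodes and facts -/
structure Cx (γ g : ℕ → G) : Prop where
  inv : InvCompat γ
  K : RelK (γ 1) (γ 2) (γ 3) (γ 4) (γ 5) (γ 6) (γ 8)
  C : RelC (γ 1) (γ 3) (γ 4) (γ 5) (γ 6) (γ 8) (γ 10)
  N : Nodes γ g
  F : ∀ i < 497, Holds (sub γ isK) γ g (tab i)
  gen : sub γ (fun x => isK x || isC x) = ⊤

section

variable {γ g : ℕ → G} (h : Cx γ g)

include h

theorem Cx.stab (i : ℕ) (hi : i < 24) (j : ℕ) (hj : j ∈ st i) :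
    CRel (sub γ isK) (g i * ev γ (unl (tab j).w1)) (g i) := by
  obtain ⟨h1, h2, h3, h4⟩ := hst i hi j hj
  have h5 := h.F j h1
  unfold Holds at h5
  rw [h2, h3, h4] at h5
  rw [ev_unl]
  show g i * _ * (g i)⁻¹ ∈ sub γ isK
  simpa using h5

/-- stabiliser words of the node data -/
theorem Cx.stabN (i : ℕ) (hi : 1 ≤ i) (hi' : i ≤ 10) (w : List ℕ) (hw : w ∈ (nd i).ws) :
    CRel (sub γ isK) (g i * ev γ w) (g i) := by
  have h1 := (ok_nd i hi hi').hz
  rw [← h1] at hw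
  obtain ⟨z, hz, rfl⟩ := List.mem_map.mp hw
  exact h.N.st i hi hi' z hz

theorem Cx.hB (v : List ℕ) (hv : ∀ x ∈ v, isK x = true) (h0 : tr act v 0 = 0) : ev γ v ∈ sub γ isB :=
  Cfsg.Agent.Th.TabFacts.mem_B_of_fix h.inv h.K v hv h0

theorem Cx.hB120 (v : List ℕ) (hv : ∀ x ∈ v, isC x = true) (h0 : tr act120 v 0 = 0) : ev γ v ∈ sub γ isB :=
  Cfsg.Agent.Th.TabFacts.mem_B_of_fix120 h.inv h.C v hv h0

omit h in
theorem B_le_C {γ : ℕ → G} : sub γ isB ≤ sub γ isC := by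
  unfold sub
  refine Subgroup.closure_mono ?_
  rintro x ⟨y, hy, rfl⟩
  exact ⟨y, isC_of_isB hy, rfl⟩

omit h in
theorem B_le_K {γ : ℕ → G} : sub γ isB ≤ sub γ isK := by
  unfold sub
  refine Subgroup.closure_mono ?_
  rintro x ⟨y, hy, rfl⟩
  exact ⟨y, isK_of_isB hy, rfl⟩

/-- the flag of an entry -/
def fl (γ g : ℕ → G) (e : FE) : Set (G ⧸ sub γ isK) :=
  flag (sub γ isK) γ (g (tab e.f).n1 * ev γ (unl (tab e.f).w1))

/-- the `H`-cosets in `H g_j C` -/
def orbC (γ g : ℕ → G) (j : ℕ) : Set (G ⧸ sub γ isK) :=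
  {x | ∃ c ∈ sub γ isC, x = pt (sub γ isK) (g j * c)}

/-- covering of the double coset of a C-node by flags -/
theorem Cx.coverC (j : ℕ) (h1 : 11 ≤ j) (h2 : j < 24) : orbC γ g j ⊆ ⋃ e ∈ FL j, fl γ g e := by
  rintro x ⟨c, hc, rfl⟩
  obtain ⟨w, hw, rfl⟩ := exists_word h.inv (fun x hx => isC_invL hx) hc
  refine cover_node (H := sub γ isK) h.inv Cfsg.Agent.Th.TabFacts.isTab120 (by norm_num) h.hB120 (g j)
    (fun y => pt (sub γ isK) y ∈ ⋃ e ∈ FL j, fl γ g e) ?_ ((st j).map fun i => (tab i).w1) ?_ ?_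
      ((gl j).map fun i => (tab i).w2) ?_ ?_ (fo j) (hfoM j h2 h1) w hw
  · intro x x' hr hx'
    rwa [(pt_eq_iff _ x x').mpr hr]
  · intro z hz
    obtain ⟨i, hi, rfl⟩ := List.mem_map.mp hz
    exact (hletM j h2 h1).1 i hi
  · intro z hz
    obtain ⟨i, hi, rfl⟩ := List.mem_map.mp hz
    exact h.stab j h2 i hi
  · intro z hz
    obtain ⟨i, hi, rfl⟩ := List.mem_map.mp hz
    exact (hletM j h2 h1).2 i hi
  · intro z hz b hb
    obtain ⟨i, hi, rfl⟩ := List.mem_map.mp hz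
    obtain ⟨a1, a2, a3, a4⟩ := hglM j h2 h1 i hi
    -- the entry of the glue table
    have hi' := hi
    rw [FlagChk.gl_eq j h2 h1] at hi'
    obtain ⟨r, hr, rfl⟩ := List.mem_map.mp hi'
    have h3 := (allG_iff _ _).mp (FlagChk.chkR_all j h2 h1) r hr
    unfold chkR at h3
    rw [Bool.and_eq_true, Bool.and_eq_true, List.any_eq_true] at h3
    obtain ⟨b1, ⟨e, he, b2⟩, b3⟩ := h3
    have b1 := Nat.eq_of_beq_eq_true b1
    have b2 := Nat.eq_of_beq_eq_true b2
    have b3 := Nat.eq_of_beq_eq_true b3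
    rw [← b2] at b1 b3
    have h4 := (allG_iff _ _).mp (FlagChk.chkE_all j h2 h1) e he
    unfold chkE at h4
    rw [Bool.and_eq_true] at h4
    have lw' : ∀ x ∈ unl (tab e.f).w1, isK x = true := (allL_iff _ _).mp h4.1
    have lw : ∀ x ∈ unl (tab r.1).w1, isK x = true := (allL_iff _ _).mp a4
    have hF := h.F r.1 a1
    unfold Holds at hF
    rw [← ev_unl, ← ev_unl, a2] at hF
    -- `g_j w2 b ~ g_{n1} w1 b`
    have h5 : CRel (sub γ isK) (g j * ev γ (unl (tab r.1).w2) * b)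
        (g (tab r.1).n1 * ev γ (unl (tab r.1).w1) * b) := Rel.mul_right (Rel.symm hF) b
    rw [(pt_eq_iff _ _ _).mpr h5]
    refine Set.mem_biUnion he ?_
    show _ ∈ flag _ _ _
    rw [b1]
    by_cases h0 : (tab e.f).n1 = 0
    · -- K-node 0
      refine ⟨1, Subgroup.one_mem _, ?_⟩
      rw [pt_eq_iff, h0, h.N.g0, one_mul, one_mul, mul_one]
      show ev γ (unl (tab r.1).w1) * b * (ev γ (unl (tab e.f).w1))⁻¹ ∈ sub γ isK
      exact Subgroup.mul_mem _ (Subgroup.mul_mem _ (ev_mem_sub lw) (B_le_K hb))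
        (Subgroup.inv_mem _ (ev_mem_sub lw'))
    · have c1 : 1 ≤ (tab e.f).n1 := Nat.pos_of_ne_zero h0
      have c2 : (tab e.f).n1 ≤ 10 := by rw [← b1]; omega
      have hws : ∀ w ∈ (nd (tab e.f).n1).ws, ∀ x ∈ w, isK x = true := fun w hw' =>
        (allL_iff _ _).mp ((allG_iff _ _).mp (ok_nd _ c1 c2).hw w hw')
      obtain ⟨b', hb', hr'⟩ := flag_sub h.inv (sub γ isK) (g (tab e.f).n1) (nd (tab e.f).n1).ws hws
        (fun w hw => h.stabN _ c1 c2 w hw) h.hB (unl (tab r.1).w1) (unl (tab e.f).w1) lw lw' r.2.2 b3 b hb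
      exact ⟨b', hb', (pt_eq_iff _ _ _).mpr hr'⟩

/-- bound of a flag -/
theorem Cx.flag_le (j : ℕ) (h1 : 11 ≤ j) (h2 : j < 24) (e : FE) (he : e ∈ FL j) :
    (fl γ g e).Finite ∧ (fl γ g e).ncard ≤ e.N := by
  have h4 := (allG_iff _ _).mp (FlagChk.chkE_all j h2 h1) e he
  unfold chkE at h4
  rw [Bool.and_eq_true] at h4
  obtain ⟨h4, h5⟩ := h4
  have lw' : ∀ x ∈ unl (tab e.f).w1, isK x = true := (allL_iff _ _).mp h4
  cases h0 : Nat.beq (tab e.f).n1 0 with
  | true =>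
    rw [h0] at h5
    have h0 := Nat.eq_of_beq_eq_true h0
    have h5 : e.N = 1 := Nat.eq_of_beq_eq_true h5
    have hs : fl γ g e ⊆ {pt (sub γ isK) 1} := by
      rintro x ⟨b, hb, rfl⟩
      rw [Set.mem_singleton_iff, pt_eq_iff, h0, h.N.g0, one_mul]
      show ev γ (unl (tab e.f).w1) * b * 1⁻¹ ∈ sub γ isK
      rw [inv_one, mul_one]
      exact Subgroup.mul_mem _ (ev_mem_sub lw') (B_le_K hb)
    refine ⟨(Set.finite_singleton _).subset hs, ?_⟩
    rw [h5]
    exact (Set.ncard_le_ncard hs (Set.finite_singleton _)).trans (Set.ncard_singleton _).le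
  | false =>
    rw [h0] at h5
    have h5 : (and (Nat.ble 1 (tab e.f).n1) (and (Nat.ble (tab e.f).n1 10)
      (and (chkM (nd (tab e.f).n1).ws (tab e.f).w1 e.m e.lam)
      (Nat.ble (e.lam * 774144 + 1) ((nd (tab e.f).n1).n1 * (nd (tab e.f).n1).n2 * (e.N + 1)))))) = true := h5
    rw [Bool.and_eq_true, Bool.and_eq_true, Bool.and_eq_true] at h5
    obtain ⟨c1, c2, c3, c4⟩ := h5
    have c1 := Nat.le_of_ble_eq_true c1
    have c2 := Nat.le_of_ble_eq_true c2
    have c3 := chkM_spec c3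
    have c4 := Nat.le_of_ble_eq_true c4
    exact flag_bound Cfsg.Agent.Th.TabFacts.boundK h.inv h.K (sub γ isK) (g (tab e.f).n1) (nd (tab e.f).n1)
      (ok_nd _ c1 c2) (h.N.st _ c1 c2) _ lw' e.m e.lam c3 e.N c4

omit h in
theorem union_le {X : Type*} (F : FE → Set X) (l : List FE) (hl : ∀ e ∈ l, (F e).Finite ∧ (F e).ncard ≤ e.N) :
    (⋃ e ∈ l, F e).Finite ∧ (⋃ e ∈ l, F e).ncard ≤ (l.map FE.N).sum := by
  induction l with
  | nil => simp
  | cons e l ih =>
    obtain ⟨h1, h2⟩ := ih (fun e he => hl e (List.mem_cons_of_mem _ he))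
    obtain ⟨h3, h4⟩ := hl e List.mem_cons_self
    have e1 : (⋃ x ∈ e :: l, F x) = F e ∪ ⋃ x ∈ l, F x := by
      ext y
      simp only [Set.mem_iUnion, List.mem_cons, exists_prop, Set.mem_union]
      constructor
      · rintro ⟨i, rfl | hi, hy⟩
        · exact Or.inl hy
        · exact Or.inr ⟨i, hi, hy⟩
      · rintro (hy | ⟨i, hi, hy⟩)
        · exact ⟨e, Or.inl rfl, hy⟩
        · exact ⟨i, Or.inr hi, hy⟩
    rw [e1]
    refine ⟨h3.union h1, ?_⟩
    rw [List.map_cons, List.sum_cons]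
    exact (Set.ncard_union_le _ _).trans (Nat.add_le_add h4 h2)

/-- number of cosets in `H g_j C` -/
theorem Cx.orbC_le (j : ℕ) (h1 : 11 ≤ j) (h2 : j < 24) :
    (orbC γ g j).Finite ∧ (orbC γ g j).ncard ≤ mN j := by
  obtain ⟨h3, h4⟩ := union_le (fl γ g) (FL j) (h.flag_le j h1 h2)
  rw [FlagChk.sum_all j h2 h1] at h4
  exact ⟨h3.subset (h.coverC j h1 h2), (Set.ncard_le_ncard (h.coverC j h1 h2) h3).trans h4⟩

/-- the double cosets of the C-nodes cover the group -/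
theorem Cx.cover (x : G ⧸ sub γ isK) : ∃ j, 11 ≤ j ∧ j < 24 ∧ x ∈ orbC γ g j := by
  obtain ⟨y, rfl⟩ := QuotientGroup.mk_surjective x
  have hxy : (QuotientGroup.mk y : G ⧸ sub γ isK) = pt (sub γ isK) y⁻¹ := by
    unfold pt
    rw [inv_inv]
  rw [hxy]
  obtain ⟨w, hw, hwy⟩ := exists_word h.inv isKC_invL (show y⁻¹ ∈ sub γ (fun x => isK x || isC x) by
    rw [h.gen]; exact Subgroup.mem_top _)
  obtain ⟨i, hi, k, hk, hr⟩ := h.N.cov w (fun x hx => by
    have := hw x hx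
    rwa [Bool.or_eq_true] at this)
  obtain ⟨v, hv, rfl⟩ := exists_word h.inv (fun x hx => isK_invL hx) hk
  have key : ∃ j, 11 ≤ j ∧ j < 24 ∧ pt (sub γ isK) (g i * ev γ v) ∈ orbC γ g j := by
    refine cover_node (H := sub γ isK) h.inv isTab (by norm_num) h.hB (g i)
      (fun y => ∃ j, 11 ≤ j ∧ j < 24 ∧ pt (sub γ isK) y ∈ orbC γ g j) ?_ ((st i).map fun i => (tab i).w1) ?_ ?_
      ((gl i).map fun i => (tab i).w1) ?_ ?_ (fo i) (hfoK i hi) v hv
    · intro x x' hr hx'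
      rwa [(pt_eq_iff _ x x').mpr hr]
    · intro z hz
      obtain ⟨j, hj, rfl⟩ := List.mem_map.mp hz
      exact (hletK i hi).1 j hj
    · intro z hz
      obtain ⟨j, hj, rfl⟩ := List.mem_map.mp hz
      exact h.stab i (by omega) j hj
    · intro z hz
      obtain ⟨j, hj, rfl⟩ := List.mem_map.mp hz
      exact (hletK i hi).2 j hj
    · intro z hz b hb
      obtain ⟨j, hj, rfl⟩ := List.mem_map.mp hz
      obtain ⟨h1, h2, h3, h4, h5⟩ := hglK i hi j hj
      have h6 := h.F j h1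
      unfold Holds at h6
      rw [h2, ← ev_unl, ← ev_unl] at h6
      refine ⟨(tab j).n2, h3, h4, ev γ (unl (tab j).w2) * b,
        Subgroup.mul_mem _ (ev_mem_sub ((allL_iff _ _).mp h5)) (B_le_C hb), ?_⟩
      rw [pt_eq_iff, ← mul_assoc]
      exact Rel.mul_right h6 b
  obtain ⟨j, h1, h2, h3⟩ := key
  refine ⟨j, h1, h2, ?_⟩
  rw [← hwy, (pt_eq_iff _ _ _).mpr hr]
  exact h3

end

end Cfsg.Agent.Th.FlagCover
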