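import Mathlib

/-!
Words (lists of letter codes) and their evaluation in an arbitrary group.
Letters: 1=a 2=b 3=c 4=d 5=e 6=s 7=s⁻¹ 8=t 9=t⁻¹ 10=u 11=u⁻¹ (codes 1..5 are involutions).
Packed words: 4 bits per letter, first letter = lowest nibble, 0 = end.
-/

set_option autoImplicit false

namespace Cfsg.Agent.Th.Word

variable {G : Type*} [Group G]

/-- evaluation of a word -/
def ev (γ : ℕ → G) : List ℕ → G
  | [] => 1
  | x :: w => γ x * ev γ w

@[simp] theorem ev_nil (γ : ℕ → G) : ev γ [] = 1 := rfl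
@[simp] theorem ev_cons (γ : ℕ → G) (x : ℕ) (w : List ℕ) : ev γ (x :: w) = γ x * ev γ w := rfl

@[simp] theorem ev_append (γ : ℕ → G) (v w : List ℕ) : ev γ (v ++ w) = ev γ v * ev γ w := by
  induction v with
  | nil => simp
  | cons x v ih => simp [ih, mul_assoc]

theorem ev_singleton (γ : ℕ → G) (x : ℕ) : ev γ [x] = γ x := by simp

/-- inverse letter -/
def invL (x : ℕ) : ℕ :=
  bif Nat.beq x 6 then 7 else bif Nat.beq x 7 then 6 else bif Nat.beq x 8 then 9
  else bif Nat.beq x 9 then 8 else bif Nat.beq x 10 then 11 else bif Nat.beq x 11 then 10 else x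

/-- inverse word -/
def iw : List ℕ → List ℕ
  | [] => []
  | x :: w => iw w ++ [invL x]

@[simp] theorem iw_nil : iw [] = [] := rfl
@[simp] theorem iw_cons (x : ℕ) (w : List ℕ) : iw (x :: w) = iw w ++ [invL x] := rfl

theorem iw_append (v w : List ℕ) : iw (v ++ w) = iw w ++ iw v := by
  induction v with
  | nil => simp
  | cons x v ih => simp [ih]

theorem invL_invL (x : ℕ) : invL (invL x) = x := by
  unfold invL
  simp only [cond_eq_ite, Nat.beq_eq]
  split_ifs <;> omega

theorem iw_iw (w : List ℕ) : iw (iw w) = w := by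
  induction w with
  | nil => rfl
  | cons x w ih => simp [iw_append, ih, invL_invL]

/-- compatibility of the letters with inversion -/
def InvCompat (γ : ℕ → G) : Prop := ∀ x, γ (invL x) = (γ x)⁻¹

theorem ev_iw {γ : ℕ → G} (h : InvCompat γ) (w : List ℕ) : ev γ (iw w) = (ev γ w)⁻¹ := by
  induction w with
  | nil => simp
  | cons x w ih => simp [ih, h x]

/-- the letter function of eight elements -/
def gam (a b c d e s t u : G) : ℕ → G
  | 1 => a
  | 2 => b
  | 3 => c
  | 4 => d
  | 5 => e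
  | 6 => s
  | 7 => s⁻¹
  | 8 => t
  | 9 => t⁻¹
  | 10 => u
  | 11 => u⁻¹
  | _ => 1

theorem invCompat_gam {a b c d e s t u : G} (ha : a ^ 2 = 1) (hb : b ^ 2 = 1) (hc : c ^ 2 = 1)
    (hd : d ^ 2 = 1) (he : e ^ 2 = 1) : InvCompat (gam a b c d e s t u) := by
  have key : ∀ y : G, y ^ 2 = 1 → y = y⁻¹ := fun y hy => by
    rw [eq_inv_iff_mul_eq_one, ← sq]; exact hy
  intro x
  match x with
  | 0 => exact inv_one.symm
  | 1 => exact key a ha
  | 2 => exact key b hb
  | 3 => exact key c hc
  | 4 => exact key d hd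
  | 5 => exact key e he
  | 6 => rfl
  | 7 => exact (inv_inv s).symm
  | 8 => rfl
  | 9 => exact (inv_inv t).symm
  | 10 => rfl
  | 11 => exact (inv_inv u).symm
  | n + 12 =>
    have h1 : invL (n + 12) = n + 12 := by
      unfold invL
      simp only [cond_eq_ite, Nat.beq_eq]
      split_ifs <;> omega
    rw [h1]
    exact inv_one.symm

/-- unpack a word (fuel, packed word) -/
def unp (fuel : ℕ) : ℕ → List ℕ :=
  Nat.rec (fun _ => []) (fun _ ih w => Bool.rec (Nat.land w 15 :: ih (Nat.div w 16)) [] (Nat.beq w 0)) fuel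

/-- all letters of a word satisfy a test (defined by `List.rec` directly: fast in the kernel) -/
def allL (f : ℕ → Bool) (w : List ℕ) : Bool := List.rec true (fun x _ ih => Bool.rec false ih (f x)) w

theorem allL_nil (f : ℕ → Bool) : allL f [] = true := rfl
theorem allL_cons (f : ℕ → Bool) (x : ℕ) (w : List ℕ) : allL f (x :: w) = and (f x) (allL f w) := by
  show (Bool.rec false (allL f w) (f x) : Bool) = _
  cases f x <;> rfl

theorem allL_iff (f : ℕ → Bool) (w : List ℕ) : allL f w = true ↔ ∀ x ∈ w, f x = true := by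
  induction w with
  | nil => simp [allL_nil]
  | cons x w ih => simp [allL_cons, ih]

/-- letters of `3D4(2):3`: 1..9 -/
def isK (x : ℕ) : Bool := and (Nat.ble 1 x) (Nat.ble x 9)
/-- letters of `2^{1+8}:L2(8):3`: 1,3,..,9 -/
def isB (x : ℕ) : Bool := and (isK x) (Nat.ble x 1 || Nat.ble 3 x)
/-- letters of `2^{1+8}.A9`: 1,3,..,11 -/
def isC (x : ℕ) : Bool := and (and (Nat.ble 1 x) (Nat.ble x 11)) (Nat.ble x 1 || Nat.ble 3 x)

theorem isK_iff (x : ℕ) : isK x = true ↔ 1 ≤ x ∧ x ≤ 9 := by
  simp [isK, Nat.ble_eq]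

theorem isB_iff (x : ℕ) : isB x = true ↔ (1 ≤ x ∧ x ≤ 9) ∧ x ≠ 2 := by
  simp [isB, isK, Nat.ble_eq]; omega

theorem isC_iff (x : ℕ) : isC x = true ↔ (1 ≤ x ∧ x ≤ 11) ∧ x ≠ 2 := by
  simp [isC, Nat.ble_eq]; omega

theorem isK_of_isB {x : ℕ} (h : isB x = true) : isK x = true := by
  rw [isB_iff] at h; rw [isK_iff]; exact h.1

theorem isC_of_isB {x : ℕ} (h : isB x = true) : isC x = true := by
  rw [isB_iff] at h; rw [isC_iff]; omega

theorem isK_invL {x : ℕ} (h : isK x = true) : isK (invL x) = true := by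
  rw [isK_iff] at h ⊢
  unfold invL
  simp only [cond_eq_ite, Nat.beq_eq]
  split_ifs <;> omega

theorem isB_invL {x : ℕ} (h : isB x = true) : isB (invL x) = true := by
  rw [isB_iff] at h ⊢
  unfold invL
  simp only [cond_eq_ite, Nat.beq_eq]
  split_ifs <;> omega

theorem isC_invL {x : ℕ} (h : isC x = true) : isC (invL x) = true := by
  rw [isC_iff] at h ⊢
  unfold invL
  simp only [cond_eq_ite, Nat.beq_eq]
  split_ifs <;> omega

theorem mem_iw {f : ℕ → Bool} (hf : ∀ x, f x = true → f (invL x) = true) {w : List ℕ}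
    (h : ∀ x ∈ w, f x = true) : ∀ x ∈ iw w, f x = true := by
  induction w with
  | nil => simp
  | cons y w ih =>
    intro x hx
    rw [iw_cons, List.mem_append, List.mem_singleton] at hx
    rcases hx with hx | hx
    · exact ih (fun z hz => h z (List.mem_cons_of_mem _ hz)) x hx
    · rw [hx]; exact hf y (h y List.mem_cons_self)

/-- the subgroup generated by the letters satisfying `f` -/
def sub (γ : ℕ → G) (f : ℕ → Bool) : Subgroup G := Subgroup.closure {g | ∃ x, f x = true ∧ γ x = g}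

theorem ev_mem_sub {γ : ℕ → G} {f : ℕ → Bool} {w : List ℕ} (h : ∀ x ∈ w, f x = true) :
    ev γ w ∈ sub γ f := by
  induction w with
  | nil => exact Subgroup.one_mem _
  | cons x w ih =>
    exact Subgroup.mul_mem _ (Subgroup.subset_closure ⟨x, h x List.mem_cons_self, rfl⟩)
      (ih fun z hz => h z (List.mem_cons_of_mem _ hz))

theorem exists_word {γ : ℕ → G} {f : ℕ → Bool} (hγ : InvCompat γ)
    (hf : ∀ x, f x = true → f (invL x) = true) {g : G} (hg : g ∈ sub γ f) :
    ∃ w : List ℕ, (∀ x ∈ w, f x = true) ∧ ev γ w = g := by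
  induction hg using Subgroup.closure_induction with
  | mem g hg =>
    obtain ⟨x, hx, rfl⟩ := hg
    exact ⟨[x], by simpa using hx, by simp⟩
  | one => exact ⟨[], by simp, rfl⟩
  | mul g g' _ _ ih ih' =>
    obtain ⟨w, hw, rfl⟩ := ih
    obtain ⟨w', hw', rfl⟩ := ih'
    refine ⟨w ++ w', ?_, ev_append _ _ _⟩
    intro x hx
    rcases List.mem_append.mp hx with h | h
    · exact hw x h
    · exact hw' x h
  | inv g _ ih =>
    obtain ⟨w, hw, rfl⟩ := ih
    exact ⟨iw w, mem_iw hf hw, ev_iw hγ w⟩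

/-- `∀ p < n, f p` as a Boolean -/
def allB (n : ℕ) (f : ℕ → Bool) : Bool := Nat.rec true (fun k ih => Bool.rec false ih (f k)) n

theorem allB_zero (f : ℕ → Bool) : allB 0 f = true := rfl
theorem allB_succ (n : ℕ) (f : ℕ → Bool) : allB (n + 1) f = and (f n) (allB n f) := by
  show (Bool.rec false (allB n f) (f n) : Bool) = _
  cases f n <;> rfl

theorem allB_iff (n : ℕ) (f : ℕ → Bool) : allB n f = true ↔ ∀ p < n, f p = true := by
  induction n with
  | zero => simp [allB_zero]
  | succ n ih =>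
    rw [allB_succ, Bool.and_eq_true, ih]
    constructor
    · rintro ⟨h1, h2⟩ p hp
      rcases Nat.lt_succ_iff_lt_or_eq.mp hp with h | rfl
      · exact h2 p h
      · exact h1
    · intro h
      exact ⟨h n (Nat.lt_succ_self n), fun p hp => h p (Nat.lt_succ_of_lt hp)⟩

/-! ### right actions of letters on `{0..n-1}` -/

/-- trace of a word under a table action (defined by `List.rec` directly: fast in the kernel) -/
def tr (act : ℕ → ℕ → ℕ) (w : List ℕ) : ℕ → ℕ := List.rec (fun p => p) (fun x _ ih p => ih (act x p)) w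

@[simp] theorem tr_nil (act : ℕ → ℕ → ℕ) (p : ℕ) : tr act [] p = p := rfl
@[simp] theorem tr_cons (act : ℕ → ℕ → ℕ) (x : ℕ) (w : List ℕ) (p : ℕ) :
    tr act (x :: w) p = tr act w (act x p) := rfl

@[simp] theorem tr_append (act : ℕ → ℕ → ℕ) (v w : List ℕ) (p : ℕ) :
    tr act (v ++ w) p = tr act w (tr act v p) := by
  induction v generalizing p with
  | nil => rfl
  | cons x v ih => simp [ih]

/-- a table of letters satisfying `f` acting on `n` points -/
structure IsTab (f : ℕ → Bool) (n : ℕ) (act : ℕ → ℕ → ℕ) : Prop where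
  lt : ∀ x, f x = true → ∀ p < n, act x p < n
  inv : ∀ x, f x = true → ∀ p < n, act (invL x) (act x p) = p
  finv : ∀ x, f x = true → f (invL x) = true

theorem IsTab.tr_lt {f : ℕ → Bool} {n : ℕ} {act : ℕ → ℕ → ℕ} (h : IsTab f n act) {w : List ℕ}
    (hw : ∀ x ∈ w, f x = true) {p : ℕ} (hp : p < n) : tr act w p < n := by
  induction w generalizing p with
  | nil => exact hp
  | cons x w ih =>
    exact ih (fun z hz => hw z (List.mem_cons_of_mem _ hz)) (h.lt x (hw x List.mem_cons_self) p hp)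

theorem IsTab.tr_iw {f : ℕ → Bool} {n : ℕ} {act : ℕ → ℕ → ℕ} (h : IsTab f n act) {w : List ℕ}
    (hw : ∀ x ∈ w, f x = true) {p : ℕ} (hp : p < n) : tr act (iw w) (tr act w p) = p := by
  induction w generalizing p with
  | nil => rfl
  | cons x w ih =>
    rw [tr_cons, iw_cons, tr_append,
      ih (fun z hz => hw z (List.mem_cons_of_mem _ hz)) (h.lt x (hw x List.mem_cons_self) p hp)]
    exact h.inv x (hw x List.mem_cons_self) p hp

theorem IsTab.tr_iw' {f : ℕ → Bool} {n : ℕ} {act : ℕ → ℕ → ℕ} (h : IsTab f n act) {w : List ℕ}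
    (hw : ∀ x ∈ w, f x = true) {p : ℕ} (hp : p < n) : tr act w (tr act (iw w) p) = p := by
  have := h.tr_iw (w := iw w) (mem_iw h.finv hw) hp
  rwa [iw_iw] at this

end Cfsg.Agent.Th.Word
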