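import Cfsg.Agent.Lib.PathCheck
import Cfsg.Agent.Th.Word

/-!
# Covering: from the glue facts and the stabiliser facts to `G = ⋃ H g_i K`
-/

set_option autoImplicit false

namespace Cfsg.Agent.Th.PathCover

open Cfsg.Agent.Th.Word
open Cfsg.Agent.Lib.PathCheck (Tree Fact Holds Rel cat winv len Letters)

variable {G : Type*} [Group G]

/-! ### comparison of the two evaluations -/

theorem ev_digits (γ : ℕ → G) (l : List ℕ) : (l.map γ).prod = ev γ l := by
  induction l with
  | nil => rfl
  | cons x l ih => simp [ih]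

theorem unp_eq_digits (F w : ℕ) (h : w < 16 ^ F) : unp F w = Nat.digits 16 w := by
  induction F generalizing w with
  | zero =>
    have : w = 0 := by simpa using h
    subst this
    simp [unp]
  | succ F ih =>
    have hu : unp (F + 1) w
        = Bool.rec (Nat.land w 15 :: unp F (Nat.div w 16)) [] (Nat.beq w 0) := rfl
    rw [hu]
    by_cases hw : w = 0
    · subst hw
      simp
    · have h0 : Nat.beq w 0 = false := by
        cases hb : Nat.beq w 0 with
        | true => exact absurd (Nat.eq_of_beq_eq_true hb) hw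
        | false => rfl
      rw [h0]
      have h1 : Nat.land w 15 = w % 16 := by
        have := Nat.and_two_pow_sub_one_eq_mod w 4
        simpa using this
      have h2 : Nat.div w 16 = w / 16 := rfl
      show Nat.land w 15 :: unp F (Nat.div w 16) = _
      rw [h1, h2, ih _ (by
        rw [Nat.div_lt_iff_lt_mul (by norm_num)]
        rwa [pow_succ] at h),
        Nat.digits_def' (by norm_num) (Nat.pos_of_ne_zero hw)]

/-- unpack with the right fuel -/
def unl (w : ℕ) : List ℕ := unp (len w) w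

theorem unl_eq (w : ℕ) : unl w = Nat.digits 16 w :=
  unp_eq_digits _ _ (Cfsg.Agent.Lib.PathCheck.lt_pow_len w)

theorem ev_unl (γ : ℕ → G) (w : ℕ) : ev γ (unl w) = Cfsg.Agent.Lib.PathCheck.ev γ w := by
  rw [unl_eq, ← ev_digits]
  rfl

theorem letters_of_invCompat {γ : ℕ → G} (h : InvCompat γ) (h0 : γ 0 = 1) : Letters γ invL where
  zero := h0
  inv := fun l _ => h l
  lt := fun l hl => by
    unfold invL
    simp only [cond_eq_ite, Nat.beq_eq]
    split_ifs <;> omega

/-- the oracle of the path checker made of two word oracles: nodes `< nk` use `ko`, the others `co` -/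
def orc (nk : ℕ) (ko co : List ℕ → Bool) (n w v : ℕ) : Bool :=
  bif Nat.ble nk n then co (unl w ++ iw (unl v)) else ko (unl w ++ iw (unl v))

theorem orc_sound {γ : ℕ → G} (hγ : InvCompat γ) {nk : ℕ} {ko co : List ℕ → Bool}
    (hk : ∀ w, ko w = true → ev γ w = 1) (hc : ∀ w, co w = true → ev γ w = 1) (n w v : ℕ)
    (h : orc nk ko co n w v = true) :
    Cfsg.Agent.Lib.PathCheck.ev γ w = Cfsg.Agent.Lib.PathCheck.ev γ v := by
  rw [← ev_unl, ← ev_unl]
  have key : ev γ (unl w ++ iw (unl v)) = 1 := by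
    unfold orc at h
    cases hb : Nat.ble nk n with
    | true => rw [hb] at h; exact hc _ h
    | false => rw [hb] at h; exact hk _ h
  rw [ev_append, ev_iw hγ] at key
  exact mul_inv_eq_one.mp key

/-! ### covering of the points by orbits -/

/-- One entry of a covering forest: `code = 64 * parent + 2 * index + direction`; the point `parent` must be
covered already, the new covered point is its image under the stabiliser word with that index (direction 0) or its
inverse (direction 1).  `mask` is the set of covered points. -/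
def forest (act : ℕ → ℕ → ℕ) (zs : List ℕ) : List ℕ → ℕ → ℕ
  | [], mask => mask
  | code :: l, mask =>
    bif Nat.testBit mask (code / 64) then
      forest act zs l (mask ||| 2 ^ (tr act
        (bif Nat.beq (code % 2) 0 then unl (zs.getD (code / 2 % 32) 0)
          else iw (unl (zs.getD (code / 2 % 32) 0))) (code / 64)))
    else mask

/-- the roots: images of `0` under the inverses of the glue words -/
def roots (act : ℕ → ℕ → ℕ) : List ℕ → ℕ → ℕ
  | [], mask => mask
  | w :: l, mask => roots act l (mask ||| 2 ^ (tr act (iw (unl w)) 0))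

theorem testBit_or_pow (m p q : ℕ) : Nat.testBit (m ||| 2 ^ p) q = true ↔ Nat.testBit m q = true ∨ p = q := by
  rw [Nat.testBit_or, Nat.testBit_two_pow, Bool.or_eq_true, decide_eq_true_eq]

variable {γ : ℕ → G}

theorem roots_spec (act : ℕ → ℕ → ℕ) (C : ℕ → Prop) (l : List ℕ) (mask : ℕ)
    (hl : ∀ w ∈ l, C (tr act (iw (unl w)) 0)) (hm : ∀ q, Nat.testBit mask q = true → C q) :
    ∀ q, Nat.testBit (roots act l mask) q = true → C q := by
  induction l generalizing mask with
  | nil => exact hm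
  | cons w l ih =>
    apply ih _ (fun v hv => hl v (List.mem_cons_of_mem _ hv))
    intro q hq
    rcases (testBit_or_pow _ _ _).mp hq with hq | rfl
    · exact hm q hq
    · exact hl w List.mem_cons_self

theorem forest_spec (act : ℕ → ℕ → ℕ) (zs : List ℕ) (C : ℕ → Prop)
    (hz : ∀ z ∈ zs, ∀ q, C q → C (tr act (unl z) q) ∧ C (tr act (iw (unl z)) q))
    (l : List ℕ) (mask : ℕ) (hm : ∀ q, Nat.testBit mask q = true → C q) :
    ∀ q, Nat.testBit (forest act zs l mask) q = true → C q := by
  induction l generalizing mask with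
  | nil => exact hm
  | cons code l ih =>
    rw [forest]
    cases hb : Nat.testBit mask (code / 64) with
    | false => exact hm
    | true =>
      have hC := hm _ hb
      apply ih
      intro q hq
      rcases (testBit_or_pow _ _ _).mp hq with hq | rfl
      · exact hm q hq
      · have h0 : unl 0 = [] := by rw [unl_eq]; simp
        have hz' : C (tr act (unl (zs.getD (code / 2 % 32) 0)) (code / 64)) ∧
            C (tr act (iw (unl (zs.getD (code / 2 % 32) 0))) (code / 64)) := by
          by_cases hi : code / 2 % 32 < zs.length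
          · rw [List.getD_eq_getElem _ _ hi]
            exact hz _ (List.getElem_mem hi) _ hC
          · rw [List.getD_eq_default _ _ (not_lt.mp hi), h0]
            exact ⟨hC, hC⟩
        cases Nat.beq (code % 2) 0 with
        | true => exact hz'.1
        | false => exact hz'.2

/-- Covering of the cosets `H y k`, `k` a word in the letters `f`, by cosets with property `P`. -/
theorem cover_node {H B : Subgroup G} (hγ : InvCompat γ) {f : ℕ → Bool} {n : ℕ} {act : ℕ → ℕ → ℕ}
    (hT : IsTab f n act) (hn : 0 < n)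
    (h0 : ∀ w, (∀ x ∈ w, f x = true) → tr act w 0 = 0 → ev γ w ∈ B)
    (y : G) (P : G → Prop) (hP : ∀ x x', Rel H x x' → P x' → P x)
    (zs : List ℕ) (hzf : ∀ z ∈ zs, allL f (unl z) = true)
    (hz : ∀ z ∈ zs, Rel H (y * ev γ (unl z)) y)
    (ks : List ℕ) (hkf : ∀ k ∈ ks, allL f (unl k) = true)
    (hk : ∀ k ∈ ks, ∀ b ∈ B, P (y * ev γ (unl k) * b))
    (l : List ℕ) (hl : forest act zs l (roots act ks 0) = 2 ^ n - 1)
    (w : List ℕ) (hw : ∀ x ∈ w, f x = true) : P (y * ev γ w) := by
  -- the invariant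
  let C : ℕ → Prop := fun p => p < n → ∃ σ k : List ℕ, (∀ x ∈ σ, f x = true) ∧ (∀ x ∈ k, f x = true) ∧
    Rel H (y * ev γ σ) y ∧ (∀ b ∈ B, P (y * ev γ k * b)) ∧ tr act σ (tr act (iw k) 0) = p
  have hroots : ∀ q, Nat.testBit (roots act ks 0) q = true → C q := by
    apply roots_spec
    · intro k hkk _
      refine ⟨[], unl k, by simp, (allL_iff _ _).mp (hkf k hkk), by simpa using Rel.refl H _, hk k hkk, rfl⟩
    · intro q hq
      simp at hq
  have hCz : ∀ z ∈ zs, ∀ q, (q < n ∧ C q) → ((tr act (unl z) q < n ∧ C (tr act (unl z) q)) ∧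
      (tr act (iw (unl z)) q < n ∧ C (tr act (iw (unl z)) q))) := by
    rintro z hzz q ⟨hq, hC⟩
    have hzl : ∀ x ∈ unl z, f x = true := (allL_iff _ _).mp (hzf z hzz)
    have hzl' : ∀ x ∈ iw (unl z), f x = true := mem_iw hT.finv hzl
    obtain ⟨σ, k, hσ, hkl, hσs, hkP, hσk⟩ := hC hq
    refine ⟨⟨hT.tr_lt hzl hq, fun _ => ⟨σ ++ unl z, k, ?_, hkl, ?_, hkP, ?_⟩⟩,
      ⟨hT.tr_lt hzl' hq, fun _ => ⟨σ ++ iw (unl z), k, ?_, hkl, ?_, hkP, ?_⟩⟩⟩
    · intro x hx
      rcases List.mem_append.mp hx with h | h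
      · exact hσ x h
      · exact hzl x h
    · rw [ev_append, ← mul_assoc]
      exact (hσs.mul_right _).trans (hz z hzz)
    · rw [tr_append, hσk]
    · intro x hx
      rcases List.mem_append.mp hx with h | h
      · exact hσ x h
      · exact hzl' x h
    · rw [ev_append, ← mul_assoc, ev_iw hγ]
      refine (hσs.mul_right _).trans ?_
      have := (hz z hzz).mul_right (ev γ (unl z))⁻¹
      simpa using this.symm
    · rw [tr_append, hσk]
  have hroots' : ∀ q, Nat.testBit (roots act ks 0) q = true → (q < n ∧ C q) := by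
    intro q hq
    refine ⟨?_, hroots q hq⟩
    have : ∀ q, Nat.testBit (roots act ks 0) q = true → q < n := by
      apply roots_spec act (fun q => q < n)
      · intro k hkk
        exact hT.tr_lt (mem_iw hT.finv ((allL_iff _ _).mp (hkf k hkk))) hn
      · intro q hq
        simp at hq
    exact this q hq
  have hall : ∀ q < n, C q := by
    intro q hq
    have := forest_spec act zs (fun q => q < n ∧ C q) hCz l _ hroots' q (by
      rw [hl, Nat.testBit_two_pow_sub_one]
      simpa using hq)
    exact this.2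
  -- apply to the point of `w⁻¹`
  have hp : tr act (iw w) 0 < n := hT.tr_lt (mem_iw hT.finv hw) hn
  obtain ⟨σ, k, hσ, hkl, hσs, hkP, hσk⟩ := hall _ hp hp
  have hb : ev γ (iw k ++ σ ++ w) ∈ B := by
    apply h0
    · intro x hx
      rcases List.mem_append.mp hx with h | h
      · rcases List.mem_append.mp h with h | h
        · exact mem_iw hT.finv hkl x h
        · exact hσ x h
      · exact hw x h
    · rw [tr_append, tr_append, hσk]
      exact hT.tr_iw' hw hn
  rw [ev_append, ev_append, ev_iw hγ] at hb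
  have h1 := hkP _ hb
  have e1 : y * ev γ k * ((ev γ k)⁻¹ * ev γ σ * ev γ w) = y * ev γ σ * ev γ w := by group
  rw [e1] at h1
  exact hP _ _ ((hσs.mul_right _).symm) h1

/-- **Main covering theorem.** -/
theorem cover {H B : Subgroup G} (hγ : InvCompat γ)
    (fK fC : ℕ → Bool) {nK nC : ℕ} (hnK : 0 < nK) (hnC : 0 < nC) {actK actC : ℕ → ℕ → ℕ}
    (hTK : IsTab fK nK actK) (hTC : IsTab fC nC actC)
    (h0K : ∀ w, (∀ x ∈ w, fK x = true) → tr actK w 0 = 0 → ev γ w ∈ B)
    (h0C : ∀ w, (∀ x ∈ w, fC x = true) → tr actC w 0 = 0 → ev γ w ∈ B)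
    (hBK : B ≤ sub γ fK) (hBC : B ≤ sub γ fC)
    (g : ℕ → G) (hg0 : g 0 = 1) (tab : ℕ → Fact) (N : ℕ) (htab : ∀ i < N, Holds H γ g (tab i))
    (nk nm : ℕ) (hnk : 0 < nk)
    -- stabiliser facts and glue facts of every node (fact numbers), covering forests
    (st gl fo : ℕ → List ℕ)
    (hst : ∀ i < nk + nm, ∀ j ∈ st i, j < N ∧ (tab j).n1 = i ∧ (tab j).n2 = i ∧ (tab j).w2 = 0)
    (hglK : ∀ i < nk, ∀ j ∈ gl i, j < N ∧ (tab j).n1 = i ∧ nk ≤ (tab j).n2 ∧ (tab j).n2 < nk + nm ∧
      allL fC (unl (tab j).w2) = true)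
    (hglM : ∀ i < nk + nm, nk ≤ i → ∀ j ∈ gl i, j < N ∧ (tab j).n2 = i ∧ (tab j).n1 < nk ∧
      allL fK (unl (tab j).w1) = true)
    (hletK : ∀ i < nk, (∀ j ∈ st i, allL fK (unl (tab j).w1) = true) ∧
      (∀ j ∈ gl i, allL fK (unl (tab j).w1) = true))
    (hletM : ∀ i < nk + nm, nk ≤ i → (∀ j ∈ st i, allL fC (unl (tab j).w1) = true) ∧
      (∀ j ∈ gl i, allL fC (unl (tab j).w2) = true))
    (hfoK : ∀ i < nk, forest actK ((st i).map fun j => (tab j).w1) (fo i)
      (roots actK ((gl i).map fun j => (tab j).w1) 0) = 2 ^ nK - 1)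
    (hfoM : ∀ i < nk + nm, nk ≤ i → forest actC ((st i).map fun j => (tab j).w1) (fo i)
      (roots actC ((gl i).map fun j => (tab j).w2) 0) = 2 ^ nC - 1)
    (w : List ℕ) (hw : ∀ x ∈ w, fK x = true ∨ fC x = true) :
    ∃ i < nk, ∃ k ∈ sub γ fK, Rel H (ev γ w) (g i * k) := by
  let SK : G → Prop := fun x => ∃ i < nk, ∃ k ∈ sub γ fK, Rel H x (g i * k)
  let SC : G → Prop := fun x => ∃ i, nk ≤ i ∧ i < nk + nm ∧ ∃ k ∈ sub γ fC, Rel H x (g i * k)
  have hSK : ∀ x x', Rel H x x' → SK x' → SK x := by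
    rintro x x' hx ⟨i, hi, k, hk, h⟩
    exact ⟨i, hi, k, hk, hx.trans h⟩
  have hSC : ∀ x x', Rel H x x' → SC x' → SC x := by
    rintro x x' hx ⟨i, hi, hi', k, hk, h⟩
    exact ⟨i, hi, hi', k, hk, hx.trans h⟩
  have hst' : ∀ i < nk + nm, ∀ j ∈ st i, Rel H (g i * ev γ (unl (tab j).w1)) (g i) := by
    intro i hi j hj
    obtain ⟨h1, h2, h3, h4⟩ := hst i hi j hj
    have h5 := htab j h1
    unfold Holds at h5
    rw [h2, h3, h4] at h5
    rw [ev_unl]
    show g i * _ * (g i)⁻¹ ∈ H
    simpa using h5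
  -- K side
  have coverK : ∀ i < nk, ∀ w, (∀ x ∈ w, fK x = true) → SC (g i * ev γ w) := by
    intro i hi w hw
    refine cover_node hγ hTK hnK h0K (g i) SC hSC ((st i).map fun j => (tab j).w1) ?_ ?_
      ((gl i).map fun j => (tab j).w1) ?_ ?_ (fo i) (hfoK i hi) w hw
    · intro z hz
      obtain ⟨j, hj, rfl⟩ := List.mem_map.mp hz
      exact (hletK i hi).1 j hj
    · intro z hz
      obtain ⟨j, hj, rfl⟩ := List.mem_map.mp hz
      exact hst' i (by omega) j hj
    · intro z hz
      obtain ⟨j, hj, rfl⟩ := List.mem_map.mp hz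
      exact (hletK i hi).2 j hj
    · intro z hz b hb
      obtain ⟨j, hj, rfl⟩ := List.mem_map.mp hz
      obtain ⟨h1, h2, h3, h4, h5⟩ := hglK i hi j hj
      have h6 := htab j h1
      unfold Holds at h6
      rw [h2, ← ev_unl, ← ev_unl] at h6
      refine ⟨(tab j).n2, h3, h4, ev γ (unl (tab j).w2) * b, ?_, ?_⟩
      · exact Subgroup.mul_mem _ (ev_mem_sub ((allL_iff _ _).mp h5)) (hBC hb)
      · rw [← mul_assoc]
        exact Rel.mul_right h6 b
  have coverC : ∀ i, nk ≤ i → i < nk + nm → ∀ w, (∀ x ∈ w, fC x = true) → SK (g i * ev γ w) := by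
    intro i hi hi' w hw
    refine cover_node hγ hTC hnC h0C (g i) SK hSK ((st i).map fun j => (tab j).w1) ?_ ?_
      ((gl i).map fun j => (tab j).w2) ?_ ?_ (fo i) (hfoM i hi' hi) w hw
    · intro z hz
      obtain ⟨j, hj, rfl⟩ := List.mem_map.mp hz
      exact (hletM i hi' hi).1 j hj
    · intro z hz
      obtain ⟨j, hj, rfl⟩ := List.mem_map.mp hz
      exact hst' i hi' j hj
    · intro z hz
      obtain ⟨j, hj, rfl⟩ := List.mem_map.mp hz
      exact (hletM i hi' hi).2 j hj
    · intro z hz b hb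
      obtain ⟨j, hj, rfl⟩ := List.mem_map.mp hz
      obtain ⟨h1, h2, h3, h5⟩ := hglM i hi' hi j hj
      have h6 := htab j h1
      unfold Holds at h6
      rw [h2, ← ev_unl, ← ev_unl] at h6
      refine ⟨(tab j).n1, h3, ev γ (unl (tab j).w1) * b, ?_, ?_⟩
      · exact Subgroup.mul_mem _ (ev_mem_sub ((allL_iff _ _).mp h5)) (hBK hb)
      · rw [← mul_assoc]
        exact Rel.mul_right (Rel.symm h6) b
  -- closure
  have stepK : ∀ x l, fK l = true → SK x → SK (x * γ l) := by
    rintro x l hl ⟨i, hi, k, hk, h⟩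
    refine ⟨i, hi, k * γ l, Subgroup.mul_mem _ hk (Subgroup.subset_closure ⟨l, hl, rfl⟩), ?_⟩
    rw [← mul_assoc]
    exact h.mul_right _
  have stepC : ∀ x l, fC l = true → SK x → SK (x * γ l) := by
    rintro x l hl ⟨i, hi, k, hk, h⟩
    obtain ⟨v, hv, rfl⟩ := exists_word hγ hTK.finv hk
    obtain ⟨i', h1, h2, k', hk', h'⟩ := coverK i hi v hv
    have h3 : Rel H (x * γ l) (g i' * (k' * γ l)) := by
      rw [← mul_assoc]
      exact (h.trans h').mul_right _
    have hk2 : k' * γ l ∈ sub γ fC := Subgroup.mul_mem _ hk' (Subgroup.subset_closure ⟨l, hl, rfl⟩)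
    obtain ⟨v', hv', e⟩ := exists_word hγ hTC.finv hk2
    rw [← e] at h3
    exact hSK _ _ h3 (coverC i' h1 h2 v' hv')
  have main : ∀ w : List ℕ, (∀ x ∈ w, fK x = true ∨ fC x = true) → ∀ x, SK x → SK (x * ev γ w) := by
    intro w
    induction w with
    | nil => intro _ x hx; simpa using hx
    | cons l w ih =>
      intro hw x hx
      rw [ev_cons, ← mul_assoc]
      apply ih (fun z hz => hw z (List.mem_cons_of_mem _ hz))
      rcases hw l List.mem_cons_self with h | h
      · exact stepK x l h hx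
      · exact stepC x l h hx
  have := main w hw 1 ⟨0, hnk, 1, Subgroup.one_mem _, by rw [hg0]; simpa using Rel.refl H _⟩
  simpa using this

end Cfsg.Agent.Th.PathCover
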