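import Cfsg.Agent.Th.KOracle
import Cfsg.Agent.Th.PathCover

/-!
# Numbers of `H`-cosets in the double cosets `H g_i K` (`H = K = <a,b,c,d,e,s,t>`)

Node data: for every node `i = 1..10` the stabiliser words of the certificate and a stabiliser chain of the group they
generate on the 819 points.
-/

set_option autoImplicit false

namespace Cfsg.Agent.Th.IndexBound

open Cfsg.Agent.Th.Base (RelK)
open Cfsg.Agent.Th.Word Cfsg.Agent.Th.RelWords Cfsg.Agent.Th.PermTab Cfsg.Agent.Th.KOracle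
open Cfsg.Agent.Th.PathCover (unl)

/-- product word: codes `2 * i + s`, `s = 1` for the inverse of the word number `i` -/
def pw (ws : List (List ℕ)) : List ℕ → List ℕ
  | [] => []
  | c :: l => (bif Nat.beq (c % 2) 0 then ws.getD (c / 2) [] else iw (ws.getD (c / 2) [])) ++ pw ws l

/-- node data -/
structure ND where
  /-- packed stabiliser words -/
  zs : List ℕ
  /-- the same words, unpacked -/
  ws : List (List ℕ)
  /-- first base point -/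
  b1 : ℕ
  /-- first orbit length -/
  n1 : ℕ
  /-- generators of the second level: codes -/
  cs : List (List ℕ)
  /-- generators of the second level: words -/
  vs : List (List ℕ)
  /-- second base point -/
  b2 : ℕ
  /-- second orbit length -/
  n2 : ℕ

/-- the kernel checks for a node -/
structure OK (d : ND) : Prop where
  hz : d.zs.map unl = d.ws
  hw : allG (allL isK) d.ws = true
  b1 : d.b1 < 819
  h1 : Nat.ble d.n1 (cnt 819 (bfs act d.ws 819 [d.b1] (Nat.shiftLeft 1 d.b1))) = true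
  hc : d.cs.map (pw d.ws) = d.vs
  hv : allG (fun v => Nat.beq (tr act v d.b1) d.b1) d.vs = true
  b2 : d.b2 < 819
  h2 : Nat.ble d.n2 (cnt 819 (bfs act d.vs 819 [d.b2] (Nat.shiftLeft 1 d.b2))) = true

universe u

variable {G : Type u} [Group G]

/-- same right coset of `H` -/
abbrev CRel (H : Subgroup G) (x y : G) : Prop := Cfsg.Agent.Lib.PathCheck.Rel H x y

/-- the action on the cosets, through the first factor -/
def aH (H : Subgroup G) : (G × Equiv.Perm (Fin 819)) →* Equiv.Perm (G ⧸ H) :=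
  (MulAction.toPermHom G (G ⧸ H)).comp (MonoidHom.fst _ _)

theorem aH_apply (H : Subgroup G) (x : G × Equiv.Perm (Fin 819)) (y : G ⧸ H) :
    aH H x y = x.1 • y := rfl

/-- the point of the coset `H x` -/
def pt (H : Subgroup G) (x : G) : G ⧸ H := ((x⁻¹ : G) : G ⧸ H)

theorem pt_eq_iff (H : Subgroup G) (x y : G) : pt H x = pt H y ↔ CRel H x y := by
  unfold pt CRel Cfsg.Agent.Lib.PathCheck.Rel
  rw [QuotientGroup.eq]
  simp

theorem smul_pt (H : Subgroup G) (g x : G) : g • pt H x = pt H (x * g⁻¹) := by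
  unfold pt
  rw [mul_inv_rev, inv_inv]
  rfl

/-- the `H`-cosets contained in `H g K`, `K` = generated by the letters `1..9` -/
def orb (H : Subgroup G) (γ : ℕ → G) (g : G) : Set (G ⧸ H) := {x | ∃ k ∈ sub γ isK, x = pt H (g * k)}

theorem pw_mem {γ : ℕ → G} (hγ : InvCompat γ) (ws : List (List ℕ)) (S : Subgroup G)
    (hS : ∀ w ∈ ws, ev γ w ∈ S) (c : List ℕ) : ev γ (pw ws c) ∈ S := by
  induction c with
  | nil => exact Subgroup.one_mem _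
  | cons x c ih =>
    rw [pw, ev_append]
    have h1 : ev γ (ws.getD (x / 2) []) ∈ S := by
      by_cases hi : x / 2 < ws.length
      · rw [List.getD_eq_getElem _ _ hi]
        exact hS _ (List.getElem_mem hi)
      · rw [List.getD_eq_default _ _ (not_lt.mp hi)]
        exact Subgroup.one_mem _
    refine Subgroup.mul_mem _ ?_ ih
    cases Nat.beq (x % 2) 0 with
    | true => exact h1
    | false =>
      show ev γ (iw _) ∈ S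
      rw [ev_iw hγ]
      exact Subgroup.inv_mem _ h1

theorem pw_letters (ws : List (List ℕ)) (hS : ∀ w ∈ ws, ∀ x ∈ w, isK x = true) (c : List ℕ) :
    ∀ x ∈ pw ws c, isK x = true := by
  induction c with
  | nil => simp [pw]
  | cons x c ih =>
    rw [pw]
    have h1 : ∀ y ∈ ws.getD (x / 2) [], isK y = true := by
      by_cases hi : x / 2 < ws.length
      · rw [List.getD_eq_getElem _ _ hi]
        exact hS _ (List.getElem_mem hi)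
      · rw [List.getD_eq_default _ _ (not_lt.mp hi)]
        simp
    intro y hy
    rcases List.mem_append.mp hy with hy | hy
    · cases hb : Nat.beq (x % 2) 0 with
      | true => rw [hb] at hy; exact h1 y hy
      | false => rw [hb] at hy; exact mem_iw (fun x hx => isK_invL hx) h1 y hy
    · exact ih y hy

/-- order of the stabiliser of the coset `H g` in `K` -/
theorem card_stab_ge {γ : ℕ → G} [Finite (SK γ)] (hγ : InvCompat γ) (H : Subgroup G) (g : G)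
    (d : ND) (hd : OK d) (hz : ∀ z ∈ d.zs, CRel H (g * ev γ (unl z)) g) :
    d.n1 * d.n2 ≤ Nat.card (SK γ ⊓ stab (aH H) (pt H g) : Subgroup (G × Equiv.Perm (Fin 819))) := by
  have hw := (allG_iff _ _).mp hd.hw
  have hwl : ∀ w ∈ d.ws, ∀ x ∈ w, isK x = true := fun w hw' => (allL_iff _ _).mp (hw w hw')
  have hfin : Finite (SK γ ⊓ stab (aH H) (pt H g) : Subgroup (G × Equiv.Perm (Fin 819))) :=
    Finite.of_injective (Subgroup.inclusion inf_le_left) (Subgroup.inclusion_injective _)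
  have hmem : ∀ w ∈ d.ws, ev (pr γ) w ∈ SK γ ⊓ stab (aH H) (pt H g) := by
    intro w hw'
    refine ⟨ev_mem_sub (hwl w hw'), ?_⟩
    show ev (pr γ) w ∈ stab (aH H) (pt H g)
    rw [mem_stab, aH_apply, ev_pr]
    show ev γ w • pt H g = pt H g
    rw [smul_pt, pt_eq_iff]
    have hw2 := hw'
    rw [← hd.hz] at hw2
    obtain ⟨z, hz', rfl⟩ := List.mem_map.mp hw2
    have h := Cfsg.Agent.Lib.PathCheck.Rel.mul_right (hz z hz') (ev γ (unl z))⁻¹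
    simpa using h.symm
  have c1 := chain_mask isTab (al G) (al_ev γ) (SK γ ⊓ stab (aH H) (pt H g)) ⟨d.b1, hd.b1⟩ d.ws
    (fun w hw' => ⟨hwl w hw', hmem w hw'⟩) 819 d.n1 d.b1 rfl hd.h1
  have hfin2 : Finite (SK γ ⊓ stab (aH H) (pt H g) ⊓ stab (al G) ⟨d.b1, hd.b1⟩ :
      Subgroup (G × Equiv.Perm (Fin 819))) :=
    Finite.of_injective (Subgroup.inclusion inf_le_left) (Subgroup.inclusion_injective _)
  have hvl : ∀ v ∈ d.vs, ∀ x ∈ v, isK x = true := by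
    intro v hv
    rw [← hd.hc] at hv
    obtain ⟨c, _, rfl⟩ := List.mem_map.mp hv
    exact pw_letters _ hwl c
  have hvm : ∀ v ∈ d.vs, ev (pr γ) v ∈ SK γ ⊓ stab (aH H) (pt H g) ⊓ stab (al G) ⟨d.b1, hd.b1⟩ := by
    intro v hv
    refine ⟨?_, mem_stab_of_tr γ (hvl v hv) ⟨d.b1, hd.b1⟩ ?_⟩
    · have hv2 := hv
      rw [← hd.hc] at hv2
      obtain ⟨c, _, rfl⟩ := List.mem_map.mp hv2
      exact pw_mem (pr_invCompat hγ) _ _ hmem c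
    · exact Nat.beq_eq.mp ((allG_iff _ _).mp hd.hv v hv)
  have c2 := chain_mask isTab (al G) (al_ev γ)
    (SK γ ⊓ stab (aH H) (pt H g) ⊓ stab (al G) ⟨d.b1, hd.b1⟩) ⟨d.b2, hd.b2⟩ d.vs
    (fun v hv => ⟨hvl v hv, hvm v hv⟩) 819 d.n2 d.b2 rfl hd.h2
  have hfin3 : Finite (SK γ ⊓ stab (aH H) (pt H g) ⊓ stab (al G) ⟨d.b1, hd.b1⟩ ⊓
      stab (al G) ⟨d.b2, hd.b2⟩ : Subgroup (G × Equiv.Perm (Fin 819))) :=
    Finite.of_injective (Subgroup.inclusion inf_le_left) (Subgroup.inclusion_injective _)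
  have hpos : 0 < Nat.card (SK γ ⊓ stab (aH H) (pt H g) ⊓ stab (al G) ⟨d.b1, hd.b1⟩ ⊓
      stab (al G) ⟨d.b2, hd.b2⟩ : Subgroup (G × Equiv.Perm (Fin 819))) := Nat.card_pos
  calc d.n1 * d.n2 ≤ d.n1 * (d.n2 * Nat.card (SK γ ⊓ stab (aH H) (pt H g) ⊓
        stab (al G) ⟨d.b1, hd.b1⟩ ⊓ stab (al G) ⟨d.b2, hd.b2⟩ :
          Subgroup (G × Equiv.Perm (Fin 819)))) :=
        Nat.mul_le_mul_left _ (Nat.le_mul_of_pos_right _ hpos)
    _ ≤ d.n1 * Nat.card (SK γ ⊓ stab (aH H) (pt H g) ⊓ stab (al G) ⟨d.b1, hd.b1⟩ :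
          Subgroup (G × Equiv.Perm (Fin 819))) := Nat.mul_le_mul_left _ c2
    _ ≤ _ := c1

/-- bound for the number of points in a finite part of the orbit -/
theorem orb_card_le (hb : BoundK.{u}) {γ : ℕ → G} (hγ : InvCompat γ)
    (h : RelK (γ 1) (γ 2) (γ 3) (γ 4) (γ 5) (γ 6) (γ 8)) (H : Subgroup G) (g : G)
    (d : ND) (hd : OK d) (hz : ∀ z ∈ d.zs, CRel H (g * ev γ (unl z)) g) (T : Finset (G ⧸ H))
    (hT : ∀ x ∈ T, x ∈ orb H γ g) : d.n1 * d.n2 * T.card ≤ 634023936 := by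
  obtain ⟨hf, hle⟩ := SK_bound hb hγ h
  have h1 := card_stab_ge hγ H g d hd hz
  have h2 := chain_step' (aH H) (SK γ) (pt H g) T (by
    intro x hx
    obtain ⟨k, hk, rfl⟩ := hT x hx
    obtain ⟨w, hw, rfl⟩ := exists_word hγ (fun x hx => isK_invL hx) hk
    refine ⟨(ev (pr γ) w)⁻¹, Subgroup.inv_mem _ (ev_mem_sub hw), ?_⟩
    rw [aH_apply, ev_pr]
    show (ev γ w)⁻¹ • pt H g = _
    rw [smul_pt, inv_inv])
  calc d.n1 * d.n2 * T.card = T.card * (d.n1 * d.n2) := Nat.mul_comm _ _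
    _ ≤ T.card * _ := Nat.mul_le_mul_left _ h1
    _ ≤ _ := h2
    _ ≤ _ := hle

theorem orb_bound (hb : BoundK.{u}) {γ : ℕ → G} (hγ : InvCompat γ)
    (h : RelK (γ 1) (γ 2) (γ 3) (γ 4) (γ 5) (γ 6) (γ 8)) (H : Subgroup G) (g : G)
    (d : ND) (hd : OK d) (hz : ∀ z ∈ d.zs, CRel H (g * ev γ (unl z)) g) (N : ℕ)
    (hN : 634023936 < d.n1 * d.n2 * (N + 1)) :
    (orb H γ g).Finite ∧ (orb H γ g).ncard ≤ N := by
  have key : ∀ T : Finset (G ⧸ H), (↑T : Set (G ⧸ H)) ⊆ orb H γ g → T.card ≤ N := by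
    intro T hT
    by_contra hc
    have h1 := orb_card_le hb hγ h H g d hd hz T (fun x hx => hT (by exact_mod_cast hx))
    have h2 : d.n1 * d.n2 * (N + 1) ≤ d.n1 * d.n2 * T.card := Nat.mul_le_mul_left _ (by omega)
    omega
  have hfin : (orb H γ g).Finite := by
    by_contra hc
    obtain ⟨T, hT, hTc⟩ := Set.Infinite.exists_subset_card_eq hc (N + 1)
    have := key T hT
    omega
  refine ⟨hfin, ?_⟩
  rw [Set.ncard_eq_toFinset_card _ hfin]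
  exact key _ (by simp)

/-- the trivial orbit -/
theorem orb_one {γ : ℕ → G} : (orb (sub γ isK) γ 1).Finite ∧ (orb (sub γ isK) γ 1).ncard ≤ 1 := by
  have h1 : orb (sub γ isK) γ 1 ⊆ {pt (sub γ isK) 1} := by
    rintro x ⟨k, hk, rfl⟩
    rw [Set.mem_singleton_iff, pt_eq_iff]
    simpa [CRel, Cfsg.Agent.Lib.PathCheck.Rel] using hk
  have h2 : (orb (sub γ isK) γ 1).Finite := (Set.finite_singleton _).subset h1
  refine ⟨h2, ?_⟩
  have := Set.ncard_le_ncard h1 (Set.finite_singleton _)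
  rwa [Set.ncard_singleton] at this

/-! ### the data -/

/-- data of node 1: facts [37, 39, 41] of the certificate -/
def nd1 : ND where
  zs := [0x75773456345343665745774, 0x8, 0x945734534379565]
  ws := [[4, 7, 7, 5, 4, 7, 5, 6, 6, 3, 4, 3, 5, 4, 3, 6, 5, 4, 3, 7, 7, 5, 7],
    [8],
    [5, 6, 5, 9, 7, 3, 4, 3, 5, 4, 3, 7, 5, 4, 9]]
  b1 := 1
  n1 := 512
  cs := [[2], [0, 4, 1]]
  vs := [[8],
    [4, 7, 7, 5, 4, 7, 5, 6, 6, 3, 4, 3, 5, 4, 3, 6, 5, 4, 3, 7, 7, 5, 7, 5, 6, 5, 9, 7, 3, 4, 3, 5, 4, 3, 7, 5, 4,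
      9, 6, 5, 6, 6, 3, 4, 5, 7, 3, 4, 5, 3, 4, 3, 7, 7, 5, 6, 4, 5, 6, 6, 4]]
  b2 := 45
  n2 := 27

set_option maxRecDepth 100000 in
theorem ok1 : OK nd1 where
  hz := by decide +kernel
  hw := by decide +kernel
  b1 := by decide
  h1 := by decide +kernel
  hc := by decide +kernel
  hv := by decide +kernel
  b2 := by decide
  h2 := by decide +kernel

/-- data of node 2: facts [46, 105] of the certificate -/
def nd2 : ND where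
  zs := [0x75773456345343665745774, 0x231256934563453439654]
  ws := [[4, 7, 7, 5, 4, 7, 5, 6, 6, 3, 4, 3, 5, 4, 3, 6, 5, 4, 3, 7, 7, 5, 7],
    [4, 5, 6, 9, 3, 4, 3, 5, 4, 3, 6, 5, 4, 3, 9, 6, 5, 2, 1, 3, 2]]
  b1 := 1
  n1 := 768
  cs := [[3, 0, 2, 2, 2, 0, 2, 1, 2, 1, 2], [3, 3, 3, 3, 3, 0, 2, 2, 2, 2, 2], [3, 3, 0, 2, 2, 2, 2, 1, 3, 3, 1, 2, 1]]
  vs := [[2, 3, 1, 2, 5, 7, 8, 3, 4, 5, 7, 3, 4, 5, 3, 4, 3, 8, 7, 5, 4, 4, 7, 7, 5, 4, 7, 5, 6, 6, 3, 4, 3, 5, 4,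
      3, 6, 5, 4, 3, 7, 7, 5, 7, 4, 5, 6, 9, 3, 4, 3, 5, 4, 3, 6, 5, 4, 3, 9, 6, 5, 2, 1, 3, 2, 4, 5, 6, 9, 3, 4, 3,
      5, 4, 3, 6, 5, 4, 3, 9, 6, 5, 2, 1, 3, 2, 4, 5, 6, 9, 3, 4, 3, 5, 4, 3, 6, 5, 4, 3, 9, 6, 5, 2, 1, 3, 2, 4, 7,
      7, 5, 4, 7, 5, 6, 6, 3, 4, 3, 5, 4, 3, 6, 5, 4, 3, 7, 7, 5, 7, 4, 5, 6, 9, 3, 4, 3, 5, 4, 3, 6, 5, 4, 3, 9, 6,
      5, 2, 1, 3, 2, 6, 5, 6, 6, 3, 4, 5, 7, 3, 4, 5, 3, 4, 3, 7, 7, 5, 6, 4, 5, 6, 6, 4, 4, 5, 6, 9, 3, 4, 3, 5, 4,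
      3, 6, 5, 4, 3, 9, 6, 5, 2, 1, 3, 2, 6, 5, 6, 6, 3, 4, 5, 7, 3, 4, 5, 3, 4, 3, 7, 7, 5, 6, 4, 5, 6, 6, 4, 4, 5,
      6, 9, 3, 4, 3, 5, 4, 3, 6, 5, 4, 3, 9, 6, 5, 2, 1, 3, 2],
    [2, 3, 1, 2, 5, 7, 8, 3, 4, 5, 7, 3, 4, 5, 3, 4, 3, 8, 7, 5, 4, 2, 3, 1, 2, 5, 7, 8, 3, 4, 5, 7, 3, 4, 5, 3, 4,
      3, 8, 7, 5, 4, 2, 3, 1, 2, 5, 7, 8, 3, 4, 5, 7, 3, 4, 5, 3, 4, 3, 8, 7, 5, 4, 2, 3, 1, 2, 5, 7, 8, 3, 4, 5, 7,
      3, 4, 5, 3, 4, 3, 8, 7, 5, 4, 2, 3, 1, 2, 5, 7, 8, 3, 4, 5, 7, 3, 4, 5, 3, 4, 3, 8, 7, 5, 4, 4, 7, 7, 5, 4, 7,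
      5, 6, 6, 3, 4, 3, 5, 4, 3, 6, 5, 4, 3, 7, 7, 5, 7, 4, 5, 6, 9, 3, 4, 3, 5, 4, 3, 6, 5, 4, 3, 9, 6, 5, 2, 1, 3,
      2, 4, 5, 6, 9, 3, 4, 3, 5, 4, 3, 6, 5, 4, 3, 9, 6, 5, 2, 1, 3, 2, 4, 5, 6, 9, 3, 4, 3, 5, 4, 3, 6, 5, 4, 3, 9,
      6, 5, 2, 1, 3, 2, 4, 5, 6, 9, 3, 4, 3, 5, 4, 3, 6, 5, 4, 3, 9, 6, 5, 2, 1, 3, 2, 4, 5, 6, 9, 3, 4, 3, 5, 4, 3,
      6, 5, 4, 3, 9, 6, 5, 2, 1, 3, 2],
    [2, 3, 1, 2, 5, 7, 8, 3, 4, 5, 7, 3, 4, 5, 3, 4, 3, 8, 7, 5, 4, 2, 3, 1, 2, 5, 7, 8, 3, 4, 5, 7, 3, 4, 5, 3, 4,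
      3, 8, 7, 5, 4, 4, 7, 7, 5, 4, 7, 5, 6, 6, 3, 4, 3, 5, 4, 3, 6, 5, 4, 3, 7, 7, 5, 7, 4, 5, 6, 9, 3, 4, 3, 5, 4,
      3, 6, 5, 4, 3, 9, 6, 5, 2, 1, 3, 2, 4, 5, 6, 9, 3, 4, 3, 5, 4, 3, 6, 5, 4, 3, 9, 6, 5, 2, 1, 3, 2, 4, 5, 6, 9,
      3, 4, 3, 5, 4, 3, 6, 5, 4, 3, 9, 6, 5, 2, 1, 3, 2, 4, 5, 6, 9, 3, 4, 3, 5, 4, 3, 6, 5, 4, 3, 9, 6, 5, 2, 1, 3,
      2, 6, 5, 6, 6, 3, 4, 5, 7, 3, 4, 5, 3, 4, 3, 7, 7, 5, 6, 4, 5, 6, 6, 4, 2, 3, 1, 2, 5, 7, 8, 3, 4, 5, 7, 3, 4,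
      5, 3, 4, 3, 8, 7, 5, 4, 2, 3, 1, 2, 5, 7, 8, 3, 4, 5, 7, 3, 4, 5, 3, 4, 3, 8, 7, 5, 4, 6, 5, 6, 6, 3, 4, 5, 7,
      3, 4, 5, 3, 4, 3, 7, 7, 5, 6, 4, 5, 6, 6, 4, 4, 5, 6, 9, 3, 4, 3, 5, 4, 3, 6, 5, 4, 3, 9, 6, 5, 2, 1, 3, 2, 6,
      5, 6, 6, 3, 4, 5, 7, 3, 4, 5, 3, 4, 3, 7, 7, 5, 6, 4, 5, 6, 6, 4]]
  b2 := 62
  n2 := 48

set_option maxRecDepth 100000 in
theorem ok2 : OK nd2 where
  hz := by decide +kernel
  hw := by decide +kernel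
  b1 := by decide
  h1 := by decide +kernel
  hc := by decide +kernel
  hv := by decide +kernel
  b2 := by decide
  h2 := by decide +kernel

/-- data of node 3: facts [56, 119, 120] of the certificate -/
def nd3 : ND where
  zs := [0x577345634534366574574, 0x423123456457345343745696, 0x66534315794574]
  ws := [[4, 7, 5, 4, 7, 5, 6, 6, 3, 4, 3, 5, 4, 3, 6, 5, 4, 3, 7, 7, 5],
    [6, 9, 6, 5, 4, 7, 3, 4, 3, 5, 4, 3, 7, 5, 4, 6, 5, 4, 3, 2, 1, 3, 2, 4],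
    [4, 7, 5, 4, 9, 7, 5, 1, 3, 4, 3, 5, 6, 6]]
  b1 := 1
  n1 := 288
  cs := []
  vs := []
  b2 := 0
  n2 := 1

set_option maxRecDepth 100000 in
theorem ok3 : OK nd3 where
  hz := by decide +kernel
  hw := by decide +kernel
  b1 := by decide
  h1 := by decide +kernel
  hc := by decide +kernel
  hv := by decide +kernel
  b2 := by decide
  h2 := by decide +kernel

/-- data of node 4: facts [224, 230] of the certificate -/
def nd4 : ND where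
  zs := [0x345343954, 0x4534326543165656]
  ws := [[4, 5, 9, 3, 4, 3, 5, 4, 3],
    [6, 5, 6, 5, 6, 1, 3, 4, 5, 6, 2, 3, 4, 3, 5, 4]]
  b1 := 36
  n1 := 243
  cs := [[2, 0, 2, 0, 3, 0, 3]]
  vs := [[6, 5, 6, 5, 6, 1, 3, 4, 5, 6, 2, 3, 4, 3, 5, 4, 4, 5, 9, 3, 4, 3, 5, 4, 3, 6, 5, 6, 5, 6, 1, 3, 4, 5, 6,
      2, 3, 4, 3, 5, 4, 4, 5, 9, 3, 4, 3, 5, 4, 3, 4, 5, 3, 4, 3, 2, 7, 5, 4, 3, 1, 7, 5, 7, 5, 7, 4, 5, 9, 3, 4, 3,
      5, 4, 3, 4, 5, 3, 4, 3, 2, 7, 5, 4, 3, 1, 7, 5, 7, 5, 7]]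
  b2 := 0
  n2 := 2

set_option maxRecDepth 100000 in
theorem ok4 : OK nd4 where
  hz := by decide +kernel
  hw := by decide +kernel
  b1 := by decide
  h1 := by decide +kernel
  hc := by decide +kernel
  hv := by decide +kernel
  b2 := by decide
  h2 := by decide +kernel

/-- data of node 5: facts [215, 496] of the certificate -/
def nd5 : ND where
  zs := [0x434563457345343795745754, 0x6457345343256456345734534379457454]
  ws := [[4, 5, 7, 5, 4, 7, 5, 9, 7, 3, 4, 3, 5, 4, 3, 7, 5, 4, 3, 6, 5, 4, 3, 4],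
    [4, 5, 4, 7, 5, 4, 9, 7, 3, 4, 3, 5, 4, 3, 7, 5, 4, 3, 6, 5, 4, 6, 5, 2, 3, 4, 3, 5, 4, 3, 7, 5, 4, 6]]
  b1 := 1
  n1 := 588
  cs := [[2, 2, 2, 2, 0, 2, 2]]
  vs := [[4, 5, 4, 7, 5, 4, 9, 7, 3, 4, 3, 5, 4, 3, 7, 5, 4, 3, 6, 5, 4, 6, 5, 2, 3, 4, 3, 5, 4, 3, 7, 5, 4, 6, 4,
      5, 4, 7, 5, 4, 9, 7, 3, 4, 3, 5, 4, 3, 7, 5, 4, 3, 6, 5, 4, 6, 5, 2, 3, 4, 3, 5, 4, 3, 7, 5, 4, 6, 4, 5, 4, 7,
      5, 4, 9, 7, 3, 4, 3, 5, 4, 3, 7, 5, 4, 3, 6, 5, 4, 6, 5, 2, 3, 4, 3, 5, 4, 3, 7, 5, 4, 6, 4, 5, 4, 7, 5, 4, 9,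
      7, 3, 4, 3, 5, 4, 3, 7, 5, 4, 3, 6, 5, 4, 6, 5, 2, 3, 4, 3, 5, 4, 3, 7, 5, 4, 6, 4, 5, 7, 5, 4, 7, 5, 9, 7, 3,
      4, 3, 5, 4, 3, 7, 5, 4, 3, 6, 5, 4, 3, 4, 4, 5, 4, 7, 5, 4, 9, 7, 3, 4, 3, 5, 4, 3, 7, 5, 4, 3, 6, 5, 4, 6, 5,
      2, 3, 4, 3, 5, 4, 3, 7, 5, 4, 6, 4, 5, 4, 7, 5, 4, 9, 7, 3, 4, 3, 5, 4, 3, 7, 5, 4, 3, 6, 5, 4, 6, 5, 2, 3, 4,
      3, 5, 4, 3, 7, 5, 4, 6]]
  b2 := 0
  n2 := 6

set_option maxRecDepth 100000 in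
theorem ok5 : OK nd5 where
  hz := by decide +kernel
  hw := by decide +kernel
  b1 := by decide
  h1 := by decide +kernel
  hc := by decide +kernel
  hv := by decide +kernel
  b2 := by decide
  h2 := by decide +kernel

/-- data of node 6: facts [231, 487] of the certificate -/
def nd6 : ND where
  zs := [0x57345734534316845645, 0x4231234575734534318564566]
  ws := [[5, 4, 6, 5, 4, 8, 6, 1, 3, 4, 3, 5, 4, 3, 7, 5, 4, 3, 7, 5],
    [6, 6, 5, 4, 6, 5, 8, 1, 3, 4, 3, 5, 4, 3, 7, 5, 7, 5, 4, 3, 2, 1, 3, 2, 4]]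
  b1 := 1
  n1 := 72
  cs := []
  vs := []
  b2 := 0
  n2 := 1

set_option maxRecDepth 100000 in
theorem ok6 : OK nd6 where
  hz := by decide +kernel
  hw := by decide +kernel
  b1 := by decide
  h1 := by decide +kernel
  hc := by decide +kernel
  hv := by decide +kernel
  b2 := by decide
  h2 := by decide +kernel

/-- data of node 7: facts [77, 333] of the certificate -/
def nd7 : ND where
  zs := [0x7577345634534396569456, 0x53431274569345634534366566456]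
  ws := [[6, 5, 4, 9, 6, 5, 6, 9, 3, 4, 3, 5, 4, 3, 6, 5, 4, 3, 7, 7, 5, 7],
    [6, 5, 4, 6, 6, 5, 6, 6, 3, 4, 3, 5, 4, 3, 6, 5, 4, 3, 9, 6, 5, 4, 7, 2, 1, 3, 4, 3, 5]]
  b1 := 36
  n1 := 126
  cs := []
  vs := []
  b2 := 0
  n2 := 1

set_option maxRecDepth 100000 in
theorem ok7 : OK nd7 where
  hz := by decide +kernel
  hw := by decide +kernel
  b1 := by decide
  h1 := by decide +kernel
  hc := by decide +kernel
  hv := by decide +kernel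
  b2 := by decide
  h2 := by decide +kernel

/-- data of node 8: facts [158, 228] of the certificate -/
def nd8 : ND where
  zs := [0x95623452343273456345734534395656457, 0x665712345343277534315745666]
  ws := [[7, 5, 4, 6, 5, 6, 5, 9, 3, 4, 3, 5, 4, 3, 7, 5, 4, 3, 6, 5, 4, 3, 7, 2, 3, 4, 3, 2, 5, 4, 3, 2, 6, 5, 9],
    [6, 6, 6, 5, 4, 7, 5, 1, 3, 4, 3, 5, 7, 7, 2, 3, 4, 3, 5, 4, 3, 2, 1, 7, 5, 6, 6]]
  b1 := 3
  n1 := 54
  cs := []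
  vs := []
  b2 := 0
  n2 := 1

set_option maxRecDepth 100000 in
theorem ok8 : OK nd8 where
  hz := by decide +kernel
  hw := by decide +kernel
  b1 := by decide
  h1 := by decide +kernel
  hc := by decide +kernel
  hv := by decide +kernel
  b2 := by decide
  h2 := by decide +kernel

/-- data of node 9: facts [78, 222] of the certificate -/
def nd9 : ND where
  zs := [0x75773456345343665745774, 0x753423128574563453436574569]
  ws := [[4, 7, 7, 5, 4, 7, 5, 6, 6, 3, 4, 3, 5, 4, 3, 6, 5, 4, 3, 7, 7, 5, 7],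
    [9, 6, 5, 4, 7, 5, 6, 3, 4, 3, 5, 4, 3, 6, 5, 4, 7, 5, 8, 2, 1, 3, 2, 4, 3, 5, 7]]
  b1 := 1
  n1 := 6
  cs := []
  vs := []
  b2 := 0
  n2 := 1

set_option maxRecDepth 100000 in
theorem ok9 : OK nd9 where
  hz := by decide +kernel
  hw := by decide +kernel
  b1 := by decide
  h1 := by decide +kernel
  hc := by decide +kernel
  hv := by decide +kernel
  b2 := by decide
  h2 := by decide +kernel

/-- data of node 10: facts [80, 125] of the certificate -/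
def nd10 : ND where
  zs := [0x75773456345343665745774, 0x6563453431273456345634534316956457]
  ws := [[4, 7, 7, 5, 4, 7, 5, 6, 6, 3, 4, 3, 5, 4, 3, 6, 5, 4, 3, 7, 7, 5, 7],
    [7, 5, 4, 6, 5, 9, 6, 1, 3, 4, 3, 5, 4, 3, 6, 5, 4, 3, 6, 5, 4, 3, 7, 2, 1, 3, 4, 3, 5, 4, 3, 6, 5, 6]]
  b1 := 1
  n1 := 78
  cs := []
  vs := []
  b2 := 0
  n2 := 1

set_option maxRecDepth 100000 in
theorem ok10 : OK nd10 where
  hz := by decide +kernel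
  hw := by decide +kernel
  b1 := by decide
  h1 := by decide +kernel
  hc := by decide +kernel
  hv := by decide +kernel
  b2 := by decide
  h2 := by decide +kernel

end Cfsg.Agent.Th.IndexBound

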