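import Cfsg.Agent.Th.KOracle
import Cfsg.Agent.Th.Bounds

/-!
If `G` satisfies `RelK` and `K = ⟨a,b,c,d,e,s,t⟩` has order exactly 634023936 then `K` acts faithfully on 819 points
(`exists_hom`); consequences: centralisers.
-/

set_option autoImplicit false

namespace Cfsg.Agent.Th.KPerm

open Cfsg.Agent.Th.Base Cfsg.Agent.Th.Word Cfsg.Agent.Th.RelWords Cfsg.Agent.Th.PermTab
  Cfsg.Agent.Th.KOracle

universe u

theorem boundK : BoundK.{u} := fun Γ _ a b c d e s t h => Cfsg.Agent.Th.Bounds.cardK h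

variable {G : Type u} [Group G] {γ : ℕ → G}

/-- projection of the combined group to `K` -/
def p1 (γ : ℕ → G) : SK γ →* G := (MonoidHom.fst G (Equiv.Perm (Fin 819))).comp (SK γ).subtype

/-- projection of the combined group to the permutations -/
def p2 (γ : ℕ → G) : SK γ →* Equiv.Perm (Fin 819) :=
  (MonoidHom.snd G (Equiv.Perm (Fin 819))).comp (SK γ).subtype

theorem exists_word_SK (hγ : InvCompat γ) (z : SK γ) :
    ∃ w : List ℕ, (∀ x ∈ w, isK x = true) ∧ z.1 = ev (pr γ) w := by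
  obtain ⟨w, hw, h⟩ := exists_word (pr_invCompat hγ) (fun x hx => isK_invL hx) z.2
  exact ⟨w, hw, h.symm⟩

theorem p2_injective (hγ : InvCompat γ) (h : RelK (γ 1) (γ 2) (γ 3) (γ 4) (γ 5) (γ 6) (γ 8)) :
    Function.Injective (p2 γ) := by
  rw [injective_iff_map_eq_one]
  intro z hz
  obtain ⟨w, hw, hzw⟩ := exists_word_SK hγ z
  have h1 : ev (KOracle.pr γ) w = (ev γ w, ev (rho isTab) w) := ev_pr γ w
  have h2 : ev (rho isTab) w = 1 := by
    have h3 : (p2 γ z) = (z.1).2 := rfl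
    rw [h3, hzw, h1] at hz
    exact hz
  have h4 : korc w = true := by
    rw [korc_iff]
    have h5 : ∀ p : Fin 819, tr act w p = p := by
      intro p
      have := ev_rho_inv_apply isTab hw p
      rw [h2, inv_one, Equiv.Perm.one_apply] at this
      exact this.symm
    exact ⟨hw, h5 0, h5 1, h5 39, h5 45⟩
  have h6 := korc_pr boundK hγ h h4
  rw [← hzw] at h6
  exact Subtype.ext h6

theorem p1_range (hγ : InvCompat γ) : (p1 γ).range = sub γ isK := by
  apply le_antisymm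
  · rintro g ⟨z, rfl⟩
    obtain ⟨w, hw, hzw⟩ := exists_word_SK hγ z
    have h1 : p1 γ z = (z.1).1 := rfl
    rw [h1, hzw, ev_pr]
    exact ev_mem_sub hw
  · unfold sub
    rw [Subgroup.closure_le]
    rintro g ⟨x, hx, rfl⟩
    have hm : pr γ x ∈ SK γ := Subgroup.subset_closure ⟨x, hx, rfl⟩
    exact ⟨⟨pr γ x, hm⟩, rfl⟩

/-- faithful action of `K` on 819 points -/
theorem exists_hom (hγ : InvCompat γ) (h : RelK (γ 1) (γ 2) (γ 3) (γ 4) (γ 5) (γ 6) (γ 8))
    (hcard : Nat.card (sub γ isK) = 634023936) :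
    ∃ φ : sub γ isK →* Equiv.Perm (Fin 819), Function.Injective φ ∧
      ∀ (w : List ℕ) (hw : ∀ x ∈ w, isK x = true), φ ⟨ev γ w, ev_mem_sub hw⟩ = ev (rho isTab) w := by
  have hS : Nat.card (SK γ) = 634023936 := SK_card boundK hγ h
  have : Finite (SK γ) := (SK_bound boundK hγ h).1
  let q : SK γ →* sub γ isK := (p1 γ).codRestrict (sub γ isK) (fun z => by
    rw [← p1_range hγ]; exact ⟨z, rfl⟩)
  have hq : Function.Surjective q := by
    rintro ⟨g, hg⟩
    rw [← p1_range hγ] at hg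
    obtain ⟨z, hz⟩ := hg
    exact ⟨z, Subtype.ext hz⟩
  have hbij : Function.Bijective q := by
    have : Finite (sub γ isK) := Finite.of_surjective q hq
    exact (Nat.bijective_iff_surjective_and_card q).mpr ⟨hq, by rw [hS, hcard]⟩
  let e : SK γ ≃* sub γ isK := MulEquiv.ofBijective q hbij
  refine ⟨(p2 γ).comp e.symm.toMonoidHom, (p2_injective hγ h).comp e.symm.injective, ?_⟩
  intro w hw
  have hm : ev (pr γ) w ∈ SK γ := ev_mem_sub hw
  have h1 : e ⟨ev (pr γ) w, hm⟩ = ⟨ev γ w, ev_mem_sub hw⟩ := by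
    apply Subtype.ext
    change (ev (pr γ) w).1 = ev γ w
    rw [ev_pr]
  have h2 : e.symm ⟨ev γ w, ev_mem_sub hw⟩ = ⟨ev (pr γ) w, hm⟩ := by
    rw [← h1, MulEquiv.symm_apply_apply]
  change p2 γ (e.symm ⟨ev γ w, ev_mem_sub hw⟩) = _
  rw [h2]
  change (ev (pr γ) w).2 = _
  rw [ev_pr]

end Cfsg.Agent.Th.KPerm
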