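/-
Kernel-fast matrix arithmetic over `ZMod p`.  An `n × n` matrix with entries `< p` is ONE natural number: the entry
(i, j) is the digit number n * i + j in base 2 ^ b.  The product is a sum of n rank-one updates, each of them one GMP
multiplication (column k of x, stride b * n) * (row k of y), followed by a reduction mod p of all digits in parallel.
The left factor may be an `m × n` matrix (m = 1: action on a row vector).
-/
import Mathlib

set_option autoImplicit false

namespace Cfsg.Agent.Th.MatEngine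

open Finset

/-- `Σ_{i<n} d i * 2^(c*i)` -/
def enc (c : ℕ) (d : ℕ → ℕ) (n : ℕ) : ℕ := ∑ i ∈ range n, d i * 2 ^ (c * i)

/-- digit `i` of `x` in base `2^c` -/
def dg (c x i : ℕ) : ℕ := x / 2 ^ (c * i) % 2 ^ c

theorem dg_def (c x i : ℕ) : dg c x i = x / 2 ^ (c * i) % 2 ^ c := rfl

theorem dg_lt (c x i : ℕ) : dg c x i < 2 ^ c := Nat.mod_lt _ (by positivity)

theorem enc_succ (c : ℕ) (d : ℕ → ℕ) (n : ℕ) : enc c d (n + 1) = enc c d n + d n * 2 ^ (c * n) := by
  simp [enc, sum_range_succ]

theorem enc_zero (c : ℕ) (d : ℕ → ℕ) : enc c d 0 = 0 := by simp [enc]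

theorem enc_lt (c : ℕ) (d : ℕ → ℕ) (n : ℕ) (h : ∀ i < n, d i < 2 ^ c) : enc c d n < 2 ^ (c * n) := by
  induction n with
  | zero => simp [enc_zero]
  | succ n ih =>
    rw [enc_succ]
    have h1 := ih (fun i hi => h i (by omega))
    have h2 := h n (by omega)
    have : (d n + 1) * 2 ^ (c * n) ≤ 2 ^ c * 2 ^ (c * n) := Nat.mul_le_mul_right _ h2
    have e : 2 ^ (c * (n + 1)) = 2 ^ c * 2 ^ (c * n) := by rw [← pow_add]; congr 1; ring
    rw [e]
    nlinarith

theorem dg_enc (c : ℕ) (d : ℕ → ℕ) (n : ℕ) (h : ∀ i < n, d i < 2 ^ c) (i : ℕ) (hi : i < n) :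
    dg c (enc c d n) i = d i := by
  induction n with
  | zero => omega
  | succ n ih =>
    rw [enc_succ]
    have h1 : ∀ i < n, d i < 2 ^ c := fun i hi => h i (by omega)
    unfold dg
    rcases Nat.lt_succ_iff_lt_or_eq.mp hi with hlt | rfl
    · have e : d n * 2 ^ (c * n) = 2 ^ (c * i) * (2 ^ c * (d n * 2 ^ (c * (n - i - 1)))) := by
        have : c * n = c * i + (c + c * (n - i - 1)) := by
          obtain ⟨k, rfl⟩ : ∃ k, n = i + 1 + k := ⟨n - (i + 1), by omega⟩
          have : i + 1 + k - i - 1 = k := by omega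
          rw [this]; ring
        rw [this, pow_add, pow_add]; ring
      rw [e, Nat.add_mul_div_left _ _ (by positivity), Nat.add_mul_mod_self_left]
      exact ih h1 hlt
    · rw [Nat.add_mul_div_right _ _ (by positivity), Nat.div_eq_of_lt (enc_lt c d i h1), zero_add,
        Nat.mod_eq_of_lt (h i (by omega))]

theorem enc_dg (c : ℕ) (n : ℕ) (x : ℕ) (hx : x < 2 ^ (c * n)) : enc c (dg c x) n = x := by
  induction n generalizing x with
  | zero => simp [enc_zero] at *; omega
  | succ n ih =>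
    rw [enc_succ]
    have hm : x % 2 ^ (c * n) < 2 ^ (c * n) := Nat.mod_lt _ (by positivity)
    have h1 : enc c (dg c x) n = x % 2 ^ (c * n) := by
      rw [← ih _ hm]
      unfold enc
      apply sum_congr rfl
      intro i hi
      congr 1
      simp only [mem_range] at hi
      unfold dg
      have : c * n = c * i + c * (n - i) := by
        obtain ⟨k, rfl⟩ : ∃ k, n = i + k := ⟨n - i, by omega⟩
        have : i + k - i = k := by omega
        rw [this]; ring
      rw [this, pow_add, Nat.mod_mul_right_div_self, Nat.mod_mod_of_dvd]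
      apply pow_dvd_pow
      have : 1 ≤ n - i := by omega
      nlinarith
    have h2 : dg c x n = x / 2 ^ (c * n) := by
      unfold dg
      apply Nat.mod_eq_of_lt
      rw [Nat.div_lt_iff_lt_mul (by positivity), ← pow_add]
      have e : c + c * n = c * (n + 1) := by ring
      rw [e]; exact hx
    rw [h1, h2]
    exact Nat.mod_add_div' x _

theorem enc_congr (c : ℕ) (d e : ℕ → ℕ) (n : ℕ) (h : ∀ i < n, d i = e i) : enc c d n = enc c e n := by
  unfold enc
  apply sum_congr rfl
  intro i hi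
  rw [h i (mem_range.mp hi)]

theorem enc_add (c : ℕ) (d e : ℕ → ℕ) (n : ℕ) : enc c d n + enc c e n = enc c (fun i => d i + e i) n := by
  unfold enc
  rw [← sum_add_distrib]
  apply sum_congr rfl
  intro i _
  ring

theorem enc_mul (c : ℕ) (d : ℕ → ℕ) (n m : ℕ) : enc c d n * m = enc c (fun i => d i * m) n := by
  unfold enc
  rw [sum_mul]
  apply sum_congr rfl
  intro i _
  ring

theorem mul_enc (c : ℕ) (d : ℕ → ℕ) (n m : ℕ) : m * enc c d n = enc c (fun i => m * d i) n := by
  unfold enc
  rw [mul_sum]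
  apply sum_congr rfl
  intro i _
  ring

theorem enc_sub (c : ℕ) (d e : ℕ → ℕ) (n : ℕ) (h : ∀ i < n, e i ≤ d i) :
    enc c d n - enc c e n = enc c (fun i => d i - e i) n := by
  apply Nat.sub_eq_of_eq_add
  rw [enc_add]
  apply enc_congr
  intro i hi
  have := h i hi
  omega

theorem dg_land (c x y i : ℕ) : dg c (Nat.land x y) i = Nat.land (dg c x i) (dg c y i) := by
  unfold dg
  change (x &&& y) / _ % _ = (_ &&& _)
  apply Nat.eq_of_testBit_eq
  intro j
  simp only [Nat.testBit_mod_two_pow, Nat.testBit_div_two_pow, Nat.testBit_and]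
  cases decide (j < c) <;> simp

theorem land_enc (c : ℕ) (d e : ℕ → ℕ) (n : ℕ) (hd : ∀ i < n, d i < 2 ^ c) (he : ∀ i < n, e i < 2 ^ c) :
    Nat.land (enc c d n) (enc c e n) = enc c (fun i => Nat.land (d i) (e i)) n := by
  have hlt : Nat.land (enc c d n) (enc c e n) < 2 ^ (c * n) :=
    lt_of_le_of_lt (Nat.and_le_left) (enc_lt c d n hd)
  rw [← enc_dg c n _ hlt]
  apply enc_congr
  intro i hi
  rw [dg_land, dg_enc c d n hd i hi, dg_enc c e n he i hi]

/-- `Σ_{i<n} 2^(c*i)` -/
theorem enc_one (c : ℕ) (n : ℕ) (hc : 0 < c) :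
    Nat.div (Nat.sub (Nat.pow 2 (Nat.mul c n)) 1) (Nat.sub (Nat.pow 2 c) 1) = enc c (fun _ => 1) n := by
  change (2 ^ (c * n) - 1) / (2 ^ c - 1) = _
  have h2 : 2 ≤ 2 ^ c := by
    calc 2 = 2 ^ 1 := rfl
      _ ≤ 2 ^ c := Nat.pow_le_pow_right (by omega) hc
  have h := Nat.geomSum_eq h2 n
  rw [pow_mul, ← h]
  unfold enc
  apply sum_congr rfl
  intro i _
  rw [one_mul, pow_mul]

/-- one step of the parallel reduction: subtract `m` from each digit `≥ m`.
`ones` is the number with all digits 1. -/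
def redStep (b m ones x : ℕ) : ℕ :=
  Nat.sub x (Nat.mul m (Nat.shiftRight (Nat.land (Nat.add x (Nat.mul (Nat.sub (Nat.pow 2 (Nat.sub b 1)) m) ones))
    (Nat.mul (Nat.pow 2 (Nat.sub b 1)) ones)) (Nat.sub b 1)))

theorem bit_aux (b m d : ℕ) (_hb : 0 < b) (hm : m ≤ 2 ^ (b - 1)) (hd : d < 2 ^ (b - 1) + m) :
    Nat.land (d + (2 ^ (b - 1) - m)) (2 ^ (b - 1)) = 2 ^ (b - 1) * (if m ≤ d then 1 else 0) := by
  change (d + (2 ^ (b - 1) - m)) &&& (2 ^ (b - 1)) = _
  rw [Nat.and_two_pow]
  have hlt : d + (2 ^ (b - 1) - m) < 2 * 2 ^ (b - 1) := by omega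
  have : (d + (2 ^ (b - 1) - m)).testBit (b - 1) = decide (m ≤ d) := by
    rw [Nat.testBit_eq_decide_div_mod_eq]
    by_cases hmd : m ≤ d
    · have : (d + (2 ^ (b - 1) - m)) / 2 ^ (b - 1) = 1 := by
        apply Nat.div_eq_of_lt_le <;> omega
      rw [this]; simp [hmd]
    · have : (d + (2 ^ (b - 1) - m)) / 2 ^ (b - 1) = 0 := by
        apply Nat.div_eq_of_lt; omega
      rw [this]; simp [hmd]
  rw [this]
  by_cases hmd : m ≤ d <;> simp [hmd]

theorem redStep_enc (b m : ℕ) (N : ℕ) (d : ℕ → ℕ) (hb : 0 < b) (hm : m ≤ 2 ^ (b - 1))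
    (hd : ∀ i < N, d i < 2 ^ (b - 1) + m) :
    redStep b m (enc b (fun _ => 1) N) (enc b d N) = enc b (fun i => if m ≤ d i then d i - m else d i) N := by
  unfold redStep
  have hbb : 2 ^ b = 2 * 2 ^ (b - 1) := by
    obtain ⟨k, rfl⟩ : ∃ k, b = k + 1 := ⟨b - 1, by omega⟩
    simp [pow_succ]; ring
  have hpos : 0 < 2 ^ (b - 1) := by positivity
  have key : Nat.land (enc b d N + (2 ^ (b - 1) - m) * enc b (fun _ => 1) N)
    (2 ^ (b - 1) * enc b (fun _ => 1) N) = 2 ^ (b - 1) * enc b (fun i => if m ≤ d i then 1 else 0) N := by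
    rw [mul_enc, mul_enc, enc_add, land_enc, mul_enc]
    · apply enc_congr
      intro i hi
      simp only [mul_one]
      exact bit_aux b m (d i) hb hm (hd i hi)
    · intro i hi
      have := hd i hi
      rw [hbb]; omega
    · intro i hi
      rw [hbb]; omega
  change enc b d N - m * ((Nat.land (enc b d N + (2 ^ (b - 1) - m) * enc b (fun _ => 1) N)
    (2 ^ (b - 1) * enc b (fun _ => 1) N)) >>> (b - 1)) = _
  rw [key, Nat.shiftRight_eq_div_pow, Nat.mul_div_cancel_left _ hpos, mul_enc, enc_sub]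
  · apply enc_congr
    intro i _
    by_cases h : m ≤ d i <;> simp [h]
  · intro i _
    by_cases h : m ≤ d i <;> simp [h]

/-- repeated reduction: for s = k-1, ..., 0 subtract p*2^s where possible -/
def red (b p ones : ℕ) (k : ℕ) : ℕ → ℕ :=
  Nat.rec (motive := fun _ => ℕ → ℕ) (fun x => x)
    (fun s ih x => ih (redStep b (Nat.mul p (Nat.pow 2 s)) ones x)) k

theorem red_succ (b p ones k x : ℕ) : red b p ones (k + 1) x = red b p ones k (redStep b (p * 2 ^ k) ones x) := rfl

theorem red_enc (b p : ℕ) (N : ℕ) (k : ℕ) (d : ℕ → ℕ) (hb : 0 < b) (hp : 0 < p)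
    (hk : p * 2 ^ k ≤ 2 * 2 ^ (b - 1)) (hd : ∀ i < N, d i < p * 2 ^ k)
    (hd' : ∀ i < N, d i < 2 ^ (b - 1) + p * 2 ^ (k - 1)) :
    red b p (enc b (fun _ => 1) N) k (enc b d N) = enc b (fun i => d i % p) N := by
  induction k generalizing d with
  | zero =>
    change enc b d N = _
    apply enc_congr
    intro i hi
    have := hd i hi
    rw [Nat.mod_eq_of_lt]
    simpa using this
  | succ k ih =>
    rw [red_succ, redStep_enc b (p * 2 ^ k) N d hb]
    · rw [ih]
      · apply enc_congr
        intro i hi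
        by_cases h : p * 2 ^ k ≤ d i
        · simp only [h, if_true]
          obtain ⟨e, he⟩ : ∃ e, d i = e + p * 2 ^ k := ⟨d i - p * 2 ^ k, by omega⟩
          rw [he, Nat.add_sub_cancel, Nat.add_mul_mod_self_left]
        · simp only [h, if_false]
      · have h0 : p * 2 ^ (k + 1) = 2 * (p * 2 ^ k) := by rw [pow_succ]; ring
        rw [h0] at hk; omega
      · intro i hi
        have h1 := hd i hi
        rw [pow_succ] at h1
        by_cases h : p * 2 ^ k ≤ d i
        · simp only [h, if_true]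
          have : p * (2 ^ k * 2) = p * 2 ^ k + p * 2 ^ k := by ring
          omega
        · simp only [h, if_false]; omega
      · intro i hi
        have h1 := hd i hi
        rw [pow_succ] at h1 hk
        have h3 : p * (2 ^ k * 2) = p * 2 ^ k + p * 2 ^ k := by ring
        by_cases h : p * 2 ^ k ≤ d i
        · simp only [h, if_true]
          have : 0 < p * 2 ^ (k - 1) := by positivity
          omega
        · simp only [h, if_false]
          have : 0 < p * 2 ^ (k - 1) := by positivity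
          omega
    · have h0 : p * 2 ^ (k + 1) = 2 * (p * 2 ^ k) := by rw [pow_succ]; ring
      rw [h0] at hk; omega
    · intro i hi
      have := hd' i hi
      simpa using this

/-! ### matrices -/

/-- entry `(i, j)` of a matrix with rows of length `n` -/
def ent (b n x i j : ℕ) : ℕ := dg b (dg (b * n) x i) j

theorem ent_lt (b n x i j : ℕ) : ent b n x i j < 2 ^ b := dg_lt _ _ _

/-- the `m × n` matrix over `ZMod p` stored in `x` -/
def toRMat (b n m p : ℕ) (x : ℕ) : Matrix (Fin m) (Fin n) (ZMod p) := fun i j => (ent b n x i j : ZMod p)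

/-- `x` is a valid `m × n` matrix with entries `< p` -/
def RValid (b n m p x : ℕ) : Prop := x < 2 ^ (b * n * m) ∧ ∀ i < m, ∀ j < n, ent b n x i j < p

/-- sum of the first `k` rank-one updates; `cm` is the column mask `Σ_i (2^b-1) 2^(b n i)`, `rm = 2^(b n)`. -/
def mulLoop (b bn cm rm x y : ℕ) (k : ℕ) : ℕ :=
  Nat.rec (motive := fun _ => ℕ) 0
    (fun j ih => Nat.add ih (Nat.mul (Nat.land (Nat.shiftRight x (Nat.mul b j)) cm)
      (Nat.mod (Nat.shiftRight y (Nat.mul bn j)) rm))) k

theorem mulLoop_succ (b bn cm rm x y k : ℕ) : mulLoop b bn cm rm x y (k + 1) =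
    mulLoop b bn cm rm x y k + (Nat.land (x >>> (b * k)) cm) * ((y >>> (bn * k)) % rm) := rfl

theorem col_extract (b n m x k : ℕ) (hk : k < n) :
    Nat.land (x >>> (b * k)) (enc (b * n) (fun _ => 2 ^ b - 1) m) = enc (b * n) (fun i => ent b n x i k) m := by
  have hn : 1 ≤ n := by omega
  have hbn : b ≤ b * n := Nat.le_mul_of_pos_right _ hn
  have hlt : ∀ i < m, (fun _ : ℕ => 2 ^ b - 1) i < 2 ^ (b * n) := by
    intro i _
    have : 2 ^ b ≤ 2 ^ (b * n) := Nat.pow_le_pow_right (by omega) hbn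
    have h0 : 0 < 2 ^ b := by positivity
    simp only; omega
  have hl : Nat.land (x >>> (b * k)) (enc (b * n) (fun _ => 2 ^ b - 1) m) < 2 ^ (b * n * m) :=
    lt_of_le_of_lt (Nat.and_le_right) (enc_lt (b * n) _ m hlt)
  rw [← enc_dg (b * n) m _ hl]
  apply enc_congr
  intro i hi
  rw [dg_land, dg_enc (b * n) _ m hlt i hi]
  change (dg (b * n) (x >>> (b * k)) i) &&& (2 ^ b - 1) = _
  rw [Nat.and_two_pow_sub_one_eq_mod]
  unfold ent dg
  rw [Nat.shiftRight_eq_div_pow, Nat.div_div_eq_div_mul, ← pow_add, Nat.mod_mod_of_dvd _ (pow_dvd_pow _ hbn)]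
  have h3 : b * n = b * k + b * (n - k) := by
    rw [← mul_add]; congr 1; omega
  have h4 : b ≤ b * (n - k) := Nat.le_mul_of_pos_right _ (by omega)
  rw [show b * k + b * n * i = b * n * i + b * k by ring, pow_add, ← Nat.div_div_eq_div_mul]
  conv_rhs => rw [h3, pow_add, Nat.mod_mul_right_div_self, ← h3]
  rw [Nat.mod_mod_of_dvd _ (pow_dvd_pow _ h4)]

theorem mulLoop_eq (b n m x y k : ℕ) (hk : k ≤ n) :
    mulLoop b (b * n) (enc (b * n) (fun _ => 2 ^ b - 1) m) (2 ^ (b * n)) x y k =
      enc (b * n) (fun i => enc b (fun j => ∑ t ∈ range k, ent b n x i t * ent b n y t j) n) m := by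
  induction k with
  | zero =>
    change 0 = _
    simp [enc]
  | succ k ih =>
    rw [mulLoop_succ, ih (by omega), col_extract b n m x k (by omega), enc_mul, enc_add]
    apply enc_congr
    intro i _
    have : (y >>> (b * n * k)) % 2 ^ (b * n) = enc b (ent b n y k) n := by
      have h : dg (b * n) y k < 2 ^ (b * n) := dg_lt _ _ _
      have h2 := enc_dg b n _ h
      rw [Nat.shiftRight_eq_div_pow]
      exact h2.symm
    rw [this, mul_enc, enc_add]
    apply enc_congr
    intro j _
    rw [sum_range_succ]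

/-- product of a packed matrix `x` with rows of length `n` and a packed `n × n` matrix `y`; `k` reduction steps;
`cm` column mask and `ones` all-one matrix for the number of rows of `x`. -/
def mulN (b bn cm rm p ones k n x y : ℕ) : ℕ := red b p ones k (mulLoop b bn cm rm x y n)

theorem ent_eq_dg (b n x i j : ℕ) (hj : j < n) : ent b n x i j = dg b x (n * i + j) := by
  unfold ent dg
  have h1 : b * n = b * j + b * (n - j) := by
    rw [← mul_add]; congr 1; omega
  have h4 : b ≤ b * (n - j) := Nat.le_mul_of_pos_right _ (by omega)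
  rw [show b * (n * i + j) = b * n * i + b * j by ring, pow_add, ← Nat.div_div_eq_div_mul]
  conv_lhs => rw [show (2 : ℕ) ^ (b * n) = 2 ^ (b * j) * 2 ^ (b * (n - j)) by rw [← pow_add, ← h1],
    Nat.mod_mul_right_div_self]
  rw [Nat.mod_mod_of_dvd _ (pow_dvd_pow _ h4)]

/-- the size conditions: `b` digit width, `n` dimension, `k` number of reduction steps -/
structure Params (b n p k : ℕ) : Prop where
  hb : 0 < b
  hp : 1 < p
  hk : p * 2 ^ k ≤ 2 * 2 ^ (b - 1)
  h1 : n * ((p - 1) * (p - 1)) < p * 2 ^ k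
  h2 : n * ((p - 1) * (p - 1)) < 2 ^ (b - 1) + p * 2 ^ (k - 1)
  h3 : n * ((p - 1) * (p - 1)) < 2 ^ b

theorem mulN_spec {b n p k m : ℕ} (hP : Params b n p k) {x y : ℕ} (hx : RValid b n m p x) (hy : RValid b n n p y) :
    RValid b n m p (mulN b (b * n) (enc (b * n) (fun _ => 2 ^ b - 1) m) (2 ^ (b * n)) p
      (enc b (fun _ => 1) (n * m)) k n x y) ∧
    toRMat b n m p (mulN b (b * n) (enc (b * n) (fun _ => 2 ^ b - 1) m) (2 ^ (b * n)) p
      (enc b (fun _ => 1) (n * m)) k n x y) = toRMat b n m p x * toRMat b n n p y := by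
  have hloop := mulLoop_eq b n m x y n le_rfl
  set X := mulLoop b (b * n) (enc (b * n) (fun _ => 2 ^ b - 1) m) (2 ^ (b * n)) x y n with hX
  -- bound of the inner sums
  have hsum : ∀ i < m, ∀ j < n, ∑ t ∈ range n, ent b n x i t * ent b n y t j ≤ n * ((p - 1) * (p - 1)) := by
    intro i hi j hj
    calc ∑ t ∈ range n, ent b n x i t * ent b n y t j ≤ ∑ t ∈ range n, ((p - 1) * (p - 1)) := by
          apply sum_le_sum
          intro t ht
          rw [mem_range] at ht
          have a1 := hx.2 i hi t ht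
          have a2 := hy.2 t ht j hj
          exact Nat.mul_le_mul (by omega) (by omega)
      _ = n * ((p - 1) * (p - 1)) := by simp
  have hin : ∀ i < m, enc b (fun j => ∑ t ∈ range n, ent b n x i t * ent b n y t j) n < 2 ^ (b * n) := by
    intro i hi
    apply enc_lt
    intro j hj
    exact lt_of_le_of_lt (hsum i hi j hj) hP.h3
  have hXlt : X < 2 ^ (b * n * m) := by
    rw [hloop]
    exact enc_lt _ _ _ hin
  have hXent : ∀ i < m, ∀ j < n, ent b n X i j = ∑ t ∈ range n, ent b n x i t * ent b n y t j := by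
    intro i hi j hj
    unfold ent
    rw [hloop, dg_enc _ _ _ hin i hi, dg_enc]
    · rfl
    · intro j hj
      exact lt_of_le_of_lt (hsum i hi j hj) hP.h3
    · exact hj
  have hXdg : ∀ q < n * m, dg b X q ≤ n * ((p - 1) * (p - 1)) := by
    intro q hq
    have hn : 0 < n := by
      rcases Nat.eq_zero_or_pos n with h | h
      · subst h; simp at hq
      · exact h
    have h1 : q / n < m := Nat.div_lt_of_lt_mul hq
    have h2 : q % n < n := Nat.mod_lt _ hn
    have h3 : n * (q / n) + q % n = q := Nat.div_add_mod q n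
    rw [← h3, ← ent_eq_dg b n X _ _ h2, hXent _ h1 _ h2]
    exact hsum _ h1 _ h2
  have hXlt' : X < 2 ^ (b * (n * m)) := by rwa [← mul_assoc]
  have hred : mulN b (b * n) (enc (b * n) (fun _ => 2 ^ b - 1) m) (2 ^ (b * n)) p
      (enc b (fun _ => 1) (n * m)) k n x y = enc b (fun q => dg b X q % p) (n * m) := by
    unfold mulN
    rw [← hX]
    conv_lhs => rw [← enc_dg b (n * m) X hXlt']
    apply red_enc b p (n * m) k _ hP.hb (by have := hP.hp; omega) hP.hk
    · intro q hq
      exact lt_of_le_of_lt (hXdg q hq) hP.h1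
    · intro q hq
      exact lt_of_le_of_lt (hXdg q hq) hP.h2
  rw [hred]
  have hple : p ≤ 2 ^ b := by
    have hk := hP.hk
    have hb := hP.hb
    have : 2 * 2 ^ (b - 1) = 2 ^ b := by
      obtain ⟨c, rfl⟩ : ∃ c, b = c + 1 := ⟨b - 1, by omega⟩
      simp [pow_succ]; ring
    have h2 : p * 1 ≤ p * 2 ^ k := Nat.mul_le_mul_left _ (Nat.one_le_two_pow)
    omega
  have hpos : 0 < p := by have := hP.hp; omega
  have hdl : ∀ q < n * m, dg b X q % p < 2 ^ b := fun q _ => lt_of_lt_of_le (Nat.mod_lt _ hpos) hple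
  have hent : ∀ i < m, ∀ j < n, ent b n (enc b (fun q => dg b X q % p) (n * m)) i j = ent b n X i j % p := by
    intro i hi j hj
    rw [ent_eq_dg _ _ _ _ _ hj, ent_eq_dg _ _ _ _ _ hj]
    have hq : n * i + j < n * m := by
      have : n * (i + 1) ≤ n * m := Nat.mul_le_mul_left _ hi
      nlinarith
    rw [dg_enc b _ (n * m) hdl _ hq]
  refine ⟨⟨?_, ?_⟩, ?_⟩
  · have := enc_lt b _ (n * m) hdl
    rwa [← mul_assoc] at this
  · intro i hi j hj
    rw [hent i hi j hj]
    exact Nat.mod_lt _ hpos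
  · ext i j
    rw [Matrix.mul_apply]
    unfold toRMat
    rw [hent i i.2 j j.2, ZMod.natCast_mod, hXent i i.2 j j.2, Nat.cast_sum,
      ← Fin.sum_univ_eq_sum_range (fun t => ((ent b n x i t * ent b n y t j : ℕ) : ZMod p)) n]
    apply sum_congr rfl
    intro t _
    push_cast
    rfl

theorem enc_eq_zero {c n : ℕ} {d : ℕ → ℕ} (h : enc c d n = 0) : ∀ i < n, d i = 0 := by
  intro i hi
  unfold enc at h
  rw [sum_eq_zero_iff] at h
  have := h i (mem_range.mpr hi)
  have h2 : 0 < 2 ^ (c * i) := by positivity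
  rcases Nat.mul_eq_zero.mp this with h3 | h3
  · exact h3
  · omega

/-- validity criterion, checkable by the kernel -/
theorem valid_of_check {b n m p x : ℕ} (hb : 0 < b) (hp : p ≤ 2 ^ (b - 1)) (h0 : x < 2 ^ (b * (n * m)))
    (h1 : Nat.land x (2 ^ (b - 1) * enc b (fun _ => 1) (n * m)) = 0)
    (h2 : Nat.land (x + (2 ^ (b - 1) - p) * enc b (fun _ => 1) (n * m))
      (2 ^ (b - 1) * enc b (fun _ => 1) (n * m)) = 0) : RValid b n m p x := by
  have hbb : 2 ^ b = 2 * 2 ^ (b - 1) := by
    obtain ⟨k, rfl⟩ : ∃ k, b = k + 1 := ⟨b - 1, by omega⟩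
    simp [pow_succ]; ring
  have hpos : 0 < 2 ^ (b - 1) := by positivity
  refine ⟨by rwa [← mul_assoc] at h0, ?_⟩
  have key : ∀ q < n * m, dg b x q < p := by
    have hx := enc_dg b (n * m) x h0
    have e1 : ∀ q < n * m, Nat.land (dg b x q) (2 ^ (b - 1)) = 0 := by
      apply enc_eq_zero (c := b) (n := n * m)
      rw [← hx, mul_enc, land_enc] at h1
      · simpa using h1
      · intro i _; exact dg_lt _ _ _
      · intro i _; omega
    have e2 : ∀ q < n * m, dg b x q < 2 ^ (b - 1) := by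
      intro q hq
      by_contra hcon
      have h3 := e1 q hq
      have h4 : dg b x q < 2 ^ b := dg_lt _ _ _
      change dg b x q &&& 2 ^ (b - 1) = 0 at h3
      rw [Nat.and_two_pow, Nat.testBit_eq_decide_div_mod_eq] at h3
      have : dg b x q / 2 ^ (b - 1) = 1 := by
        apply Nat.div_eq_of_lt_le <;> omega
      rw [this] at h3
      simp at h3
    have e3 : ∀ q < n * m, Nat.land (dg b x q + (2 ^ (b - 1) - p)) (2 ^ (b - 1)) = 0 := by
      apply enc_eq_zero (c := b) (n := n * m)
      rw [← hx, mul_enc, mul_enc, enc_add, land_enc] at h2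
      · simpa using h2
      · intro i hi; have := e2 i hi; simp only [mul_one]; omega
      · intro i _; omega
    intro q hq
    have h5 := e3 q hq
    rw [bit_aux b p _ hb hp (by have := e2 q hq; omega)] at h5
    by_contra hcon
    rw [if_pos (by omega)] at h5
    omega
  intro i hi j hj
  rw [ent_eq_dg _ _ _ _ _ hj]
  apply key
  have : n * (i + 1) ≤ n * m := Nat.mul_le_mul_left _ hi
  nlinarith

/-- a valid packed matrix is determined by its matrix -/
theorem toRMat_injective {b n m p x y : ℕ} (hx : RValid b n m p x) (hy : RValid b n m p y)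
    (h : toRMat b n m p x = toRMat b n m p y) : x = y := by
  rw [← enc_dg (b * n) m x hx.1, ← enc_dg (b * n) m y hy.1]
  apply enc_congr
  intro i hi
  rw [← enc_dg b n (dg (b * n) x i) (dg_lt _ _ _), ← enc_dg b n (dg (b * n) y i) (dg_lt _ _ _)]
  apply enc_congr
  intro j hj
  have h1 := congrFun (congrFun h ⟨i, hi⟩) ⟨j, hj⟩
  have hp : 0 < p := by have := hx.2 i hi j hj; omega
  change ((ent b n x i j : ℕ) : ZMod p) = ((ent b n y i j : ℕ) : ZMod p) at h1
  rw [ZMod.natCast_eq_natCast_iff'] at h1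
  rw [Nat.mod_eq_of_lt (hx.2 i hi j hj), Nat.mod_eq_of_lt (hy.2 i hi j hj)] at h1
  exact h1

end Cfsg.Agent.Th.MatEngine
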