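/-
Lower bounds for the order of a subgroup of GL(248, 3): chains of subgroups generated by words, each one fixing a
row vector whose orbit under the previous one is an explicit list of rows of a packed matrix.
-/
import Cfsg.Agent.Th.Hom248

set_option autoImplicit false

namespace Cfsg.Agent.Th.OrbitChain

open Cfsg.Agent.Th.MatEngine Cfsg.Agent.Th.Words248 Cfsg.Agent.Th.Gen248

/-! ### group theory -/

section group

variable {G X : Type*} [Group G] [MulAction G X]

theorem card_orbit_mul_dvd (T T' : Subgroup G) [Finite T] (hle : T' ≤ T) (x : X)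
    (hfix : ∀ g ∈ T', g • x = x) : Nat.card (MulAction.orbit T x) * Nat.card T' ∣ Nat.card T := by
  have h1 : Nat.card T = Nat.card (MulAction.orbit T x) * Nat.card (MulAction.stabilizer T x) := by
    rw [← Nat.card_prod]
    exact Nat.card_congr (MulAction.orbitProdStabilizerEquivGroup T x).symm
  rw [h1]
  apply Nat.mul_dvd_mul_left
  have h2 : T'.subgroupOf T ≤ MulAction.stabilizer T x := by
    intro g hg
    rw [MulAction.mem_stabilizer_iff]
    exact hfix _ (Subgroup.mem_subgroupOf.mp hg)
  have h3 : Nat.card (T'.subgroupOf T) = Nat.card T' :=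
    Nat.card_congr (Subgroup.subgroupOfEquivOfLe hle).toEquiv
  rw [← h3]
  exact Subgroup.card_dvd_of_le h2

/-- a finite set mapped into itself by (the inverses of) all generators contains the orbits of its points -/
theorem orbit_subset (S : Set G) (A : Set X) (hA : A.Finite) (hS : ∀ g ∈ S, ∀ x ∈ A, g⁻¹ • x ∈ A) (x : X)
    (hx : x ∈ A) : MulAction.orbit (Subgroup.closure S) x ⊆ A := by
  have hstep : ∀ g ∈ S, ∀ y ∈ A, g • y ∈ A := by
    intro g hg y hy
    have hinj : Set.InjOn (fun z : X => g⁻¹ • z) A := fun a _ b _ h => MulAction.injective g⁻¹ h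
    have himg : (fun z : X => g⁻¹ • z) '' A = A := by
      apply Set.eq_of_subset_of_ncard_le _ _ hA
      · rintro _ ⟨z, hz, rfl⟩
        exact hS g hg z hz
      · rw [Set.InjOn.ncard_image hinj]
    have : y ∈ (fun z : X => g⁻¹ • z) '' A := by rw [himg]; exact hy
    obtain ⟨z, hz, hzy⟩ := this
    have : g • y = z := by rw [← hzy]; exact smul_inv_smul g z
    rw [this]; exact hz
  have hall : ∀ g ∈ Subgroup.closure S, ∀ y ∈ A, g • y ∈ A := by
    intro g hg
    induction hg using Subgroup.closure_induction'' with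
    | one => intro y hy; rwa [one_smul]
    | mem g hg => exact hstep g hg
    | inv_mem g hg => exact hS g hg
    | mul g h _ _ hg hh => intro y hy; rw [mul_smul]; exact hg _ (hh _ hy)
  rintro _ ⟨g, rfl⟩
  exact hall g g.2 x hx

end group

/-! ### rows -/

/-- row `j` of the packed matrix `R` -/
def row (R j : ℕ) : Fin 248 → ZMod 3 := fun c => (ent 11 248 R j c : ZMod 3)

theorem rmat_row {m : ℕ} (R : ℕ) (j : Fin m) : rmat m R j = row R j := rfl

theorem row_congr {R R' i j : ℕ} (h : dg 2728 R i = dg 2728 R' j) : row R i = row R' j := by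
  unfold row ent
  have e : 11 * 248 = 2728 := by norm_num
  rw [e, h]

theorem row_inj {m R i j : ℕ} (hR : ROk m R) (hi : i < m) (hj : j < m) (h : row R i = row R j) :
    dg 2728 R i = dg 2728 R j := by
  have e : 2728 = 11 * 248 := by norm_num
  have key : ∀ k, enc 11 (ent 11 248 R k) 248 = dg 2728 R k := by
    intro k
    rw [e]
    exact enc_dg 11 248 _ (dg_lt _ _ _)
  rw [← key i, ← key j]
  apply enc_congr
  intro c hc
  have h1 := congrFun h ⟨c, hc⟩
  have h2 : ((ent 11 248 R i c : ℕ) : ZMod 3) = ((ent 11 248 R j c : ℕ) : ZMod 3) := h1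
  have h3 := hR.2 i hi c hc
  have h4 := hR.2 j hj c hc
  rw [ZMod.natCast_eq_natCast_iff] at h2
  exact Nat.ModEq.eq_of_lt_of_lt h2 h3 h4

/-- check that row `j` of `X` is row `π[j]` of `R` for all `j`, parameters visible -/
noncomputable def chkRowsG (bn rmv R : ℕ) (π : List ℕ) (X : ℕ) : Bool :=
  List.rec (motive := fun _ => ℕ → Bool) (fun _ => true)
    (fun k _ ih X => force X fun X' =>
      Bool.and (Nat.beq (Nat.mod X' rmv) (Nat.mod (Nat.shiftRight R (Nat.mul bn k)) rmv))
        (ih (Nat.shiftRight X' bn))) π X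

theorem chkRowsG_cons (bn rmv R k : ℕ) (π : List ℕ) (X : ℕ) : chkRowsG bn rmv R (k :: π) X =
    Bool.and (Nat.beq (Nat.mod X rmv) (Nat.mod (Nat.shiftRight R (Nat.mul bn k)) rmv))
      (chkRowsG bn rmv R π (Nat.shiftRight X bn)) := by
  unfold chkRowsG
  change force X _ = _
  rw [force_eq]

theorem chkRowsG_spec (bn rmv R : ℕ) (hrm : rmv = 2 ^ bn) (π : List ℕ) (X : ℕ)
    (h : chkRowsG bn rmv R π X = true) : ∀ j < π.length, dg bn X j = dg bn R (π.getD j 0) := by
  induction π generalizing X with
  | nil => intro j hj; simp at hj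
  | cons k π ih =>
    rw [chkRowsG_cons] at h
    have h1 : Nat.beq (Nat.mod X rmv) (Nat.mod (Nat.shiftRight R (Nat.mul bn k)) rmv) = true ∧
        chkRowsG bn rmv R π (Nat.shiftRight X bn) = true := by
      revert h
      cases Nat.beq (Nat.mod X rmv) (Nat.mod (Nat.shiftRight R (Nat.mul bn k)) rmv)
      · intro h; exact absurd h (by simp)
      · intro h; exact ⟨rfl, h⟩
    intro j hj
    cases j with
    | zero =>
      have h2 := Nat.eq_of_beq_eq_true h1.1
      rw [hrm] at h2
      change X % 2 ^ bn = (R >>> (bn * k)) % 2 ^ bn at h2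
      rw [Nat.shiftRight_eq_div_pow] at h2
      change dg bn X 0 = dg bn R k
      unfold dg
      rw [Nat.mul_zero, pow_zero, Nat.div_one]
      exact h2
    | succ j =>
      have h3 := ih _ h1.2 j (by simpa using hj)
      change dg bn X (j + 1) = dg bn R (π.getD j 0)
      rw [← h3]
      unfold dg
      change _ = (X >>> bn) / 2 ^ (bn * j) % 2 ^ bn
      rw [Nat.shiftRight_eq_div_pow, Nat.div_div_eq_div_mul, ← pow_add]
      congr 3
      ring

/-- check that row `j` of `X` is row `π[j]` of `R` for all `j` -/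
noncomputable def chkRows (R : ℕ) (π : List ℕ) (X : ℕ) : Bool := chkRowsG 2728 rm R π X

theorem chkRows_spec (R : ℕ) (π : List ℕ) (X : ℕ) (h : chkRows R π X = true) :
    ∀ j < π.length, dg 2728 X j = dg 2728 R (π.getD j 0) :=
  chkRowsG_spec 2728 rm R rm_eq π X h

/-- kernel check for a word: row `j` of `R` times the word is row `π[j]` of `R` -/
noncomputable def chk (m R : ℕ) (w : List Lt) (π : List ℕ) : Bool := chkRows R π (actRW m w R)

/-- the meaning of a successful check -/
def Good (R : ℕ) (x : List Lt × List ℕ) : Prop :=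
  ∀ j < x.2.length, Matrix.vecMul (row R j) (glW x.1 : Matrix (Fin 248) (Fin 248) (ZMod 3)) = row R (x.2.getD j 0)

theorem good_of {m R : ℕ} {w : List Lt} {π : List ℕ} (hR : ROk m R) (hl : π.length ≤ m)
    (h : chk m R w π = true) : Good R (w, π) := by
  intro j hj
  have h1 := chkRows_spec R π _ h j hj
  have h2 := (actRW_spec m w hR).2
  have h3 := congrFun h2 ⟨j, lt_of_lt_of_le hj hl⟩
  rw [Matrix.mul_apply_eq_vecMul] at h3
  have h4 : rmat m (actRW m w R) ⟨j, lt_of_lt_of_le hj hl⟩ = row (actRW m w R) j := rfl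
  have h5 : rmat m R ⟨j, lt_of_lt_of_le hj hl⟩ = row R j := rfl
  rw [h4, h5] at h3
  change Matrix.vecMul (row R j) (glW w : Matrix (Fin 248) (Fin 248) (ZMod 3)) = row R (π.getD j 0)
  rw [← h3]
  exact row_congr h1

/-! ### one level of the chain -/

/-- subgroup generated by the words of a list -/
noncomputable def gen (L : List (List Lt × List ℕ)) : Subgroup (GL (Fin 248) (ZMod 3)) :=
  Subgroup.closure {g | ∃ x ∈ L, g = glW x.1}

theorem gen_mono {L L' : List (List Lt × List ℕ)} (h : ∀ x ∈ L', x ∈ L) : gen L' ≤ gen L := by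
  apply Subgroup.closure_mono
  rintro g ⟨x, hx, rfl⟩
  exact ⟨x, h x hx, rfl⟩

theorem gen_nil : gen [] = ⊥ := by
  unfold gen
  rw [show {g : GL (Fin 248) (ZMod 3) | ∃ x ∈ ([] : List (List Lt × List ℕ)), g = glW x.1} = ∅ by
    ext g; simp]
  exact Subgroup.closure_empty

/-- closedness and transitivity of the rows `off, ..., off + n - 1` under the words of `L` (on indices) -/
def closedB (off n : ℕ) (L : List (List Lt × List ℕ)) : Bool :=
  (L.all fun x => (List.range n).all fun j =>
    decide (off + j < x.2.length) && decide (off ≤ x.2.getD (off + j) 0) && decide (x.2.getD (off + j) 0 < off + n)) &&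
  ((List.range n).all fun j => decide (j = 0) ||
    ((List.range j).any fun k => L.any fun x => decide (off + k < x.2.length) && decide (x.2.getD (off + k) 0 = off + j)))

/-- the words of `L` fix the first row of the level -/
def fixB (off : ℕ) (L : List (List Lt × List ℕ)) : Bool :=
  L.all fun x => decide (off < x.2.length) && decide (x.2.getD off 0 = off)

/-- pairwise distinctness -/
def distinctB : List ℕ → Bool
  | [] => true
  | x :: l => (l.all fun y => !(Nat.beq x y)) && distinctB l

theorem distinctB_spec (l : List ℕ) (h : distinctB l = true) : l.Nodup := by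
  induction l with
  | nil => exact List.nodup_nil
  | cons x l ih =>
    simp only [distinctB, Bool.and_eq_true, List.all_eq_true, Bool.not_eq_true'] at h
    rw [List.nodup_cons]
    refine ⟨fun hx => ?_, ih h.2⟩
    have := h.1 x hx
    rw [Nat.beq_refl] at this
    exact Bool.noConfusion this

/-- the numbers of the rows of a level -/
noncomputable def rowNums (R off n : ℕ) : List ℕ :=
  (List.range n).map fun j => Nat.mod (Nat.shiftRight R (Nat.mul 2728 (off + j))) rm

theorem rowNums_eq (R off n : ℕ) : rowNums R off n = (List.range n).map fun j => dg 2728 R (off + j) := by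
  unfold rowNums
  apply List.map_congr_left
  intro j _
  have hrm : rm = 2 ^ 2728 := by rw [rm_eq]
  rw [hrm]
  change (R >>> (2728 * (off + j))) % 2 ^ 2728 = _
  rw [Nat.shiftRight_eq_div_pow]
  rfl

/-- the abstract form of one level of the chain: `r` is a family of points, `v` gives the group elements -/
theorem level_abs {G X W : Type*} [Group G] [MulAction G X] (r : ℕ → X) (v : W → G) (off n : ℕ) (hn : 0 < n)
    (L L' : List (W × List ℕ))
    (hL : ∀ x ∈ L, ∀ j < x.2.length, (v x.1)⁻¹ • r j = r (x.2.getD j 0))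
    (hsub : ∀ x ∈ L', x ∈ L)
    (hinj : ∀ i < n, ∀ j < n, r (off + i) = r (off + j) → i = j)
    (hc1 : ∀ x ∈ L, ∀ j < n, off + j < x.2.length ∧ off ≤ x.2.getD (off + j) 0 ∧ x.2.getD (off + j) 0 < off + n)
    (hc2 : ∀ j < n, j = 0 ∨ ∃ k < j, ∃ x ∈ L, off + k < x.2.length ∧ x.2.getD (off + k) 0 = off + j)
    (hf : ∀ x ∈ L', off < x.2.length ∧ x.2.getD off 0 = off)
    (hfin : Finite (Subgroup.closure {g : G | ∃ x ∈ L, g = v x.1})) :
    n * Nat.card (Subgroup.closure {g : G | ∃ x ∈ L', g = v x.1}) ∣
      Nat.card (Subgroup.closure {g : G | ∃ x ∈ L, g = v x.1}) := by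
  set A : Set X := (fun i : ℕ => r (off + i)) '' (Set.Iio n) with hA
  have hAfin : A.Finite := (Set.finite_Iio n).image _
  have hAcard : A.ncard = n := by
    rw [hA, Set.InjOn.ncard_image]
    · rw [Set.ncard_eq_toFinset_card' (Set.Iio n)]; simp
    · intro i hi j hj h
      exact hinj i hi j hj h
  have horb : MulAction.orbit (Subgroup.closure {g : G | ∃ x ∈ L, g = v x.1}) (r off) = A := by
    apply Set.Subset.antisymm
    · apply orbit_subset _ A hAfin
      · rintro g ⟨x, hx, rfl⟩ y ⟨j, hj, rfl⟩
        simp only [Set.mem_Iio] at hj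
        obtain ⟨h1, h2, h3⟩ := hc1 x hx j hj
        change (v x.1)⁻¹ • r (off + j) ∈ A
        rw [hL x hx (off + j) h1]
        refine ⟨x.2.getD (off + j) 0 - off, ?_, ?_⟩
        · simp only [Set.mem_Iio]; omega
        · change r (off + (x.2.getD (off + j) 0 - off)) = _
          congr 1; omega
      · exact ⟨0, hn, rfl⟩
    · rintro _ ⟨j, hj, rfl⟩
      simp only [Set.mem_Iio] at hj
      change r (off + j) ∈ _
      induction j using Nat.strong_induction_on with
      | _ j ih =>
        rcases hc2 j hj with h0 | ⟨k, hk, x, hx, h1, h2⟩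
        · subst h0
          exact MulAction.mem_orbit_self _
        · have h3 := ih k hk (by omega)
          obtain ⟨g, hg⟩ := h3
          have h4 := hL x hx (off + k) h1
          rw [h2] at h4
          have hgx : v x.1 ∈ Subgroup.closure {g : G | ∃ x ∈ L, g = v x.1} :=
            Subgroup.subset_closure ⟨x, hx, rfl⟩
          refine ⟨⟨v x.1, hgx⟩⁻¹ * g, ?_⟩
          change ((⟨v x.1, hgx⟩ : Subgroup.closure {g : G | ∃ x ∈ L, g = v x.1})⁻¹ * g) • r off = r (off + j)
          rw [mul_smul]
          have hg' : g • r off = r (off + k) := hg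
          rw [hg']
          exact h4
  have hfix : ∀ g ∈ Subgroup.closure {g : G | ∃ x ∈ L', g = v x.1}, g • r off = r off := by
    intro g hg
    have : Subgroup.closure {g : G | ∃ x ∈ L', g = v x.1} ≤ MulAction.stabilizer G (r off) := by
      rw [Subgroup.closure_le]
      rintro _ ⟨x, hx, rfl⟩
      have h1 := hf x hx
      have h2 := hL x (hsub x hx) off h1.1
      rw [h1.2] at h2
      change v x.1 ∈ MulAction.stabilizer G (r off)
      rw [← inv_mem_iff]
      exact h2
    exact this hg
  have hle : Subgroup.closure {g : G | ∃ x ∈ L', g = v x.1} ≤ Subgroup.closure {g : G | ∃ x ∈ L, g = v x.1} := by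
    apply Subgroup.closure_mono
    rintro g ⟨x, hx, rfl⟩
    exact ⟨x, hsub x hx, rfl⟩
  have h5 := card_orbit_mul_dvd (Subgroup.closure {g : G | ∃ x ∈ L, g = v x.1})
    (Subgroup.closure {g : G | ∃ x ∈ L', g = v x.1}) hle (r off) hfix
  rw [horb] at h5
  have hcard : Nat.card A = n := by rw [Nat.card_coe_set_eq]; exact hAcard
  rwa [hcard] at h5

/-- right multiplication as a left action -/
@[reducible] def rightAct (n R : Type*) [Fintype n] [DecidableEq n] [CommRing R] : MulAction (GL n R) (n → R) where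
  smul g v := Matrix.vecMul v ((g⁻¹ : GL n R) : Matrix n n R)
  one_smul v := by
    change Matrix.vecMul v (((1 : GL n R)⁻¹ : GL n R) : Matrix n n R) = v
    rw [inv_one, Units.val_one, Matrix.vecMul_one]
  mul_smul g h v := by
    change Matrix.vecMul v (((g * h)⁻¹ : GL n R) : Matrix n n R) =
      Matrix.vecMul (Matrix.vecMul v ((h⁻¹ : GL n R) : Matrix n n R)) ((g⁻¹ : GL n R) : Matrix n n R)
    rw [mul_inv_rev, Units.val_mul, Matrix.vecMul_vecMul]

theorem rightAct_smul {n R : Type*} [Fintype n] [DecidableEq n] [CommRing R] (g : GL n R) (v : n → R) :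
    (rightAct n R).toSMul.smul g⁻¹ v = Matrix.vecMul v (g : Matrix n n R) := by
  change Matrix.vecMul v (((g⁻¹)⁻¹ : GL n R) : Matrix n n R) = _
  rw [inv_inv]

/-- one level of the chain for row vectors acted on by matrices from the right -/
theorem level_gl {N K W : Type} [Fintype N] [DecidableEq N] [CommRing K] (r : ℕ → N → K) (v : W → GL N K)
    (off n : ℕ) (hn : 0 < n) (L L' : List (W × List ℕ))
    (hL : ∀ x ∈ L, ∀ j < x.2.length, Matrix.vecMul (r j) (v x.1 : Matrix N N K) = r (x.2.getD j 0))
    (hsub : ∀ x ∈ L', x ∈ L)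
    (hinj : ∀ i < n, ∀ j < n, r (off + i) = r (off + j) → i = j)
    (hc1 : ∀ x ∈ L, ∀ j < n, off + j < x.2.length ∧ off ≤ x.2.getD (off + j) 0 ∧ x.2.getD (off + j) 0 < off + n)
    (hc2 : ∀ j < n, j = 0 ∨ ∃ k < j, ∃ x ∈ L, off + k < x.2.length ∧ x.2.getD (off + k) 0 = off + j)
    (hf : ∀ x ∈ L', off < x.2.length ∧ x.2.getD off 0 = off)
    (hfin : Finite (Subgroup.closure {g : GL N K | ∃ x ∈ L, g = v x.1})) :
    n * Nat.card (Subgroup.closure {g : GL N K | ∃ x ∈ L', g = v x.1}) ∣
      Nat.card (Subgroup.closure {g : GL N K | ∃ x ∈ L, g = v x.1}) := by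
  let _ := rightAct N K
  refine level_abs r v off n hn L L' ?_ hsub hinj hc1 hc2 hf hfin
  intro x hx j hj
  exact (rightAct_smul (v x.1) (r j)).trans (hL x hx j hj)

theorem finite_sub (T : Subgroup (GL (Fin 248) (ZMod 3))) : Finite T := inferInstance

/-- closedness of the rows of a level -/
theorem closedB_spec {off n : ℕ} {L : List (List Lt × List ℕ)} (hc : closedB off n L = true) :
    (∀ x ∈ L, ∀ j < n, off + j < x.2.length ∧ off ≤ x.2.getD (off + j) 0 ∧ x.2.getD (off + j) 0 < off + n) ∧
    (∀ j < n, j = 0 ∨ ∃ k < j, ∃ x ∈ L, off + k < x.2.length ∧ x.2.getD (off + k) 0 = off + j) := by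
  simp only [closedB, Bool.and_eq_true, List.all_eq_true, List.mem_range, decide_eq_true_eq, Bool.or_eq_true,
    List.any_eq_true] at hc
  obtain ⟨hc1, hc2⟩ := hc
  refine ⟨?_, hc2⟩
  intro x hx j hj
  obtain ⟨⟨h1, h2⟩, h3⟩ := hc1 x hx j hj
  exact ⟨h1, h2, h3⟩

theorem fixB_spec {off : ℕ} {L : List (List Lt × List ℕ)} (hf : fixB off L = true) :
    ∀ x ∈ L, off < x.2.length ∧ x.2.getD off 0 = off := by
  simp only [fixB, Bool.and_eq_true, List.all_eq_true, decide_eq_true_eq] at hf
  exact hf

theorem distinct_inj {m R off n : ℕ} (hR : ROk m R) (hm : off + n ≤ m)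
    (hd : distinctB (rowNums R off n) = true) :
    ∀ i < n, ∀ j < n, row R (off + i) = row R (off + j) → i = j := by
  have hdist : (rowNums R off n).Nodup := distinctB_spec _ hd
  rw [rowNums_eq] at hdist
  intro i hi j hj h
  have h1 := row_inj hR (lt_of_lt_of_le (Nat.add_lt_add_left hi off) hm)
    (lt_of_lt_of_le (Nat.add_lt_add_left hj off) hm) h
  exact List.inj_on_of_nodup_map hdist (List.mem_range.mpr hi) (List.mem_range.mpr hj) h1

theorem level {m R : ℕ} (hR : ROk m R) (off n : ℕ) (hn : 0 < n) (hm : off + n ≤ m)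
    (L L' : List (List Lt × List ℕ)) (hL : ∀ x ∈ L, Good R x) (hsub : ∀ x ∈ L', x ∈ L)
    (hc : closedB off n L = true) (hf : fixB off L' = true) (hd : distinctB (rowNums R off n) = true) :
    n * Nat.card (gen L') ∣ Nat.card (gen L) :=
  level_gl (row R) glW off n hn L L' hL hsub (distinct_inj hR hm hd) (closedB_spec hc).1 (closedB_spec hc).2
    (fixB_spec hf) (finite_sub _)

end Cfsg.Agent.Th.OrbitChain
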