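import Cfsg.Agent.Th.Word

/-!
Permutation representation attached to a table action (`IsTab`), general orbit / chain lemmas.
-/

set_option autoImplicit false

namespace Cfsg.Agent.Th.PermTab

open Cfsg.Agent.Th.Word

variable {f : ℕ → Bool} {n : ℕ} {act : ℕ → ℕ → ℕ}

/-- the permutation of a letter -/
def permOf (h : IsTab f n act) (x : ℕ) : Equiv.Perm (Fin n) :=
  if hx : f x = true then
    { toFun := fun p => ⟨act x p, h.lt x hx p p.2⟩
      invFun := fun p => ⟨act (invL x) p, h.lt (invL x) (h.finv x hx) p p.2⟩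
      left_inv := fun p => Fin.ext (h.inv x hx p p.2)
      right_inv := fun p => Fin.ext (by
        have := h.inv (invL x) (h.finv x hx) p p.2
        rw [invL_invL] at this
        exact this) }
  else 1

/-- homomorphic version (inverse of `permOf`, since words act from the left to the right) -/
def rho (h : IsTab f n act) (x : ℕ) : Equiv.Perm (Fin n) := (permOf h x)⁻¹

theorem permOf_apply (h : IsTab f n act) {x : ℕ} (hx : f x = true) (p : Fin n) :
    ((permOf h x p : Fin n) : ℕ) = act x p := by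
  unfold permOf; rw [dif_pos hx]; rfl

theorem rho_invCompat (h : IsTab f n act) : InvCompat (rho h) := by
  intro x
  unfold rho
  congr 1
  by_cases hx : f x = true
  · have hx' := h.finv x hx
    rw [eq_inv_iff_mul_eq_one]
    ext p
    rw [Equiv.Perm.mul_apply, permOf_apply h hx', permOf_apply h hx]
    exact h.inv x hx p p.2
  · have hx' : ¬ f (invL x) = true := fun hh => hx (by simpa [invL_invL] using h.finv _ hh)
    unfold permOf
    rw [dif_neg hx, dif_neg hx', inv_one]

theorem ev_rho_inv_apply (h : IsTab f n act) {w : List ℕ} (hw : ∀ x ∈ w, f x = true) (p : Fin n) :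
    ((((ev (rho h) w)⁻¹ : Equiv.Perm (Fin n)) p : Fin n) : ℕ) = tr act w p := by
  induction w generalizing p with
  | nil => simp
  | cons x w ih =>
    rw [ev_cons, mul_inv_rev, Equiv.Perm.mul_apply, ih (fun z hz => hw z (List.mem_cons_of_mem _ hz)),
      tr_cons]
    congr 1
    unfold rho
    rw [inv_inv]
    exact permOf_apply h (hw x List.mem_cons_self) p

theorem ev_rho_eq_one (h : IsTab f n act) {w : List ℕ} (hw : ∀ x ∈ w, f x = true)
    (h1 : ∀ p < n, tr act w p = p) : ev (rho h) w = 1 := by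
  rw [← inv_eq_one]
  ext p
  rw [ev_rho_inv_apply h hw p, h1 p p.2]
  rfl

/-- pairs -/
theorem ev_pair {G₁ G₂ : Type*} [Group G₁] [Group G₂] (γ₁ : ℕ → G₁) (γ₂ : ℕ → G₂) (w : List ℕ) :
    ev (fun x => (γ₁ x, γ₂ x)) w = (ev γ₁ w, ev γ₂ w) := by
  induction w with
  | nil => rfl
  | cons x w ih => rw [ev_cons, ih]; rfl

theorem invCompat_pair {G₁ G₂ : Type*} [Group G₁] [Group G₂] {γ₁ : ℕ → G₁} {γ₂ : ℕ → G₂}
    (h₁ : InvCompat γ₁) (h₂ : InvCompat γ₂) : InvCompat (fun x => (γ₁ x, γ₂ x)) := by
  intro x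
  exact Prod.ext (h₁ x) (h₂ x)

/-- one step of a stabiliser chain: orbit points times stabiliser ≤ group -/
theorem chain_step {Γ X : Type*} [Group Γ] [MulAction Γ X] (S : Subgroup Γ) [Finite S] (β : X)
    (T : Finset X) (hT : ∀ x ∈ T, ∃ g ∈ S, g • β = x) :
    T.card * Nat.card (S ⊓ MulAction.stabilizer Γ β : Subgroup Γ) ≤ Nat.card S := by
  classical
  -- the orbit of β under S
  have h1 : Nat.card (MulAction.orbit S β) * Nat.card (MulAction.stabilizer S β) = Nat.card S := by
    have e := MulAction.orbitProdStabilizerEquivGroup S β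
    rw [← Nat.card_prod]
    exact Nat.card_congr e
  have h2 : Nat.card (MulAction.stabilizer S β) =
      Nat.card (S ⊓ MulAction.stabilizer Γ β : Subgroup Γ) := by
    refine Nat.card_congr
      { toFun := fun x => ⟨x.1.1, x.1.2, x.2⟩
        invFun := fun x => ⟨⟨x.1, x.2.1⟩, x.2.2⟩
        left_inv := fun x => rfl
        right_inv := fun x => rfl }
  have h3 : T.card ≤ Nat.card (MulAction.orbit S β) := by
    have hfin : Finite (MulAction.orbit S β) := (Set.finite_range _).to_subtype
    have hc : T.card = Nat.card T := by rw [Nat.card_eq_fintype_card, Fintype.card_coe]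
    rw [hc]
    have hm : ∀ x : T, (x : X) ∈ MulAction.orbit S β := fun x => by
      obtain ⟨g, hg, h⟩ := hT x x.2
      exact ⟨⟨g, hg⟩, h⟩
    exact Nat.card_le_card_of_injective (fun x : T => (⟨x, hm x⟩ : MulAction.orbit S β))
      (fun x y hxy => by simpa using hxy)
  rw [← h1, ← h2]
  exact Nat.mul_le_mul_right _ h3

/-- stabiliser of a point through a homomorphism to permutations -/
def stab {Γ X : Type*} [Group Γ] (α : Γ →* Equiv.Perm X) (β : X) : Subgroup Γ :=
  (MulAction.stabilizer (Equiv.Perm X) β).comap α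

theorem mem_stab {Γ X : Type*} [Group Γ] (α : Γ →* Equiv.Perm X) (β : X) (g : Γ) :
    g ∈ stab α β ↔ α g β = β := by
  unfold stab
  rw [Subgroup.mem_comap, MulAction.mem_stabilizer_iff]
  rfl

theorem chain_step' {Γ X : Type*} [Group Γ] (α : Γ →* Equiv.Perm X) (S : Subgroup Γ) [Finite S]
    (β : X) (T : Finset X) (hT : ∀ x ∈ T, ∃ g ∈ S, α g β = x) :
    T.card * Nat.card (S ⊓ stab α β : Subgroup Γ) ≤ Nat.card S := by
  letI : MulAction Γ X := MulAction.compHom X α
  exact chain_step S β T hT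

/-! ### orbit enumeration with a bitmask -/

/-- bit `p` of `m` -/
def bit (m p : ℕ) : Bool := Nat.beq (Nat.land (Nat.shiftRight m p) 1) 1

theorem bit_eq (m p : ℕ) : bit m p = m.testBit p := by
  have h1 : Nat.land (Nat.shiftRight m p) 1 = (m >>> p) % 2 := Nat.and_one_is_mod _
  have h2 : m.testBit p = decide ((m >>> p) % 2 = 1) := by
    rw [Nat.testBit_eq_decide_div_mod_eq, Nat.shiftRight_eq_div_pow]
  unfold bit
  rw [h1, h2, Bool.eq_iff_iff, Nat.beq_eq, decide_eq_true_iff]

/-- number of bits below `n` -/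
def cnt (n m : ℕ) : ℕ := Nat.rec 0 (fun k ih => Nat.add (Nat.land (Nat.shiftRight m k) 1) ih) n

theorem cnt_succ (n m : ℕ) : cnt (n + 1) m = (if m.testBit n then 1 else 0) + cnt n m := by
  show Nat.land (Nat.shiftRight m n) 1 + cnt n m = _
  congr 1
  have h1 : Nat.land (Nat.shiftRight m n) 1 = (m >>> n) % 2 := Nat.and_one_is_mod _
  rw [h1, Nat.testBit_eq_decide_div_mod_eq, Nat.shiftRight_eq_div_pow]
  rcases Nat.mod_two_eq_zero_or_one (m / 2 ^ n) with h | h <;> simp [h]

theorem cnt_eq (n m : ℕ) : cnt n m = ((Finset.range n).filter (fun p => m.testBit p = true)).card := by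
  induction n with
  | zero => rfl
  | succ n ih =>
    rw [cnt_succ, ih, Finset.range_add_one, Finset.filter_insert]
    by_cases h : m.testBit n = true
    · rw [if_pos h, if_pos h, Finset.card_insert_of_notMem (by simp), Nat.add_comm]
    · rw [if_neg h, if_neg h, Nat.zero_add]

theorem cnt_eq_fin (n m : ℕ) :
    cnt n m = ((Finset.univ : Finset (Fin n)).filter (fun p : Fin n => m.testBit (p : ℕ) = true)).card := by
  rw [cnt_eq]
  have : ((Finset.univ : Finset (Fin n)).filter (fun p : Fin n => m.testBit (p : ℕ) = true)).map Fin.valEmbedding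
      = (Finset.range n).filter (fun p => m.testBit p = true) := by
    ext p
    simp only [Finset.mem_map, Finset.mem_filter, Finset.mem_univ, true_and, Finset.mem_range,
      Fin.valEmbedding_apply]
    constructor
    · rintro ⟨q, hq, rfl⟩; exact ⟨q.2, hq⟩
    · rintro ⟨h1, h2⟩; exact ⟨⟨p, h1⟩, h2, rfl⟩
  rw [← this, Finset.card_map]

/-- expand one point by a list of generator words -/
def expand (act : ℕ → ℕ → ℕ) (gens : List (List ℕ)) (p : ℕ) (k : List ℕ → ℕ → ℕ) :
    List ℕ → ℕ → ℕ :=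
  List.rec k (fun g _ ih qs m =>
    Bool.rec (ih (tr act g p :: qs) (Nat.lor m (Nat.shiftLeft 1 (tr act g p)))) (ih qs m)
      (bit m (tr act g p))) gens

/-- orbit enumeration: fuel, queue, mask; returns the final mask -/
def bfs (act : ℕ → ℕ → ℕ) (gens : List (List ℕ)) (fuel : ℕ) : List ℕ → ℕ → ℕ :=
  Nat.rec (fun _ m => m) (fun _ ih qs m => List.rec m (fun p qs' _ => expand act gens p ih qs' m) qs) fuel

theorem bit_set (m q p : ℕ) (h : (Nat.lor m (Nat.shiftLeft 1 q)).testBit p = true) :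
    m.testBit p = true ∨ p = q := by
  have h1 : (m ||| 1 <<< q).testBit p = true := h
  rw [Nat.testBit_or, Bool.or_eq_true, Nat.one_shiftLeft, Nat.testBit_two_pow] at h1
  rcases h1 with h1 | h1
  · exact Or.inl h1
  · exact Or.inr (by simpa using (decide_eq_true_iff.mp h1).symm)

theorem expand_spec (act : ℕ → ℕ → ℕ) (P : ℕ → Prop) (Q : ℕ → Prop) (p : ℕ) (hp : P p)
    (k : List ℕ → ℕ → ℕ)
    (hk : ∀ qs m, (∀ q ∈ qs, P q) → (∀ q, m.testBit q = true → P q) → Q (k qs m))
    (gens : List (List ℕ)) (hg : ∀ g ∈ gens, ∀ q, P q → P (tr act g q)) :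
    ∀ qs m, (∀ q ∈ qs, P q) → (∀ q, m.testBit q = true → P q) → Q (expand act gens p k qs m) := by
  induction gens with
  | nil => exact hk
  | cons g gs ih =>
    intro qs m hqs hm
    have ih' := ih fun g' hg' => hg g' (List.mem_cons_of_mem _ hg')
    have hgp : P (tr act g p) := hg g List.mem_cons_self p hp
    show Q (Bool.rec (expand act gs p k (tr act g p :: qs) (Nat.lor m (Nat.shiftLeft 1 (tr act g p))))
      (expand act gs p k qs m) (bit m (tr act g p)) : ℕ)
    cases bit m (tr act g p) with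
    | true => exact ih' qs m hqs hm
    | false =>
      refine ih' _ _ ?_ ?_
      · intro q hq
        rcases List.mem_cons.mp hq with rfl | hq
        · exact hgp
        · exact hqs q hq
      · intro q hq
        rcases bit_set _ _ _ hq with hq | rfl
        · exact hm q hq
        · exact hgp

theorem bfs_spec (act : ℕ → ℕ → ℕ) (P : ℕ → Prop) (gens : List (List ℕ))
    (hg : ∀ g ∈ gens, ∀ q, P q → P (tr act g q)) (fuel : ℕ) :
    ∀ qs m, (∀ q ∈ qs, P q) → (∀ q, m.testBit q = true → P q) →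
      (∀ q, (bfs act gens fuel qs m).testBit q = true → P q) := by
  induction fuel with
  | zero => exact fun qs m _ hm => hm
  | succ n ih =>
    intro qs m hqs hm
    cases qs with
    | nil => exact hm
    | cons p qs =>
      exact expand_spec act P (fun r => ∀ q, r.testBit q = true → P q) p (hqs p List.mem_cons_self) _
        ih gens hg qs m (fun q hq => hqs q (List.mem_cons_of_mem _ hq)) hm

/-- chain step with orbit enumeration in the kernel -/
theorem chain_mask {Γ : Type*} [Group Γ] {γ : ℕ → Γ} (h : IsTab f n act)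
    (α : Γ →* Equiv.Perm (Fin n))
    (hα : ∀ w, (∀ x ∈ w, f x = true) → ∀ p : Fin n, ((α (ev γ w)⁻¹ p : Fin n) : ℕ) = tr act w p)
    (S : Subgroup Γ) [Finite S] (β : Fin n) (gens : List (List ℕ))
    (hg : ∀ g ∈ gens, (∀ x ∈ g, f x = true) ∧ ev γ g ∈ S) (fuel : ℕ) (N b : ℕ) (hb : (β : ℕ) = b)
    (hN : Nat.ble N (cnt n (bfs act gens fuel [b] (Nat.shiftLeft 1 b))) = true) :
    N * Nat.card (S ⊓ stab α β : Subgroup Γ) ≤ Nat.card S := by
  subst hb
  have hN' : N ≤ cnt n (bfs act gens fuel [β] (Nat.shiftLeft 1 β)) := Nat.ble_eq.mp hN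
  refine le_trans (Nat.mul_le_mul_right _ hN') ?_
  rw [cnt_eq_fin]
  refine chain_step' α S β _ ?_
  intro x hx
  rw [Finset.mem_filter] at hx
  have key := bfs_spec act (fun p => ∃ g ∈ S, ((α g β : Fin n) : ℕ) = p) gens ?_ fuel [β]
    (Nat.shiftLeft 1 β) ?_ ?_ x hx.2
  · obtain ⟨g, hg, h⟩ := key
    exact ⟨g, hg, Fin.ext h⟩
  · rintro w hw q ⟨g, hgS, rfl⟩
    obtain ⟨hwf, hwS⟩ := hg w hw
    refine ⟨(ev γ w)⁻¹ * g, S.mul_mem (S.inv_mem hwS) hgS, ?_⟩
    rw [map_mul, Equiv.Perm.mul_apply, hα w hwf]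
  · intro q hq
    rw [List.mem_singleton] at hq
    exact ⟨1, S.one_mem, by rw [map_one, hq]; rfl⟩
  · intro q hq
    have h0 : (Nat.lor 0 (Nat.shiftLeft 1 (β : ℕ))).testBit q = true := by
      have : Nat.lor 0 (Nat.shiftLeft 1 (β : ℕ)) = Nat.shiftLeft 1 (β : ℕ) := Nat.zero_or _
      rw [this]; exact hq
    rcases bit_set _ _ _ h0 with hq | rfl
    · simp at hq
    · exact ⟨1, S.one_mem, by rw [map_one]; rfl⟩

end Cfsg.Agent.Th.PermTab
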