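import Cfsg.Agent.Th.Base
import Cfsg.Agent.Th.Word

/-!
The relations `RelK`, `RelC` as lists of words, and the passage between the two forms.
-/

set_option autoImplicit false
set_option linter.unusedSimpArgs false

namespace Cfsg.Agent.Th.RelWords

open Cfsg.Agent.Th.Base Cfsg.Agent.Th.Word

variable {G : Type*} [Group G]

/-- the K-relators as words -/
def relK : List (List ℕ) :=
  [[1,1],[2,2],[3,3],[4,4],[5,5],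
   [1,2,1,2,1,2],[1,5,1,5],[2,3,2,3,2,3],[2,4,2,4],[2,5,2,5],
   [1,4,3,4,3,4,3,4,3],[3,5,3,5],[4,5,4,5,4,5],
   [2,3,4,5,2,3,4,5,2,3,4,5,2,3,4,5,2,3,4,5,2,3,4,5,2,3,4,5,2,3,4,5],
   [6,6,6,6,6,6,6],[7,1,6,1],[7,2,6,2],[7,3,6,3],[6,4,6,4],
   [5,7,5,6,7,7,7,5,6,6,6],
   [8,8,8],[9,1,8,1],[9,2,8,2],[9,3,8,3],[9,4,8,4],[9,5,8,5],
   [9,6,8,7,7]]

/-- the relators without b as words -/
def relC : List (List ℕ) :=
  [[1,1],[3,3],[4,4],[5,5],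
   [1,5,1,5],[1,4,3,4,3,4,3,4,3],[3,5,3,5],[4,5,4,5,4,5],
   [6,6,6,6,6,6,6],[7,1,6,1],[7,3,6,3],[6,4,6,4],
   [5,7,5,6,7,7,7,5,6,6,6],
   [8,8,8],[9,1,8,1],[9,3,8,3],[9,4,8,4],[9,5,8,5],
   [9,6,8,7,7],
   [10,10,3,1],[11,1,10,1],[11,3,10,3],[11,5,10,5],
   [4,5,11,4,10,4,5,11,4,10],[11,8,10,8],
   [5,7,7,11,6,6,5,7,7,10,6,6],
   [1,3,7,11,7,11,7,11],
   [1,3,7,11,6,10,7,11,6,10,7,11,6,10,7,11,6,10],
   [4,7,7,10,6,6,4,7,7,10,6,6,4,7,7,10,6,6,4,7,7,10,6,6,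
    7,7,5,4,3,4,5,6,6,6,5,4,3,4,5,7,4,3,4,3,1]]

theorem relK_of_words {γ : ℕ → G} (hγ : InvCompat γ) (h : ∀ r ∈ relK, ev γ r = 1) :
    RelK (γ 1) (γ 2) (γ 3) (γ 4) (γ 5) (γ 6) (γ 8) := by
  have i1 : (γ 1)⁻¹ = γ 1 := (hγ 1).symm
  have i2 : (γ 2)⁻¹ = γ 2 := (hγ 2).symm
  have i3 : (γ 3)⁻¹ = γ 3 := (hγ 3).symm
  have i4 : (γ 4)⁻¹ = γ 4 := (hγ 4).symm
  have i5 : (γ 5)⁻¹ = γ 5 := (hγ 5).symm
  have i6 : (γ 6)⁻¹ = γ 7 := (hγ 6).symm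
  have i7 : (γ 7)⁻¹ = γ 6 := (hγ 7).symm
  have i8 : (γ 8)⁻¹ = γ 9 := (hγ 8).symm
  have i9 : (γ 9)⁻¹ = γ 8 := (hγ 9).symm
  simp only [relK, List.mem_cons, forall_eq_or_imp, List.not_mem_nil, false_imp_iff, implies_true,
    ev_cons, ev_nil, mul_one, and_true] at h
  obtain ⟨h1, h2, h3, h4, h5, h6, h7, h8, h9, h10, h11, h12, h13, h14, h15, h16, h17, h18, h19, h20,
    h21, h22, h23, h24, h25, h26, h27⟩ := h
  constructor <;>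
    simp only [pow_succ, pow_zero, one_mul, mul_inv_rev, mul_assoc, i1, i2, i3, i4, i5, i6, i7, i8, i9,
      inv_inv] <;>
    assumption

theorem words_of_relK {γ : ℕ → G} (hγ : InvCompat γ)
    (h : RelK (γ 1) (γ 2) (γ 3) (γ 4) (γ 5) (γ 6) (γ 8)) : ∀ r ∈ relK, ev γ r = 1 := by
  have i1 : (γ 1)⁻¹ = γ 1 := (hγ 1).symm
  have i2 : (γ 2)⁻¹ = γ 2 := (hγ 2).symm
  have i3 : (γ 3)⁻¹ = γ 3 := (hγ 3).symm
  have i4 : (γ 4)⁻¹ = γ 4 := (hγ 4).symm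
  have i5 : (γ 5)⁻¹ = γ 5 := (hγ 5).symm
  have i6 : (γ 6)⁻¹ = γ 7 := (hγ 6).symm
  have i7 : (γ 7)⁻¹ = γ 6 := (hγ 7).symm
  have i8 : (γ 8)⁻¹ = γ 9 := (hγ 8).symm
  have i9 : (γ 9)⁻¹ = γ 8 := (hγ 9).symm
  obtain ⟨h1, h2, h3, h4, h5, h6, h7, h8, h9, h10, h11, h12, h13, h14, h15, h16, h17, h18, h19, h20,
    h21, h22, h23, h24, h25, h26, h27⟩ := h
  simp only [pow_succ, pow_zero, one_mul, mul_inv_rev, mul_assoc, i1, i2, i3, i4, i5, i6, i7, i8, i9,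
      inv_inv] at *
  simp only [relK, List.mem_cons, forall_eq_or_imp, List.not_mem_nil, false_imp_iff, implies_true,
    ev_cons, ev_nil, mul_one, and_true]
  exact ⟨h1, h2, h3, h4, h5, h6, h7, h8, h9, h10, h11, h12, h13, h14, h15, h16, h17, h18, h19, h20,
    h21, h22, h23, h24, h25, h26, h27⟩

theorem relC_of_words {γ : ℕ → G} (hγ : InvCompat γ) (h : ∀ r ∈ relC, ev γ r = 1) :
    RelC (γ 1) (γ 3) (γ 4) (γ 5) (γ 6) (γ 8) (γ 10) := by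
  have i1 : (γ 1)⁻¹ = γ 1 := (hγ 1).symm
  have i3 : (γ 3)⁻¹ = γ 3 := (hγ 3).symm
  have i4 : (γ 4)⁻¹ = γ 4 := (hγ 4).symm
  have i5 : (γ 5)⁻¹ = γ 5 := (hγ 5).symm
  have i6 : (γ 6)⁻¹ = γ 7 := (hγ 6).symm
  have i7 : (γ 7)⁻¹ = γ 6 := (hγ 7).symm
  have i8 : (γ 8)⁻¹ = γ 9 := (hγ 8).symm
  have i9 : (γ 9)⁻¹ = γ 8 := (hγ 9).symm
  have i10 : (γ 10)⁻¹ = γ 11 := (hγ 10).symm
  have i11 : (γ 11)⁻¹ = γ 10 := (hγ 11).symm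
  simp only [relC, List.mem_cons, forall_eq_or_imp, List.not_mem_nil, false_imp_iff, implies_true,
    ev_cons, ev_nil, mul_one, and_true] at h
  obtain ⟨h1, h2, h3, h4, h5, h6, h7, h8, h9, h10, h11, h12, h13, h14, h15, h16, h17, h18, h19, h20,
    h21, h22, h23, h24, h25, h26, h27, h28, h29⟩ := h
  constructor <;>
    simp only [pow_succ, pow_zero, one_mul, mul_inv_rev, mul_assoc, i1, i3, i4, i5, i6, i7, i8, i9, i10,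
      i11, inv_inv] <;>
    assumption

theorem words_of_relC {γ : ℕ → G} (hγ : InvCompat γ)
    (h : RelC (γ 1) (γ 3) (γ 4) (γ 5) (γ 6) (γ 8) (γ 10)) : ∀ r ∈ relC, ev γ r = 1 := by
  have i1 : (γ 1)⁻¹ = γ 1 := (hγ 1).symm
  have i3 : (γ 3)⁻¹ = γ 3 := (hγ 3).symm
  have i4 : (γ 4)⁻¹ = γ 4 := (hγ 4).symm
  have i5 : (γ 5)⁻¹ = γ 5 := (hγ 5).symm
  have i6 : (γ 6)⁻¹ = γ 7 := (hγ 6).symm
  have i7 : (γ 7)⁻¹ = γ 6 := (hγ 7).symm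
  have i8 : (γ 8)⁻¹ = γ 9 := (hγ 8).symm
  have i9 : (γ 9)⁻¹ = γ 8 := (hγ 9).symm
  have i10 : (γ 10)⁻¹ = γ 11 := (hγ 10).symm
  have i11 : (γ 11)⁻¹ = γ 10 := (hγ 11).symm
  obtain ⟨h1, h2, h3, h4, h5, h6, h7, h8, h9, h10, h11, h12, h13, h14, h15, h16, h17, h18, h19, h20,
    h21, h22, h23, h24, h25, h26, h27, h28, h29⟩ := h
  simp only [pow_succ, pow_zero, one_mul, mul_inv_rev, mul_assoc, i1, i3, i4, i5, i6, i7, i8, i9, i10,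
    i11, inv_inv] at *
  simp only [relC, List.mem_cons, forall_eq_or_imp, List.not_mem_nil, false_imp_iff, implies_true,
    ev_cons, ev_nil, mul_one, and_true]
  exact ⟨h1, h2, h3, h4, h5, h6, h7, h8, h9, h10, h11, h12, h13, h14, h15, h16, h17, h18, h19, h20,
    h21, h22, h23, h24, h25, h26, h27, h28, h29⟩

end Cfsg.Agent.Th.RelWords
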